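import Mathlib.FieldTheory.SeparableClosure
import Mathlib.FieldTheory.IsSepClosed
import Mathlib.RingTheory.AlgebraicIndependent.TranscendenceBasis
import Mathlib.RingTheory.AlgebraicIndependent.Transcendental
import Mathlib.Tactic.Linarith
import Mathlib.FieldTheory.IntermediateField.Adjoin.Algebra
import Mathlib.Algebra.Order.Field.Basic

/-!
# Extending the base of a finitely generated field extension to its separable closure
-/

set_option autoImplicit false
universe u

namespace K176.Compositum

/-- A finitely generated extension `K / k` of transcendence degree `n` and its compositum with a separable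
closure of `k`. -/
theorem exists_compositum (k K : Type u) [Field k] [Field K] [Algebra k K]
    (hfg : ∃ s : Finset K, IntermediateField.adjoin k (s : Set K) = ⊤) (n : ℕ) (htr : Algebra.trdeg k K = n) :
    ∃ (k' K' : Type u) (_ : Field k') (_ : Field K') (_ : Algebra k k') (_ : Algebra k' K')
      (_ : Algebra K K') (_ : Algebra k K') (_ : IsScalarTower k k' K') (_ : IsScalarTower k K K'),
      IsSepClosed k' ∧ Algebra.IsSeparable k k' ∧ Algebra.IsSeparable K K' ∧
      (∃ s : Finset K', IntermediateField.adjoin k' (s : Set K') = ⊤) ∧ Algebra.trdeg k' K' = n := by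
  classical
  let Ks := SeparableClosure K
  let _ : Algebra k Ks := ((algebraMap K Ks).comp (algebraMap k K)).toAlgebra
  have : IsScalarTower k K Ks := IsScalarTower.of_algebraMap_eq fun _ => rfl
  let k' : IntermediateField k Ks := separableClosure k Ks
  let K' : IntermediateField k' Ks := IntermediateField.adjoin k' (Set.range (algebraMap K Ks))
  have hmem : ∀ x : K, algebraMap K Ks x ∈ K' := fun x =>
    IntermediateField.subset_adjoin _ _ ⟨x, rfl⟩
  let _ : Algebra K K' := ((algebraMap K Ks).codRestrict K'.toSubalgebra.toSubring hmem).toAlgebra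
  have : IsScalarTower K K' Ks := IsScalarTower.of_algebraMap_eq fun _ => rfl
  have h1 : IsScalarTower k k' K' := inferInstance
  have h2 : IsScalarTower k K K' := IsScalarTower.of_algebraMap_eq fun x => Subtype.ext rfl
  have hKs : Algebra.IsSeparable K Ks := inferInstance
  have hsc : IsSepClosed Ks := inferInstance
  have h3 : IsSepClosed k' := (separableClosure.isSepClosure k Ks).sep_closed
  have h4 : Algebra.IsSeparable k k' := inferInstance
  have h5 : Algebra.IsSeparable K K' := Algebra.isSeparable_tower_bot_of_isSeparable K K' Ks
  refine ⟨k', K', inferInstance, inferInstance, inferInstance, inferInstance, inferInstance, inferInstance,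
    h1, h2, h3, h4, h5, ?_, ?_⟩
  · obtain ⟨s, hs⟩ := hfg
    refine ⟨s.image (algebraMap K K'), ?_⟩
    apply IntermediateField.lift_injective K'
    rw [IntermediateField.lift_adjoin, IntermediateField.lift_top]
    apply le_antisymm
    · rw [IntermediateField.adjoin_le_iff]
      rintro _ ⟨y, -, rfl⟩
      exact y.2
    · rw [IntermediateField.adjoin_le_iff]
      rintro _ ⟨x, rfl⟩
      let E : IntermediateField k' Ks := IntermediateField.adjoin k'
        (K'.val '' ((s.image (algebraMap K K') : Finset K') : Set K'))
      let E₀ : IntermediateField k K := (E.restrictScalars k).comap (IsScalarTower.toAlgHom k K Ks)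
      have h6 : (⊤ : IntermediateField k K) ≤ E₀ := by
        rw [← hs, IntermediateField.adjoin_le_iff]
        intro y hy
        change algebraMap K Ks y ∈ E
        refine IntermediateField.subset_adjoin _ _ ⟨algebraMap K K' y, ?_, rfl⟩
        rw [Finset.coe_image]
        exact ⟨y, hy, rfl⟩
      exact h6 (IntermediateField.mem_top (x := x))
  · have h6 : Algebra.IsAlgebraic K K' := inferInstance
    have h7 : Algebra.IsAlgebraic k k' := inferInstance
    have h8 := trdeg_add_eq k K (A := K')
    have h9 := trdeg_add_eq k k' (A := K')
    have e1 : Algebra.trdeg K K' = 0 := trdeg_eq_zero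
    have e2 : Algebra.trdeg k k' = 0 := trdeg_eq_zero
    rw [e1, add_zero, htr] at h8
    rw [e2, zero_add] at h9
    rw [h9, ← h8]

/-- A separably closed field is not orderable. -/
theorem not_orderable (k : Type u) [Field k] [IsSepClosed k] :
    ¬ ∃ _ : LinearOrder k, IsStrictOrderedRing k := by
  rintro ⟨_, _⟩
  have : NeZero ((2 : ℕ) : k) := ⟨by norm_num⟩
  obtain ⟨z, hz⟩ := IsSepClosed.exists_pow_nat_eq (-1 : k) 2
  have h1 := sq_nonneg z
  rw [hz] at h1
  linarith [zero_lt_one (α := k)]

end K176.Compositum
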