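import Groth.Prelude.Def_EtDepth
import Groth.Agent.Sga4B.ConstLC
import Groth.Agent.Sga4h.LocCohLES
import Groth.Agent.Pi1C.IdemCrit

/-!
# Étale depth `≥ 1`, `≥ 2` of constant sheaves, locally constant functions and clopen subsets
-/

set_option autoImplicit false
universe u
open CategoryTheory CategoryTheory.Limits AlgebraicGeometry Opposite

namespace K176.ConstDepth

open Groth.Agent.Sga4B.ConstLC Groth.Agent.Sga4h.LocCohLES

/-- clopen subsets are determined by their restriction -/
def CI {P V : Scheme.{u}} (i : P ⟶ V) : Prop := ∀ U : Set V, IsClopen U → i ⁻¹' U = ∅ → U = ∅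

/-- clopen subsets extend -/
def CL {P V : Scheme.{u}} (i : P ⟶ V) : Prop :=
  ∀ W : Set P, IsClopen W → ∃ U : Set V, IsClopen U ∧ i ⁻¹' U = W

section Top

variable {P V : Scheme.{u}} (i : P ⟶ V) {A : Type (u + 1)}

/-- two-valued function -/
noncomputable def two {V : Scheme.{u}} (a b : A) {U : Set V} (hU : IsClopen U) : LocallyConstant V A where
  toFun v := by
    classical
    exact if v ∈ U then a else b
  isLocallyConstant := by
    classical
    rw [IsLocallyConstant.iff_exists_open]
    intro x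
    by_cases hx : x ∈ U
    · exact ⟨U, hU.isOpen, hx, fun y hy => by simp [hx, hy]⟩
    · exact ⟨Uᶜ, hU.compl.isOpen, hx, fun y hy => by
        have hy' : y ∉ U := hy
        simp [hx, hy']⟩

theorem two_of_mem {V : Scheme.{u}} (a b : A) {U : Set V} (hU : IsClopen U) {v : V} (hv : v ∈ U) :
    two a b hU v = a := by
  classical
  exact if_pos hv

theorem two_of_notMem {V : Scheme.{u}} (a b : A) {U : Set V} (hU : IsClopen U) {v : V} (hv : v ∉ U) :
    two a b hU v = b := by
  classical
  exact if_neg hv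

theorem comap_coe (f : LocallyConstant V A) (p : P) :
    LocallyConstant.comap (cmap i) f p = f (i p) := rfl

theorem ci_of_injective {a b : A} (hab : a ≠ b)
    (h : Function.Injective (LocallyConstant.comap (Z := A) (cmap i))) : CI i := by
  intro U hU hi
  have h1 : two a b hU = two b b hU := h (by
    ext p
    rw [comap_coe, comap_coe]
    have hp : i p ∉ U := fun hp => by
      have : p ∈ i ⁻¹' U := hp
      rw [hi] at this
      exact this
    rw [two_of_notMem a b hU hp, two_of_notMem b b hU hp])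
  rw [Set.eq_empty_iff_forall_notMem]
  intro v hv
  have h2 := congrArg (fun f : LocallyConstant V A => f v) h1
  simp only [two_of_mem _ _ hU hv] at h2
  exact hab h2

theorem isClopen_ne (f g : LocallyConstant V A) : IsClopen {v | f v ≠ g v} := by
  have h : IsLocallyConstant (fun v => (f v, g v)) := f.isLocallyConstant.prodMk g.isLocallyConstant
  exact ⟨⟨h {q : A × A | q.1 ≠ q.2}ᶜ⟩, h {q : A × A | q.1 ≠ q.2}⟩

theorem injective_of_ci (h : CI i) :
    Function.Injective (LocallyConstant.comap (Z := A) (cmap i)) := by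
  intro f g hfg
  have h1 := h {v | f v ≠ g v} (isClopen_ne f g) (by
    rw [Set.eq_empty_iff_forall_notMem]
    intro p hp
    exact hp (congrArg (fun q : LocallyConstant P A => q p) hfg))
  ext v
  by_contra hv
  have : v ∈ {v | f v ≠ g v} := hv
  rw [h1] at this
  exact this

theorem cl_of_surjective {a b : A} (hab : a ≠ b)
    (h : Function.Surjective (LocallyConstant.comap (Z := A) (cmap i))) : CL i := by
  intro W hW
  obtain ⟨f, hf⟩ := h (two a b hW)
  refine ⟨f ⁻¹' {a}, f.isLocallyConstant.isClopen_fiber a, ?_⟩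
  ext p
  have h1 : f (i p) = two a b hW p := congrArg (fun q : LocallyConstant P A => q p) hf
  change f (i p) = a ↔ p ∈ W
  rw [h1]
  by_cases hp : p ∈ W
  · simp [two_of_mem a b hW hp, hp]
  · simp [two_of_notMem a b hW hp, hp, hab.symm]

theorem surjective_of_cl [AddCommGroup A] [Finite A] (h : CL i) :
    Function.Surjective (LocallyConstant.comap (Z := A) (cmap i)) := by
  classical
  have := Fintype.ofFinite A
  intro s
  choose C hC hC' using fun a : A => h (s ⁻¹' {a}) (s.isLocallyConstant.isClopen_fiber a)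
  refine ⟨∑ a : A, two a 0 (hC a), ?_⟩
  ext p
  rw [comap_coe]
  have h1 : (∑ a : A, two a 0 (hC a)) (i p) = ∑ a : A, two a 0 (hC a) (i p) := by
    rw [← LocallyConstant.coeFnAddMonoidHom_apply, map_sum, Finset.sum_apply]
    rfl
  rw [h1, Finset.sum_eq_single (s p)]
  · have h2 : p ∈ i ⁻¹' C (s p) := by
      rw [hC']
      rfl
    exact two_of_mem _ _ _ h2
  · intro a _ ha
    have h2 : p ∉ i ⁻¹' C a := by
      rw [hC']
      exact fun h => ha h.symm
    exact two_of_notMem _ _ _ h2
  · intro h
    exact absurd (Finset.mem_univ _) h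

end Top

section Iso

variable {P P' V : Scheme.{u}} {i : P ⟶ V} {i' : P' ⟶ V}

theorem CI.congr (e : P' ≅ P) (he : e.hom ≫ i = i') (h : CI i) : CI i' := by
  subst he
  intro U hU h1
  refine h U hU ?_
  rw [Set.eq_empty_iff_forall_notMem] at h1 ⊢
  intro p hp
  refine h1 (e.inv p) ?_
  change (e.hom ≫ i) (e.inv p) ∈ U
  rw [← Scheme.Hom.comp_apply, e.inv_hom_id_assoc]
  exact hp

theorem CL.congr (e : P' ≅ P) (he : e.hom ≫ i = i') (h : CL i) : CL i' := by
  subst he
  intro W hW
  obtain ⟨U, hU, h1⟩ := h (e.inv ⁻¹' W) (hW.preimage e.inv.continuous)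
  refine ⟨U, hU, ?_⟩
  have h2 : (e.hom ≫ i) ⁻¹' U = e.hom ⁻¹' (i ⁻¹' U) := by
    ext p
    simp [Scheme.Hom.comp_apply]
  rw [h2, h1]
  ext p
  change e.inv (e.hom p) ∈ W ↔ _
  rw [← Scheme.Hom.comp_apply, e.hom_inv_id]
  rfl

end Iso

/-! ### Depth of constant sheaves -/

section Depth

variable {X U : Scheme.{u}} (j : U ⟶ X) [IsOpenImmersion j]

theorem mono_unit_const_iff (M : Type) [AddCommGroup M] :
    Mono ((EtCoh.pullPushAdj j).unit.app (EtCoh.const X M)) ↔ Mono (LCres j (ULift.{u + 1} M)) := by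
  have h1 : Mono ((EtCoh.pullPushAdj j).unit.app (EtCoh.const X M)) ↔
      Mono ((EtCoh.pullPushAdj j).unit.app (LC X (ULift.{u + 1} M))) :=
    (MorphismProperty.monomorphisms (EtCoh.Ab X)).arrow_mk_iso_iff
      (Arrow.isoMk (constIso X M) ((EtCoh.pull j ⋙ EtCoh.push j).mapIso (constIso X M))
        ((EtCoh.pullPushAdj j).unit.naturality (constIso X M).hom))
  rw [h1, ← unit_LCpull j]
  constructor
  · intro h
    infer_instance
  · intro h
    exact mono_of_mono _ ((EtCoh.push j).map (LCpull j (ULift.{u + 1} M)))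

theorem mono_LCres_iff (A : Type (u + 1)) [AddCommGroup A] :
    Mono (LCres j A) ↔ ∀ V : X.Etale, Function.Injective (LocallyConstant.comap (Z := A)
      (cmap (pullback.fst V.hom j : ((EtCoh.bc j).obj V).left ⟶ V.left))) := by
  constructor
  · intro h V
    have h1 : Mono ((sheafToPresheaf X.smallEtaleTopology AddCommGrpCat.{u + 1}).map (LCres j A)) :=
      inferInstance
    have h2 : Mono (((sheafToPresheaf X.smallEtaleTopology AddCommGrpCat.{u + 1}).map (LCres j A)).app (op V)) :=
      inferInstance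
    exact (AddCommGrpCat.mono_iff_injective _).1 h2
  · intro h
    have h1 : Mono ((sheafToPresheaf X.smallEtaleTopology AddCommGrpCat.{u + 1}).map (LCres j A)) := by
      have : ∀ V, Mono (((sheafToPresheaf X.smallEtaleTopology AddCommGrpCat.{u + 1}).map (LCres j A)).app V) :=
        fun V => (AddCommGrpCat.mono_iff_injective _).2 (h V.unop)
      exact NatTrans.mono_of_mono_app _
    exact (sheafToPresheaf X.smallEtaleTopology AddCommGrpCat.{u + 1}).mono_of_mono_map h1

theorem isIso_LCres_iff (A : Type (u + 1)) [AddCommGroup A] :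
    IsIso (LCres j A) ↔ ∀ V : X.Etale, Function.Bijective (LocallyConstant.comap (Z := A)
      (cmap (pullback.fst V.hom j : ((EtCoh.bc j).obj V).left ⟶ V.left))) := by
  constructor
  · intro h V
    have h1 : IsIso ((sheafToPresheaf X.smallEtaleTopology AddCommGrpCat.{u + 1}).map (LCres j A)) :=
      inferInstance
    have h2 : IsIso (((sheafToPresheaf X.smallEtaleTopology AddCommGrpCat.{u + 1}).map (LCres j A)).app (op V)) :=
      inferInstance
    exact (ConcreteCategory.isIso_iff_bijective _).1 h2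
  · exact isIso_LCres j A

/-- Depth `≥ 1` of a nonzero constant sheaf. -/
theorem depthGE_one_iff [EtCoh.BCCont j] (M : Type) [AddCommGroup M] [Nontrivial M] :
    EtDepth.DepthGE j (EtCoh.const X M) 1 ↔
      ∀ V : X.Etale, CI (pullback.fst V.hom j : ((EtCoh.bc j).obj V).left ⟶ V.left) := by
  have h1 : EtDepth.DepthGE j (EtCoh.const X M) 1 ↔
      Mono ((EtCoh.pullPushAdj j).unit.app (EtCoh.const X M)) := by
    constructor
    · intro h
      exact (isZero_locCoh_zero_iff j _).1 (h 0 Nat.one_pos)
    · intro h p hp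
      obtain rfl : p = 0 := by omega
      exact (isZero_locCoh_zero_iff j _).2 h
  rw [h1, mono_unit_const_iff, mono_LCres_iff]
  obtain ⟨a, b, hab⟩ := exists_pair_ne M
  exact forall_congr' fun V => ⟨fun h => ci_of_injective _ (a := ULift.up a) (b := ULift.up b)
    (fun h' => hab (congrArg ULift.down h')) h, fun h => injective_of_ci _ h⟩

/-- Depth `≥ 2` of a nonzero finite constant sheaf. -/
theorem depthGE_two_iff [EtCoh.BCCont j] (M : Type) [AddCommGroup M] [Nontrivial M] [Finite M] :
    EtDepth.DepthGE j (EtCoh.const X M) 2 ↔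
      ∀ V : X.Etale, CI (pullback.fst V.hom j : ((EtCoh.bc j).obj V).left ⟶ V.left) ∧
        CL (pullback.fst V.hom j : ((EtCoh.bc j).obj V).left ⟶ V.left) := by
  have h1 : EtDepth.DepthGE j (EtCoh.const X M) 2 ↔
      IsIso ((EtCoh.pullPushAdj j).unit.app (EtCoh.const X M)) := by
    constructor
    · intro h
      have h2 : Mono ((EtCoh.pullPushAdj j).unit.app (EtCoh.const X M)) :=
        (isZero_locCoh_zero_iff j _).1 (h 0 (by omega))
      have h3 : Epi ((EtCoh.pullPushAdj j).unit.app (EtCoh.const X M)) :=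
        (isZero_locCoh_one_iff j _).1 (h 1 (by omega))
      exact isIso_of_mono_of_epi _
    · intro h p hp
      have h2 : Mono (EtDual.unitApp j (EtCoh.const X M)) :=
        inferInstanceAs (Mono ((EtCoh.pullPushAdj j).unit.app (EtCoh.const X M)))
      have h3 : Epi (EtDual.unitApp j (EtCoh.const X M)) :=
        inferInstanceAs (Epi ((EtCoh.pullPushAdj j).unit.app (EtCoh.const X M)))
      interval_cases p
      · exact (isZero_locCoh_zero_iff j _).2 h2
      · exact (isZero_locCoh_one_iff j _).2 h3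
  rw [h1, isIso_unit_const_iff, isIso_LCres_iff]
  obtain ⟨a, b, hab⟩ := exists_pair_ne M
  have hab' : (ULift.up a : ULift.{u + 1} M) ≠ ULift.up b := fun h' => hab (congrArg ULift.down h')
  exact forall_congr' fun V => ⟨fun h => ⟨ci_of_injective _ hab' h.1, cl_of_surjective _ hab' h.2⟩,
    fun h => ⟨injective_of_ci _ h.1, surjective_of_cl _ h.2⟩⟩

end Depth

/-! ### Finite étale covers -/

section Cov

theorem ci_of_faithful {X S : Scheme.{u}} (f : X ⟶ S) (h : (FEt.restrict f).Faithful) (T : FEt.Cat S) :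
    CI (pullback.fst T.hom f) := by
  intro U hU hi
  obtain ⟨e, he, rfl⟩ := Groth.Agent.Pi1C.IdemCrit.exists_idem_of_isClopen hU
  have h3 : (pullback.fst T.hom f).appTop e = 0 := by
    apply Groth.Agent.Pi1C.IdemCrit.eq_zero_of_basicOpen_eq_bot
    · rw [← map_mul, he]
    · rw [← Scheme.preimage_basicOpen_top]
      exact TopologicalSpace.Opens.ext hi
  have h4 := Groth.Agent.Pi1C.IdemCrit.idem_eq_of_faithful f T e 0 he (by simp) (by rw [h3, map_zero])
  rw [h4, Scheme.basicOpen_zero]
  rfl

theorem cl_of_full {X S : Scheme.{u}} (f : X ⟶ S) (h : (FEt.restrict f).Full) (T : FEt.Cat S) :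
    CL (pullback.fst T.hom f) := by
  intro V hV
  obtain ⟨e, he, rfl⟩ := Groth.Agent.Pi1C.IdemCrit.exists_idem_of_isClopen hV
  obtain ⟨e', he', rfl⟩ := Groth.Agent.Pi1C.IdemCrit.exists_idem_of_full f T e he
  refine ⟨_, Groth.Agent.Pi1C.IdemCrit.isClopen_basicOpen he', ?_⟩
  rw [← Scheme.preimage_basicOpen_top]
  rfl

variable {X U : Scheme.{u}} (j : U ⟶ X) [IsOpenImmersion j]

/-- Two open immersions with the same range. -/
theorem exists_iso {X' T : Scheme.{u}} (g : X' ⟶ X) (t : T ⟶ X') (q : T ⟶ X) (hq : t ≫ g = q) :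
    ∃ e : pullback t (pullback.snd j g) ≅ pullback q j,
      e.hom ≫ pullback.fst q j = pullback.fst t (pullback.snd j g) := by
  subst hq
  refine ⟨IsOpenImmersion.isoOfRangeEq (pullback.fst t (pullback.snd j g)) (pullback.fst (t ≫ g) j) ?_,
    IsOpenImmersion.isoOfRangeEq_hom_fac _ _ _⟩
  rw [Scheme.Pullback.range_fst, Scheme.Pullback.range_fst, Scheme.Pullback.range_snd]
  rfl

/-- `V` as a finite étale cover of itself. -/
noncomputable def self (V : Scheme.{u}) : FEt.Cat V :=
  MorphismProperty.Over.mk ⊤ (𝟙 V) ⟨inferInstance, inferInstance⟩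

theorem ci_of_restrict (V : X.Etale) (h : (FEt.restrict (pullback.snd j V.hom)).Faithful) :
    CI (pullback.fst V.hom j : ((EtCoh.bc j).obj V).left ⟶ V.left) := by
  obtain ⟨e, he⟩ := exists_iso j V.hom (𝟙 V.left) V.hom (Category.id_comp _)
  exact (ci_of_faithful _ h (self V.left)).congr e.symm ((congrArg (fun q => e.inv ≫ q) he.symm).trans (e.inv_hom_id_assoc _))

theorem cl_of_restrict (V : X.Etale) (h : (FEt.restrict (pullback.snd j V.hom)).Full) :
    CL (pullback.fst V.hom j : ((EtCoh.bc j).obj V).left ⟶ V.left) := by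
  obtain ⟨e, he⟩ := exists_iso j V.hom (𝟙 V.left) V.hom (Category.id_comp _)
  exact (cl_of_full _ h (self V.left)).congr e.symm ((congrArg (fun q => e.inv ≫ q) he.symm).trans (e.inv_hom_id_assoc _))

theorem faithful_iff : (∀ V : X.Etale, CI (pullback.fst V.hom j : ((EtCoh.bc j).obj V).left ⟶ V.left)) ↔
    ∀ (X' : Scheme.{u}) (g : X' ⟶ X) [Etale g], (FEt.restrict (pullback.snd j g)).Faithful := by
  constructor
  · intro h X' g hg
    refine Groth.Agent.Pi1A.ClopenCrit.restrict_faithful_of_isClopen _ fun T => ?_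
    have hT : Etale T.hom := T.prop.2
    have hT2 : Etale (T.hom ≫ g) := inferInstance
    obtain ⟨e, he⟩ := exists_iso j g T.hom _ rfl
    exact (h (Scheme.Etale.mk (T.hom ≫ g))).congr e he
  · intro h V
    have hV : Etale V.hom := V.prop
    exact ci_of_restrict j V (h V.left V.hom)

theorem fullyFaithful_iff : (∀ V : X.Etale,
      CI (pullback.fst V.hom j : ((EtCoh.bc j).obj V).left ⟶ V.left) ∧
      CL (pullback.fst V.hom j : ((EtCoh.bc j).obj V).left ⟶ V.left)) ↔
    ∀ (X' : Scheme.{u}) (g : X' ⟶ X) [Etale g],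
      (FEt.restrict (pullback.snd j g)).Full ∧ (FEt.restrict (pullback.snd j g)).Faithful := by
  constructor
  · intro h X' g hg
    refine Groth.Agent.Pi1A.ClopenCrit.restrict_fullyFaithful_of_isClopen _ (fun T => ?_) (fun T => ?_)
    · have hT : Etale T.hom := T.prop.2
      have hT2 : Etale (T.hom ≫ g) := inferInstance
      obtain ⟨e, he⟩ := exists_iso j g T.hom _ rfl
      exact (h (Scheme.Etale.mk (T.hom ≫ g))).1.congr e he
    · have hT : Etale T.hom := T.prop.2
      have hT2 : Etale (T.hom ≫ g) := inferInstance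
      obtain ⟨e, he⟩ := exists_iso j g T.hom _ rfl
      exact (h (Scheme.Etale.mk (T.hom ≫ g))).2.congr e he
  · intro h V
    have hV : Etale V.hom := V.prop
    exact ⟨ci_of_restrict j V (h V.left V.hom).2, cl_of_restrict j V (h V.left V.hom).1⟩

end Cov

end K176.ConstDepth
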