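import Groth.Agent.EtDepth.K176.DLoc
import Groth.Agent.Sga4h.BidGlobDual
import Groth.Agent.Sga4B.ZModInj

/-!
# Vanishing of `Hom(Z, X[i])` by duality: abstract part
-/

set_option autoImplicit false
set_option backward.defeqAttrib.useBackward true
set_option backward.isDefEq.respectTransparency false

universe w w' w'' v₁ v₂ u₁ u₂ t

-- kernel speed: the same instance path on `ℤ` as in the files on complexes
attribute [-instance] ConditionallyCompletePartialOrderSup.toPartialOrder ConditionallyCompletePartialOrderInf.toPartialOrder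

namespace K176.DHom

open CategoryTheory Category Limits HomologicalComplex CochainComplex Opposite ZeroObject Pretriangulated
open Groth.Agent.Sga4h.DualCx Groth.Agent.Sga4h.DualSelf Groth.Agent.Sga4h.Refl
open Groth.Agent.Etdl.H424 Groth.Agent.Etdl.H860 Groth.Agent

section

variable {C : Type u₁} [Category.{v₁} C] [Abelian C] [HasDerivedCategory.{w} C] {T : C ⥤ C ⥤ C} [T.Additive]
  [∀ X, (T.obj X).Additive]
  [∀ (K₁ K₂ : CochainComplex C ℤ), CochainComplex.HasMapBifunctor K₁ K₂ T]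
  [∀ E : CochainComplex C ℤ, (T.map₂CochainComplex.flip.obj E).IsLeftAdjoint]
  [∀ (J : Type), HasColimitsOfShape (Discrete J) C]
  [∀ (J : Type), (colim : (Discrete J ⥤ C) ⥤ C).PreservesMonomorphisms]
  (A : DualData T)

/-- `Hom(D M, I[r]) = Hom(I, M[r])` for `M` reflexive. -/
theorem subsingleton_hom_D {I : C} (ρ : T.flip.obj I ≅ 𝟭 C)
    (j : (CochainComplex.singleFunctor C 0).obj I ⟶ A.J) (hj : QuasiIso j) (M : CochainComplex C ℤ)
    (hM : A.Refl M) (r : ℤ)
    (h : Subsingleton ((DerivedCategory.singleFunctor C 0).obj I ⟶ (DerivedCategory.Q.obj M)⟦r⟧)) :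
    Subsingleton (DerivedCategory.Q.obj (A.D M) ⟶ ((DerivedCategory.singleFunctor C 0).obj I)⟦r⟧) := by
  obtain ⟨e⟩ := Sga4h.BidGlobU.nonempty_homUnit A ρ j hj (A.D M) r
  have h1 : IsIso (DerivedCategory.Q.map (A.ev M)) :=
    (DerivedCategory.isIso_Q_map_iff_quasiIso C _).2 hM.qis
  let e1 := (Iso.homCongr (Iso.refl ((DerivedCategory.singleFunctor C 0).obj I))
    ((CategoryTheory.shiftFunctor (DerivedCategory C) r).mapIso (asIso (DerivedCategory.Q.map (A.ev M)))))
  exact (e.symm.trans e1.symm).injective.subsingleton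

end

section

variable {C : Type u₁} [Category.{v₁} C] [Abelian C] [HasDerivedCategory.{w} C] [HasExt.{w'} C]
  {Z I : C} {N n : ℕ} {tr : Abelian.Ext.{w'} Z I N →+ ZMod n}

open Sga4h.BidGlobDual

/-- Vanishing by perfect duality. -/
theorem eq_zero_of_perf (hn : n ≠ 0) (B : SheafDual n tr) (X : DerivedCategory C) (a b : ℤ) [X.IsGE a]
    [X.IsLE b] (i : ℤ)
    (h : Subsingleton (X ⟶ ((DerivedCategory.singleFunctor C 0).obj I)⟦(N : ℤ) - i⟧))
    (f : (DerivedCategory.singleFunctor C 0).obj Z ⟶ X⟦i⟧) : f = 0 := by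
  have hP := B.perf (Sga4B.DualFT.injOn_zmod.{w'} n hn) (Sga4B.DualFT.injOn_zmod.{w} n hn) X a b
    (N - i) i (by lia)
  refine Sga4B.ZModInj.eq_zero_of_forall n (Nat.pos_of_ne_zero hn)
    (G := ((DerivedCategory.singleFunctor C 0).obj Z ⟶ X⟦i⟧)) (fun x => nsmul_eq_zero B.tors _ x) f (fun β => ?_)
  obtain ⟨g, hg⟩ := hP.2 β
  have hg0 : g = 0 := Subsingleton.elim (α := X ⟶ ((DerivedCategory.singleFunctor C 0).obj I)⟦(N : ℤ) - i⟧) g 0
  rw [← hg, hg0, map_zero, AddMonoidHom.zero_apply]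

end

section

variable {C : Type u₁} [Category.{v₁} C] [Abelian C] [HasDerivedCategory.{w} C]
  {C' : Type u₂} [Category.{v₂} C'] [Abelian C'] [HasDerivedCategory.{w'} C']
  {E : C' ⥤ C} {R : C ⥤ C'} (adj : E ⊣ R) [E.Additive] [PreservesFiniteLimits E] [PreservesFiniteColimits E]
  [R.Additive] [PreservesFiniteLimits R] [PreservesFiniteColimits R]

include adj in
/-- Adjunction. -/
theorem subsingleton_hom_E (X : DerivedCategory C') (I : C) (I' : C') (e : R.obj I ≅ I') (r : ℤ)
    (h : Subsingleton (X ⟶ ((DerivedCategory.singleFunctor C' 0).obj I')⟦r⟧)) :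
    Subsingleton (E.mapDerivedCategory.obj X ⟶ ((DerivedCategory.singleFunctor C 0).obj I)⟦r⟧) := by
  let e1 : R.mapDerivedCategory.obj (((DerivedCategory.singleFunctor C 0).obj I)⟦r⟧) ≅
      ((DerivedCategory.singleFunctor C' 0).obj I')⟦r⟧ :=
    (R.mapDerivedCategory.commShiftIso r).app _ ≪≫ (CategoryTheory.shiftFunctor _ r).mapIso
      ((R.mapDerivedCategorySingleFunctor 0).app I ≪≫ (DerivedCategory.singleFunctor C' 0).mapIso e)
  exact (((CohtopB.ExactDerAdj.derivedAdj adj).homEquiv X _).trans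
    (Iso.homCongr (Iso.refl X) e1)).injective.subsingleton

end

end K176.DHom
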