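import Groth.Agent.EtDepth.K176.DP
import Groth.Agent.Sga4h.BidGlobU
import Groth.Agent.CohtopB.ExactDerAdj

/-!
# The dual of an extension by zero is a local object

`A : DualData T` duality data on `C`, `E ⊣ R` exact functors between `C'` and `C`, `E` fully faithful, such that
`R (H^q (D K)) = 0` for all `q` if `R (H^q K) = 0` for all `q`.
* `hom_eq_zero`: `Hom(T, D (E G')) = 0` if `R T` is acyclic;
* `isIso_R_Dmap`: `R (D φ)` is a quasi-isomorphism if `R φ` is;
* `nonempty_iso`: for `F` reflexive, `D E R D F = P⁺ R⁺ F`, where `R ⊣ P`.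
-/

set_option autoImplicit false
set_option backward.defeqAttrib.useBackward true
set_option backward.isDefEq.respectTransparency false

universe w w' v₁ v₂ u₁ u₂

-- kernel speed: the same instance path on `ℤ` as in the files on complexes
attribute [-instance] ConditionallyCompletePartialOrderSup.toPartialOrder ConditionallyCompletePartialOrderInf.toPartialOrder

namespace K176.DLoc

open CategoryTheory Category Limits HomologicalComplex CochainComplex Opposite ZeroObject Pretriangulated
open Groth.Agent.Sga4h.DualCx Groth.Agent.Sga4h.DualSelf Groth.Agent.Sga4h.Refl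
open Groth.Agent.Etdl.H424 Groth.Agent.Etdl.H860 Groth.Agent

section Van

variable {C : Type u₁} [Category.{v₁} C] [Abelian C] [HasDerivedCategory.{w} C]
  {C' : Type u₂} [Category.{v₂} C'] [Abelian C'] [HasDerivedCategory.{w'} C']
  (R : C ⥤ C') [R.Additive] [PreservesFiniteLimits R] [PreservesFiniteColimits R]

omit [HasDerivedCategory.{w} C] [HasDerivedCategory.{w'} C'] [R.Additive] [PreservesFiniteLimits R]
  [PreservesFiniteColimits R] in
/-- `R K` is acyclic. -/
def Van (K : CochainComplex C ℤ) : Prop := ∀ q, IsZero (R.obj (K.homology q))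

theorem van_iff (K : CochainComplex C ℤ) :
    Van R K ↔ IsZero (R.mapDerivedCategory.obj (DerivedCategory.Q.obj K)) := by
  have key : ∀ q, IsZero (R.obj (K.homology q)) ↔
      IsZero ((DerivedCategory.homologyFunctor C' q).obj (R.mapDerivedCategory.obj (DerivedCategory.Q.obj K))) := by
    intro q
    exact (R.mapIso ((DerivedCategory.homologyFunctorFactors C q).app K).symm ≪≫
      (Dcoh.MapDer.homologyMapDerApp R q (DerivedCategory.Q.obj K)).symm).isZero_iff
  constructor
  · intro h
    exact DP.isZero_of_homology _ fun q => (key q).1 (h q)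
  · intro h q
    exact (key q).2 ((DerivedCategory.homologyFunctor C' q).map_isZero h)

theorem isIso_map_iff {K L : CochainComplex C ℤ} (f : K ⟶ L) :
    IsIso (R.mapDerivedCategory.map (DerivedCategory.Q.map f)) ↔
      QuasiIso ((R.mapHomologicalComplex (ComplexShape.up ℤ)).map f) := by
  rw [← DerivedCategory.isIso_Q_map_iff_quasiIso]
  exact NatIso.isIso_map_iff R.mapDerivedCategoryFactors f

/-- Short exact sequences. -/
theorem isIso_f_iff {S : ShortComplex (CochainComplex C ℤ)} (hS : S.ShortExact) :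
    IsIso (R.mapDerivedCategory.map (DerivedCategory.Q.map S.f)) ↔ Van R S.X₃ := by
  have hT := R.mapDerivedCategory.map_distinguished _ (DerivedCategory.triangleOfSES_distinguished hS)
  rw [van_iff]
  exact (Triangle.isZero₃_iff_isIso₁ _ hT).symm

theorem isIso_g_iff {S : ShortComplex (CochainComplex C ℤ)} (hS : S.ShortExact) :
    IsIso (R.mapDerivedCategory.map (DerivedCategory.Q.map S.g)) ↔ Van R S.X₁ := by
  have hT := R.mapDerivedCategory.map_distinguished _ (DerivedCategory.triangleOfSES_distinguished hS)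
  rw [van_iff]
  exact (Triangle.isZero₁_iff_isIso₂ _ hT).symm

end Van

variable {C : Type u₁} [Category.{v₁} C] [Abelian C] [HasDerivedCategory.{w} C] {T : C ⥤ C ⥤ C} [T.Additive]
  [∀ X, (T.obj X).Additive]
  [∀ (K₁ K₂ : CochainComplex C ℤ), CochainComplex.HasMapBifunctor K₁ K₂ T]
  [∀ E : CochainComplex C ℤ, (T.map₂CochainComplex.flip.obj E).IsLeftAdjoint]
  [∀ (J : Type), HasColimitsOfShape (Discrete J) C]
  [∀ (J : Type), (colim : (Discrete J ⥤ C) ⥤ C).PreservesMonomorphisms]
  {C' : Type u₂} [Category.{v₂} C'] [Abelian C'] [HasDerivedCategory.{w'} C']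
  (A : DualData T) (R : C ⥤ C') [R.Additive] [PreservesFiniteLimits R] [PreservesFiniteColimits R]

/-- The dual of a morphism which becomes a quasi-isomorphism after `R`. -/
theorem isIso_R_Dmap_of_mono (hR : ∀ K : CochainComplex C ℤ, Van R K → Van R (A.D K))
    {K L : CochainComplex C ℤ} (φ : K ⟶ L) [Mono φ]
    (h : IsIso (R.mapDerivedCategory.map (DerivedCategory.Q.map φ))) :
    IsIso (R.mapDerivedCategory.map (DerivedCategory.Q.map (A.Dmap φ))) := by
  have hS : (ShortComplex.mk φ (cokernel.π φ) (cokernel.condition φ)).ShortExact :=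
    { exact := ShortComplex.exact_cokernel φ }
  have h1 := (isIso_f_iff R hS).1 h
  exact (isIso_g_iff R (A.shortExact_dualSC hS)).2 (hR _ h1)

theorem isIso_R_Dmap (hR : ∀ K : CochainComplex C ℤ, Van R K → Van R (A.D K))
    {K L : CochainComplex C ℤ} (f : K ⟶ L)
    (h : IsIso (R.mapDerivedCategory.map (DerivedCategory.Q.map f))) :
    IsIso (R.mapDerivedCategory.map (DerivedCategory.Q.map (A.Dmap f))) := by
  let N := mappingCone (𝟙 K)
  have hN : N.Acyclic := CohtopA.KInjRes2.acyclic_mappingCone_id K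
  let i : K ⟶ N := mappingCone.inr (𝟙 K)
  have hi : Mono i := CohtopA.KInjRes2.mono_inr _
  have hfst : QuasiIso (biprod.fst : L ⊞ N ⟶ L) := by
    have hS : (ShortComplex.mk (biprod.inr : N ⟶ L ⊞ N) biprod.fst (by simp)).ShortExact :=
      (ShortComplex.Splitting.mk (S := ShortComplex.mk (biprod.inr : N ⟶ L ⊞ N) biprod.fst (by simp))
        biprod.snd biprod.inl (by simp) (by simp) (by simp [add_comm])).shortExact
    exact CohtopA.TrivCof.quasiIso_g_of_acyclic hS hN
  have hlm : Mono (biprod.lift f i) := by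
    have : Mono (biprod.lift f i ≫ biprod.snd) := by
      rw [biprod.lift_snd]
      exact hi
    exact mono_of_mono _ (biprod.snd : L ⊞ N ⟶ N)
  have h1 : IsIso (R.mapDerivedCategory.map (DerivedCategory.Q.map (biprod.fst : L ⊞ N ⟶ L))) := by
    have : IsIso (DerivedCategory.Q.map (biprod.fst : L ⊞ N ⟶ L)) :=
      (DerivedCategory.isIso_Q_map_iff_quasiIso C _).2 hfst
    infer_instance
  have h2 : IsIso (R.mapDerivedCategory.map (DerivedCategory.Q.map (biprod.lift f i))) := by
    have h3 : R.mapDerivedCategory.map (DerivedCategory.Q.map (biprod.lift f i)) ≫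
        R.mapDerivedCategory.map (DerivedCategory.Q.map (biprod.fst : L ⊞ N ⟶ L)) =
        R.mapDerivedCategory.map (DerivedCategory.Q.map f) := by
      rw [← Functor.map_comp, ← Functor.map_comp, biprod.lift_fst]
    exact IsIso.of_isIso_fac_right h3
  have h4 := isIso_R_Dmap_of_mono A R hR (biprod.lift f i) h2
  have h5 : IsIso (DerivedCategory.Q.map (A.Dmap (biprod.fst : L ⊞ N ⟶ L))) :=
    (DerivedCategory.isIso_Q_map_iff_quasiIso C _).2 inferInstance
  have h6 : A.Dmap f = A.Dmap (biprod.fst : L ⊞ N ⟶ L) ≫ A.Dmap (biprod.lift f i) := by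
    rw [← DualData.Dmap_comp, biprod.lift_fst]
  rw [h6, Functor.map_comp, Functor.map_comp]
  exact IsIso.comp_isIso' (Functor.map_isIso _ _) h4

variable {E : C' ⥤ C} {R} (adj : E ⊣ R) [E.Additive] [PreservesFiniteLimits E] [PreservesFiniteColimits E]

include adj in
/-- `D (E G)` is local. -/
theorem hom_eq_zero (hR : ∀ K : CochainComplex C ℤ, Van R K → Van R (A.D K)) (S : CochainComplex C ℤ)
    (hS : Van R S) (G : CochainComplex C' ℤ)
    (f : DerivedCategory.Q.obj S ⟶
      DerivedCategory.Q.obj (A.D ((E.mapHomologicalComplex (ComplexShape.up ℤ)).obj G))) : f = 0 := by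
  obtain ⟨e⟩ := Sga4h.BidGlobU.nonempty_selfEquiv A S ((E.mapHomologicalComplex (ComplexShape.up ℤ)).obj G)
  have h0 := (van_iff R _).1 (hR S hS)
  have h1 : Subsingleton (DerivedCategory.Q.obj ((E.mapHomologicalComplex (ComplexShape.up ℤ)).obj G) ⟶
      DerivedCategory.Q.obj (A.D S)) := by
    let e1 := (Iso.homCongr (E.mapDerivedCategoryFactors.symm.app G) (Iso.refl (DerivedCategory.Q.obj (A.D S)))).trans
      ((CohtopB.ExactDerAdj.derivedAdj adj).homEquiv (DerivedCategory.Q.obj G) (DerivedCategory.Q.obj (A.D S)))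
    have h2 : Subsingleton (DerivedCategory.Q.obj G ⟶
      R.mapDerivedCategory.obj (DerivedCategory.Q.obj (A.D S))) := ⟨fun a b => h0.eq_of_tgt a b⟩
    exact e1.injective.subsingleton
  exact e.injective.subsingleton.elim _ _

/-- `E R K`. -/
noncomputable abbrev ER (E : C' ⥤ C) (R : C ⥤ C') [E.Additive] [R.Additive] (K : CochainComplex C ℤ) :
    CochainComplex C ℤ :=
  (E.mapHomologicalComplex (ComplexShape.up ℤ)).obj ((R.mapHomologicalComplex (ComplexShape.up ℤ)).obj K)

/-- The counit on complexes. -/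
noncomputable abbrev cou (K : CochainComplex C ℤ) : ER E R K ⟶ K :=
  (PlusAdj.adjCx adj (ComplexShape.up ℤ)).counit.app K

theorem isIso_R_cou (h : ∀ X, IsIso (adj.unit.app X)) (K : CochainComplex C ℤ) :
    IsIso (R.mapDerivedCategory.map (DerivedCategory.Q.map (cou adj K))) := by
  rw [isIso_map_iff]
  have h1 : IsIso ((R.mapHomologicalComplex (ComplexShape.up ℤ)).map (cou adj K)) := by
    have : ∀ n, IsIso (((R.mapHomologicalComplex (ComplexShape.up ℤ)).map (cou adj K)).f n) := by
      intro n
      have h2 := adj.right_triangle_components (K.X n)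
      have h3 := h (R.obj (K.X n))
      exact IsIso.of_isIso_fac_left (h := 𝟙 _) h2
    exact HomologicalComplex.Hom.isIso_of_components _
  infer_instance

/-- `K ⟶ D D K ⟶ D E R D K`. -/
noncomputable def alpha (K : CochainComplex C ℤ) :
    DerivedCategory.Q.obj K ⟶ DerivedCategory.Q.obj (A.D (ER E R (A.D K))) :=
  DerivedCategory.Q.map (A.ev K) ≫ DerivedCategory.Q.map (A.Dmap (cou adj (A.D K)))

theorem isIso_R_alpha (hR : ∀ K : CochainComplex C ℤ, Van R K → Van R (A.D K))
    (h : ∀ X, IsIso (adj.unit.app X)) (K : CochainComplex C ℤ) (hK : A.Refl K) :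
    IsIso (R.mapDerivedCategory.map (alpha A adj K)) := by
  have h1 : IsIso (DerivedCategory.Q.map (A.ev K)) :=
    (DerivedCategory.isIso_Q_map_iff_quasiIso C _).2 hK.qis
  have h2 := isIso_R_Dmap A R hR (cou adj (A.D K)) (isIso_R_cou adj h (A.D K))
  rw [alpha, Functor.map_comp]
  exact IsIso.comp_isIso' (Functor.map_isIso _ _) h2

section Plus

variable [EnoughInjectives C] [EnoughInjectives C'] {P : C' ⥤ C} [P.Additive] (adj₂ : R ⊣ P)

theorem isZero_R_iff (K : CochainComplex C ℤ) (hK : (DerivedCategory.TStructure.t.plus) (DerivedCategory.Q.obj K)) :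
    IsZero (R.rightDerivedFunctorPlus.obj (⟨DerivedCategory.Q.obj K, hK⟩ : DerivedCategory.Plus C)) ↔ Van R K := by
  rw [van_iff, DP.isZero_iff_ι]
  exact ((K417.FF.plusIso R).app (⟨DerivedCategory.Q.obj K, hK⟩ : DerivedCategory.Plus C)).isZero_iff

include adj₂ in
/-- **`D E R D F = P⁺ R⁺ F`** for `F` reflexive. -/
theorem nonempty_iso (hR : ∀ K : CochainComplex C ℤ, Van R K → Van R (A.D K))
    (h : ∀ X, IsIso (adj.unit.app X)) (F : C) (hF : A.Refl ((CochainComplex.singleFunctor C 0).obj F))
    (hL : (DerivedCategory.TStructure.t.plus) (DerivedCategory.Q.obj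
      (A.D (ER E R (A.D ((CochainComplex.singleFunctor C 0).obj F)))))) :
    Nonempty ((⟨_, hL⟩ : DerivedCategory.Plus C) ≅ P.rightDerivedFunctorPlus.obj
      ((DerivedCategory.Plus.singleFunctor C' 0).obj (R.obj F))) := by
  let L : DerivedCategory.Plus C := ⟨_, hL⟩
  let S : DerivedCategory.Plus C := (DerivedCategory.Plus.singleFunctor C 0).obj F
  let eS : DerivedCategory.Plus.ι.obj S ≅ DerivedCategory.Q.obj ((CochainComplex.singleFunctor C 0).obj F) :=
    (DerivedCategory.singleFunctorIsoCompQ C 0).app F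
  let α : S ⟶ L := DerivedCategory.Plus.ι.preimage (Y := L) (eS.hom ≫ alpha A adj _)
  have hα' : DerivedCategory.Plus.ι.map α = eS.hom ≫ alpha A adj _ :=
    DerivedCategory.Plus.ι.map_preimage _
  have hα : IsIso (R.rightDerivedFunctorPlus.map α) := by
    have h1 : IsIso (R.mapDerivedCategory.map (DerivedCategory.Plus.ι.map α)) := by
      rw [hα', Functor.map_comp]
      exact IsIso.comp_isIso' (Functor.map_isIso _ _) (isIso_R_alpha A adj hR h _ hF)
    have h2 : IsIso (DerivedCategory.Plus.ι.map (R.rightDerivedFunctorPlus.map α)) :=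
      (NatIso.isIso_map_iff (K417.FF.plusIso R) α).2 h1
    exact isIso_of_fully_faithful DerivedCategory.Plus.ι _
  have hβ := DP.isIso_map_unit adj adj₂ h S
  have hL1 : ∀ X : DerivedCategory.Plus C, IsZero (R.rightDerivedFunctorPlus.obj X) →
      ∀ f : X ⟶ L, f = 0 := by
    intro X hX f
    obtain ⟨K, ⟨eK⟩⟩ : ∃ K : CochainComplex C ℤ, Nonempty (DerivedCategory.Q.obj K ≅ X.obj) :=
      ⟨_, ⟨DerivedCategory.Q.objObjPreimageIso X.obj⟩⟩
    have h1 : Van R K := by
      rw [van_iff]
      have h2 : IsZero (R.mapDerivedCategory.obj (DerivedCategory.Plus.ι.obj X)) :=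
        ((K417.FF.plusIso R).app X).isZero_iff.1 ((DP.isZero_iff_ι _).1 hX)
      exact h2.of_iso (R.mapDerivedCategory.mapIso eK)
    have h3 := hom_eq_zero A adj hR K h1 _ (eK.hom ≫ DerivedCategory.Plus.ι.map f)
    apply DerivedCategory.Plus.ι.map_injective
    rw [Functor.map_zero]
    exact (Preadditive.IsIso.comp_left_eq_zero eK.hom _).1 h3
  have hL2 : ∀ X : DerivedCategory.Plus C, IsZero (R.rightDerivedFunctorPlus.obj X) →
      ∀ f : X ⟶ P.rightDerivedFunctorPlus.obj (R.rightDerivedFunctorPlus.obj S), f = 0 := by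
    intro X hX f
    apply ((PlusAdj.dadj adj₂).homEquiv _ _).symm.injective
    exact hX.eq_of_src _ _
  obtain ⟨e⟩ := DP.nonempty_iso_of_local R.rightDerivedFunctorPlus α ((PlusAdj.dadj adj₂).unit.app S) hα hβ
    hL1 hL2
  exact ⟨e ≪≫ P.rightDerivedFunctorPlus.mapIso (DP.singlePlus R 0 F)⟩

end Plus

end K176.DLoc
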