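import Groth.Agent.FibDesc.K417.FF
import Groth.Agent.Dcoh.MapDer
import Groth.Agent.Etbase.PushExact
import Mathlib.CategoryTheory.Adjunction.Triple
import Mathlib.CategoryTheory.Preadditive.Injective.Preserves

/-!
# Exact functors on `D^+`; local objects

* `nonempty_iso_of_local`: uniqueness of localizations in pretriangulated categories;
* `isZero_plus_iff`: `F⁺ K = 0` iff `F (H^i K) = 0` for all `i`, `F` exact;
* `isIso_unit_dadj`, `isIso_counit_dadj`: units and counits of adjunctions of exact functors on `D^+`;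
* `compExact`, `compInj`: composites of derived functors.
-/

set_option autoImplicit false
set_option linter.unusedSectionVars false

universe w w' w'' v v' v'' u u' u''

open CategoryTheory CategoryTheory.Limits Pretriangulated

noncomputable section

-- kernel speed: the same instance path on `ℤ` as in the files on complexes
attribute [-instance] ConditionallyCompletePartialOrderSup.toPartialOrder ConditionallyCompletePartialOrderInf.toPartialOrder

namespace K176.DP

open Groth.Agent.Etdl.H424 Groth.Agent.Etdl.H860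

section Local

variable {T : Type u} [Category.{v} T] [HasZeroObject T] [HasShift T ℤ] [Preadditive T]
  [∀ n : ℤ, (shiftFunctor T n).Additive] [Pretriangulated T]

theorem exists_ext {Δ : Triangle T} (hΔ : Δ ∈ distTriang T) {L' : T}
    (h : ∀ f : Δ.obj₃⟦(-1 : ℤ)⟧ ⟶ L', f = 0) (β : Δ.obj₁ ⟶ L') : ∃ β' : Δ.obj₂ ⟶ L', Δ.mor₁ ≫ β' = β := by
  obtain ⟨g, hg⟩ := Triangle.yoneda_exact₂ _ (inv_rot_of_distTriang Δ hΔ) (X := L') β (h _)
  exact ⟨g, hg.symm⟩

theorem eq_zero_of_comp {Δ : Triangle T} (hΔ : Δ ∈ distTriang T) {L' : T}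
    (h : ∀ f : Δ.obj₃ ⟶ L', f = 0) (β' : Δ.obj₂ ⟶ L') (hβ : Δ.mor₁ ≫ β' = 0) : β' = 0 := by
  obtain ⟨g, hg⟩ := Triangle.yoneda_exact₂ Δ hΔ β' hβ
  rw [hg, h g, comp_zero]

theorem hom_ext {S L C L' : T} {α : S ⟶ L} {g : L ⟶ C} {δ : C ⟶ S⟦(1 : ℤ)⟧}
    (hΔ : Triangle.mk α g δ ∈ distTriang T) (h : ∀ f : C ⟶ L', f = 0) {a b : L ⟶ L'}
    (hab : α ≫ a = α ≫ b) : a = b := by
  have h1 : α ≫ (a - b) = 0 := by rw [Preadditive.comp_sub, hab, sub_self]
  exact sub_eq_zero.1 (eq_zero_of_comp hΔ h (a - b) h1)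

variable {T' : Type u'} [Category.{v'} T'] [HasZeroObject T'] [HasShift T' ℤ] [Preadditive T']
  [∀ n : ℤ, (shiftFunctor T' n).Additive] [Pretriangulated T'] (k : T ⥤ T') [k.CommShift ℤ]
  [k.IsTriangulated]

theorem isZero_shift_of (X : T) (n : ℤ) (h : IsZero (k.obj X)) : IsZero (k.obj (X⟦n⟧)) :=
  ((shiftFunctor T' n).map_isZero h).of_iso ((k.commShiftIso n).app X)

/-- **Uniqueness of localizations.** -/
theorem nonempty_iso_of_local {S L L' : T} (α : S ⟶ L) (β : S ⟶ L') (hα : IsIso (k.map α))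
    (hβ : IsIso (k.map β)) (hL : ∀ X : T, IsZero (k.obj X) → ∀ f : X ⟶ L, f = 0)
    (hL' : ∀ X : T, IsZero (k.obj X) → ∀ f : X ⟶ L', f = 0) : Nonempty (L ≅ L') := by
  obtain ⟨C, g, δ, hΔ⟩ := distinguished_cocone_triangle α
  obtain ⟨C', g', δ', hΔ'⟩ := distinguished_cocone_triangle β
  have hC : IsZero (k.obj C) :=
    (Triangle.isZero₃_iff_isIso₁ _ (k.map_distinguished _ hΔ)).2 hα
  have hC' : IsZero (k.obj C') :=
    (Triangle.isZero₃_iff_isIso₁ _ (k.map_distinguished _ hΔ')).2 hβ
  obtain ⟨a, ha⟩ := exists_ext hΔ (L' := L') (hL' _ (isZero_shift_of k C (-1) hC)) β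
  obtain ⟨b, hb⟩ := exists_ext hΔ' (L' := L) (hL _ (isZero_shift_of k C' (-1) hC')) α
  have ha' : α ≫ a = β := ha
  have hb' : β ≫ b = α := hb
  refine ⟨⟨a, b, ?_, ?_⟩⟩
  · refine hom_ext hΔ (hL _ hC) ?_
    rw [Category.comp_id, ← Category.assoc, ha', hb']
  · refine hom_ext hΔ' (hL' _ hC') ?_
    rw [Category.comp_id, ← Category.assoc, hb', ha']

/-- Two out of three. -/
theorem isZero₃ {Δ : Triangle T} (hΔ : Δ ∈ distTriang T) (h1 : IsZero (k.obj Δ.obj₁))
    (h2 : IsZero (k.obj Δ.obj₂)) : IsZero (k.obj Δ.obj₃) :=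
  (Triangle.isZero₃_iff_isIso₁ _ (k.map_distinguished _ hΔ)).2 (h1.isIso h2 _)

theorem isZero₂ {Δ : Triangle T} (hΔ : Δ ∈ distTriang T) (h1 : IsZero (k.obj Δ.obj₁))
    (h3 : IsZero (k.obj Δ.obj₃)) : IsZero (k.obj Δ.obj₂) := by
  have h := isZero₃ k (inv_rot_of_distTriang Δ hΔ) (isZero_shift_of k _ _ h3) h1
  exact h

theorem isZero₁ {Δ : Triangle T} (hΔ : Δ ∈ distTriang T) (h2 : IsZero (k.obj Δ.obj₂))
    (h3 : IsZero (k.obj Δ.obj₃)) : IsZero (k.obj Δ.obj₁) := by
  have h := isZero₃ k (rot_of_distTriang Δ hΔ) h2 h3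
  have h' : IsZero (k.obj ((Δ.obj₁⟦(1 : ℤ)⟧)⟦(-1 : ℤ)⟧)) := isZero_shift_of k _ _ h
  exact h'.of_iso (k.mapIso ((shiftEquiv T (1 : ℤ)).unitIso.app Δ.obj₁))

end Local

section Exact

variable {A : Type u} [Category.{v} A] [Abelian A] [HasDerivedCategory.{w} A] [EnoughInjectives A]
  {B : Type u'} [Category.{v'} B] [Abelian B] [HasDerivedCategory.{w'} B]

omit [EnoughInjectives A] in
theorem isZero_iff_ι (K : DerivedCategory.Plus A) : IsZero K ↔ IsZero (DerivedCategory.Plus.ι.obj K) :=
  ⟨fun h => DerivedCategory.Plus.ι.map_isZero h,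
    fun h => IsZero.of_full_of_faithful_of_isZero DerivedCategory.Plus.ι K h⟩

omit [EnoughInjectives A] in
theorem isZero_of_homology (K : DerivedCategory A)
    (h : ∀ i, IsZero ((DerivedCategory.homologyFunctor A i).obj K)) : IsZero K := by
  have : K.IsGE 1 := (DerivedCategory.isGE_iff K 1).2 (fun i _ => h i)
  have : K.IsLE 0 := (DerivedCategory.isLE_iff K 0).2 (fun i _ => h i)
  exact DerivedCategory.TStructure.t.isZero K 0 1 (by lia)

omit [EnoughInjectives A] in
theorem isZero_iff (K : DerivedCategory.Plus A) :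
    IsZero K ↔ ∀ i, IsZero ((DerivedCategory.Plus.homologyFunctor A i).obj K) :=
  ⟨fun h i => (DerivedCategory.Plus.homologyFunctor A i).map_isZero h,
    fun h => (isZero_iff_ι K).2 (isZero_of_homology _ h)⟩

variable (F : A ⥤ B) [F.Additive] [PreservesFiniteLimits F] [PreservesFiniteColimits F]

/-- Homology and exact functors. -/
def homologyPlus (i : ℤ) (K : DerivedCategory.Plus A) :
    (DerivedCategory.Plus.homologyFunctor B i).obj (F.rightDerivedFunctorPlus.obj K) ≅
      F.obj ((DerivedCategory.Plus.homologyFunctor A i).obj K) :=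
  (DerivedCategory.homologyFunctor B i).mapIso ((K417.FF.plusIso F).app K) ≪≫
    Groth.Agent.Dcoh.MapDer.homologyMapDerApp F i (DerivedCategory.Plus.ι.obj K)

theorem isZero_plus_iff (K : DerivedCategory.Plus A) :
    IsZero (F.rightDerivedFunctorPlus.obj K) ↔
      ∀ i, IsZero (F.obj ((DerivedCategory.Plus.homologyFunctor A i).obj K)) := by
  rw [isZero_iff]
  exact forall_congr' fun i => (homologyPlus F i K).isZero_iff

/-- Exact functors and single objects. -/
def singlePlus (n : ℤ) (M : A) :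
    F.rightDerivedFunctorPlus.obj ((DerivedCategory.Plus.singleFunctor A n).obj M) ≅
      (DerivedCategory.Plus.singleFunctor B n).obj (F.obj M) :=
  DerivedCategory.Plus.ι.preimageIso
    ((K417.FF.plusIso F).app _ ≪≫ (F.mapDerivedCategorySingleFunctor n).app M)

end Exact

section Adj

open DerivedCategory.Plus

variable {A : Type u} [Category.{v} A] [Abelian A] [HasDerivedCategory.{w} A] [EnoughInjectives A]
  {B : Type u'} [Category.{v'} B] [Abelian B] [HasDerivedCategory.{w'} B] [EnoughInjectives B]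
  {F : A ⥤ B} {G : B ⥤ A} [F.Additive] [G.Additive] [PreservesFiniteLimits F] (adj : F ⊣ G)

include adj in
theorem preservesFiniteColimits_left : PreservesFiniteColimits F := by
  have : PreservesColimitsOfSize.{0, 0} F := adj.leftAdjoint_preservesColimits
  exact PreservesColimitsOfSize.preservesFiniteColimits _

include adj in
theorem preservesFiniteLimits_right : PreservesFiniteLimits G := by
  have : PreservesLimitsOfSize.{0, 0} G := adj.rightAdjoint_preservesLimits
  exact PreservesLimitsOfSize.preservesFiniteLimits _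

theorem isIso_adjHo_unit (h : ∀ X, IsIso (adj.unit.app X)) (K : HomotopyCategory.Plus A) :
    IsIso ((PlusAdj.adjHo adj).unit.app K) := by
  have h1 : IsIso ((PlusAdj.adjCx adj (.up ℤ)).unit.app K.obj.as) := by
    have : ∀ n, IsIso (((PlusAdj.adjCx adj (.up ℤ)).unit.app K.obj.as).f n) := fun n => h _
    exact HomologicalComplex.Hom.isIso_of_components _
  have h2 : IsIso ((HomotopyCategory.Plus.ι A).map ((PlusAdj.adjHo adj).unit.app K)) :=
    inferInstanceAs (IsIso ((HomotopyCategory.quotient A (.up ℤ)).map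
      ((PlusAdj.adjCx adj (.up ℤ)).unit.app K.obj.as)))
  exact isIso_of_fully_faithful (HomotopyCategory.Plus.ι A) _

theorem isIso_adjHo_counit (h : ∀ X, IsIso (adj.counit.app X)) (K : HomotopyCategory.Plus B) :
    IsIso ((PlusAdj.adjHo adj).counit.app K) := by
  have h1 : IsIso ((PlusAdj.adjCx adj (.up ℤ)).counit.app K.obj.as) := by
    have : ∀ n, IsIso (((PlusAdj.adjCx adj (.up ℤ)).counit.app K.obj.as).f n) := fun n => h _
    exact HomologicalComplex.Hom.isIso_of_components _
  have h2 : IsIso ((HomotopyCategory.Plus.ι B).map ((PlusAdj.adjHo adj).counit.app K)) :=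
    inferInstanceAs (IsIso ((HomotopyCategory.quotient B (.up ℤ)).map
      ((PlusAdj.adjCx adj (.up ℤ)).counit.app K.obj.as)))
  exact isIso_of_fully_faithful (HomotopyCategory.Plus.ι B) _

/-- The unit on `D^+` of an adjunction of exact functors. -/
theorem isIso_unit_dadj [PreservesFiniteColimits G] (h : ∀ X, IsIso (adj.unit.app X))
    (K : DerivedCategory.Plus A) : IsIso ((PlusAdj.dadj adj).unit.app K) := by
  have hF := preservesFiniteColimits_left adj
  have hG := preservesFiniteLimits_right adj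
  rw [← NatTrans.isIso_app_iff_of_iso _ (Qh.objObjPreimageIso K), PlusAdj.dadj_unit]
  have h1 := isIso_adjHo_unit adj h (Qh.objPreimage K)
  have h2 := PlusAdj.isIso_unit (A := A) (B := B) F
  have h3 := PlusAdj.isIso_unit (A := B) (B := A) G
  have h4 : IsIso (G.rightDerivedFunctorPlusUnit.app (F.mapHomotopyCategoryPlus.obj (Qh.objPreimage K))) :=
    NatIso.isIso_app_of_isIso _ _
  have h5 : IsIso (F.rightDerivedFunctorPlusUnit.app (Qh.objPreimage K)) := NatIso.isIso_app_of_isIso _ _
  have h6 : IsIso (G.rightDerivedFunctorPlus.map (F.rightDerivedFunctorPlusUnit.app (Qh.objPreimage K))) :=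
    Functor.map_isIso _ _
  have h7 : IsIso (Qh.map ((PlusAdj.adjHo adj).unit.app (Qh.objPreimage K))) := Functor.map_isIso _ _
  exact IsIso.comp_isIso' h7 (IsIso.comp_isIso' h4 h6)

/-- The counit on `D^+` of an adjunction of exact functors. -/
theorem isIso_counit_dadj [PreservesFiniteColimits G] (h : ∀ X, IsIso (adj.counit.app X))
    (K : DerivedCategory.Plus B) : IsIso ((PlusAdj.dadj adj).counit.app K) := by
  have hF := preservesFiniteColimits_left adj
  have hG := preservesFiniteLimits_right adj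
  rw [← NatTrans.isIso_app_iff_of_iso _ (Qh.objObjPreimageIso K)]
  have h0 := PlusAdj.dadj_counit adj (Qh.objPreimage K)
  have h1 := isIso_adjHo_counit adj h (Qh.objPreimage K)
  have h2 := PlusAdj.isIso_unit (A := A) (B := B) F
  have h3 := PlusAdj.isIso_unit (A := B) (B := A) G
  have h4 : IsIso (F.rightDerivedFunctorPlusUnit.app (G.mapHomotopyCategoryPlus.obj (Qh.objPreimage K))) :=
    NatIso.isIso_app_of_isIso _ _
  have h5 : IsIso (G.rightDerivedFunctorPlusUnit.app (Qh.objPreimage K)) := NatIso.isIso_app_of_isIso _ _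
  have h6 : IsIso (F.rightDerivedFunctorPlus.map (G.rightDerivedFunctorPlusUnit.app (Qh.objPreimage K))) :=
    Functor.map_isIso _ _
  have h7 : IsIso (Qh.map ((PlusAdj.adjHo adj).counit.app (Qh.objPreimage K))) := Functor.map_isIso _ _
  rw [← h0] at h7
  have h8 := @IsIso.of_isIso_comp_left _ _ _ _ _ _ _ h4 h7
  exact @IsIso.of_isIso_comp_left _ _ _ _ _ _ _ h6 h8



end Adj

section Triple

open DerivedCategory.Plus

/-- `E ⊣ R ⊣ P` with `E`, `R` exact and `E` fully faithful: `R⁺` of the unit `K ⟶ P⁺ R⁺ K` is an isomorphism. -/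
theorem isIso_map_unit {A : Type u} [Category.{v} A] [Abelian A] [HasDerivedCategory.{w} A]
    [EnoughInjectives A] {B : Type u'} [Category.{v'} B] [Abelian B] [HasDerivedCategory.{w'} B]
    [EnoughInjectives B] {E : B ⥤ A} {R : A ⥤ B} {P : B ⥤ A} [E.Additive] [R.Additive] [P.Additive]
    [PreservesFiniteLimits E] [PreservesFiniteLimits R] (adj₁ : E ⊣ R) (adj₂ : R ⊣ P)
    (h : ∀ X, IsIso (adj₁.unit.app X)) (K : DerivedCategory.Plus A) :
    IsIso (R.rightDerivedFunctorPlus.map ((PlusAdj.dadj adj₂).unit.app K)) := by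
  have := preservesFiniteColimits_left adj₂
  have h1 : IsIso (PlusAdj.dadj adj₁).unit :=
    @NatIso.isIso_of_isIso_app _ _ _ _ _ _ _ (fun K => isIso_unit_dadj adj₁ h K)
  let t : Adjunction.Triple E.rightDerivedFunctorPlus R.rightDerivedFunctorPlus P.rightDerivedFunctorPlus :=
    { adj₁ := PlusAdj.dadj adj₁, adj₂ := PlusAdj.dadj adj₂ }
  have h2 : E.rightDerivedFunctorPlus.FullyFaithful :=
    (PlusAdj.dadj adj₁).fullyFaithfulLOfIsIsoUnit
  have h3 := t.fullyFaithfulEquiv h2
  have h4 : P.rightDerivedFunctorPlus.Full := h3.full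
  have h5 : P.rightDerivedFunctorPlus.Faithful := h3.faithful
  have h6 : IsIso (PlusAdj.dadj adj₂).counit := Adjunction.counit_isIso_of_R_fully_faithful _
  have h7 := (PlusAdj.dadj adj₂).left_triangle_components K
  have h8 : IsIso ((PlusAdj.dadj adj₂).counit.app (R.rightDerivedFunctorPlus.obj K)) :=
    NatIso.isIso_app_of_isIso _ _
  exact IsIso.of_isIso_fac_right (h := 𝟙 _) h7

/-- `E ⊣ R ⊣ P` with `E`, `R` exact and `E` fully faithful: the counit `R⁺ P⁺ K ⟶ K` is an isomorphism. -/
theorem isIso_counit_triple {A : Type u} [Category.{v} A] [Abelian A] [HasDerivedCategory.{w} A]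
    [EnoughInjectives A] {B : Type u'} [Category.{v'} B] [Abelian B] [HasDerivedCategory.{w'} B]
    [EnoughInjectives B] {E : B ⥤ A} {R : A ⥤ B} {P : B ⥤ A} [E.Additive] [R.Additive] [P.Additive]
    [PreservesFiniteLimits E] [PreservesFiniteLimits R] (adj₁ : E ⊣ R) (adj₂ : R ⊣ P)
    (h : ∀ X, IsIso (adj₁.unit.app X)) (K : DerivedCategory.Plus B) :
    IsIso ((PlusAdj.dadj adj₂).counit.app K) := by
  have := preservesFiniteColimits_left adj₂
  have h1 : IsIso (PlusAdj.dadj adj₁).unit :=
    @NatIso.isIso_of_isIso_app _ _ _ _ _ _ _ (fun K => isIso_unit_dadj adj₁ h K)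
  let t : Adjunction.Triple E.rightDerivedFunctorPlus R.rightDerivedFunctorPlus P.rightDerivedFunctorPlus :=
    { adj₁ := PlusAdj.dadj adj₁, adj₂ := PlusAdj.dadj adj₂ }
  have h2 : E.rightDerivedFunctorPlus.FullyFaithful :=
    (PlusAdj.dadj adj₁).fullyFaithfulLOfIsIsoUnit
  have h3 := t.fullyFaithfulEquiv h2
  have h4 : P.rightDerivedFunctorPlus.Full := h3.full
  have h5 : P.rightDerivedFunctorPlus.Faithful := h3.faithful
  have h6 : IsIso (PlusAdj.dadj adj₂).counit := Adjunction.counit_isIso_of_R_fully_faithful _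
  exact NatIso.isIso_app_of_isIso _ _

end Triple

section Comp

variable {A : Type u} [Category.{v} A] [Abelian A] [HasDerivedCategory.{w} A] [EnoughInjectives A]
  {B : Type u'} [Category.{v'} B] [Abelian B] [HasDerivedCategory.{w'} B] [EnoughInjectives B]
  {C : Type u''} [Category.{v''} C] [Abelian C] [HasDerivedCategory.{w''} C]
  (F : A ⥤ B) (G : B ⥤ C) (H : A ⥤ C) [F.Additive] [G.Additive] [H.Additive] (e : F ⋙ G ≅ H)

/-- Composition with an exact functor. -/
def compExact [PreservesFiniteLimits G] [PreservesFiniteColimits G] :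
    F.rightDerivedFunctorPlus ⋙ G.rightDerivedFunctorPlus ≅ H.rightDerivedFunctorPlus :=
  PlusAdj.compIso F G H e fun I _ i hi => by
    obtain ⟨i, rfl⟩ : ∃ r, i = r + 1 := ⟨i - 1, by omega⟩
    exact Groth.Agent.Etbase.PushExact.isZero_rightDerived_of_exact G (F.obj I) i

/-- Composition of a functor preserving injectives. -/
def compInj [PreservesFiniteLimits G] [F.PreservesInjectiveObjects] :
    F.rightDerivedFunctorPlus ⋙ G.rightDerivedFunctorPlus ≅ H.rightDerivedFunctorPlus :=
  PlusAdj.compIso F G H e fun I hI i hi => by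
    obtain ⟨i, rfl⟩ : ∃ r, i = r + 1 := ⟨i - 1, by omega⟩
    have := F.injective_obj I
    exact G.isZero_rightDerived_obj_injective_succ i _

end Comp

end K176.DP

end
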