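import Groth.Agent.Ega4B.CatHeight
import Groth.Agent.Ega4A.CMCatenary
import Groth.Agent.CalgB.Depth1
import Groth.Agent.CalgB.CM1
import Mathlib.RingTheory.Ideal.KrullsHeightTheorem
import Mathlib.RingTheory.Ideal.GoingDown
import Mathlib.RingTheory.RingHom.Flat
import Mathlib.RingTheory.Regular.Flat

/-!
# Relative heights for a flat homomorphism from a Cohen-Macaulay ring to a catenary ring

`rlen_le`: `ht(q/p) ≤ ht(q'/p') + ht(p'/pA')`.
-/

set_option autoImplicit false
universe u

namespace K176.DeltaHt

open IsLocalRing Groth.Agent.Ega4B.CatHeight RingTheory.Sequence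

/-- In a Cohen-Macaulay ring `ht q = ht p + ht(q/p)`. -/
theorem height_eq_add_rlen {A : Type u} [CommRing A] [LocCoh.IsCohenMacaulayRing A]
    (p q : PrimeSpectrum A) (h : p ≤ q) : q.asIdeal.height = p.asIdeal.height + rlen p q := by
  obtain ⟨s, h1, h2, h3, h4⟩ := exists_sat h (rlen_ne_top p q)
  have key : ∀ (n : ℕ) (hn : n < s.length + 1),
      (s ⟨n, hn⟩).asIdeal.height = s.head.asIdeal.height + n := by
    intro n
    induction n with
    | zero => intro hn; simp [RelSeries.head]
    | succ n ih =>
      intro hn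
      have hc := h4 ⟨n, by omega⟩
      have e1 := Groth.Agent.Ega4A.CMCatenary.height_eq_of_covBy_of_isCohenMacaulayRing hc
      have e2 := ih (by omega)
      have e3 : (s ⟨n + 1, hn⟩) = s (Fin.succ ⟨n, by omega⟩) := rfl
      have e4 : (s ⟨n, by omega⟩) = s (Fin.castSucc ⟨n, by omega⟩) := rfl
      rw [e3, e1, ← e4, e2]
      push_cast
      ring
  have h5 := key s.length (by omega)
  have h6 : s ⟨s.length, by omega⟩ = s.last := rfl
  rw [h6, h2, h1, h3] at h5
  exact h5

theorem rlen_mono {α : Type*} [PartialOrder α] {a b c d : α} (h1 : a ≤ b) (h2 : b ≤ c) (h3 : c ≤ d) :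
    rlen b c ≤ rlen a d := by
  calc rlen b c ≤ rlen b c + rlen c d := le_self_add
    _ ≤ rlen b d := rlen_add_le h2 h3
    _ ≤ rlen a b + rlen b d := le_add_self
    _ ≤ rlen a d := rlen_add_le h1 (h2.trans h3)

/-- Over a flat algebra the height of the contraction is at most the relative height over any minimal prime. -/
theorem height_le_rlen {A A' : Type u} [CommRing A] [CommRing A'] [LocCoh.IsCohenMacaulayRing A]
    [IsNoetherianRing A'] [Algebra A A'] [Module.Flat A A'] (P' q' : PrimeSpectrum A') (h : P' ≤ q')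
    (hP : P'.asIdeal ∈ minimalPrimes A') :
    (q'.asIdeal.comap (algebraMap A A')).height ≤ rlen P' q' := by
  let q : Ideal A := q'.asIdeal.comap (algebraMap A A')
  let Aq := Localization.AtPrime q
  let B := Localization.AtPrime q'.asIdeal
  let f : Aq →+* B := Localization.localRingHom q q'.asIdeal (algebraMap A A') rfl
  have hff : (algebraMap A A').Flat := RingHom.flat_algebraMap_iff.2 inferInstance
  have hf : f.Flat := RingHom.Flat.localRingHom hff q'.asIdeal q rfl
  letI := f.toAlgebra
  have hfl : Module.Flat Aq B := hf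
  have hloc : IsLocalHom (algebraMap Aq B) := Localization.isLocalHom_localRingHom q q'.asIdeal _ rfl
  have hNA : IsNoetherianRing A := inferInstance
  have hNAq : IsNoetherianRing Aq := IsLocalization.isNoetherianRing q.primeCompl Aq hNA
  have hNB : IsNoetherianRing B := IsLocalization.isNoetherianRing q'.asIdeal.primeCompl B inferInstance
  obtain ⟨d, hd⟩ : ∃ d : ℕ, q.height = d :=
    ⟨q.height.toNat, (ENat.coe_toNat (Ideal.height_ne_top_of_isPrime (I := q))).symm⟩
  have hdim : ringKrullDim Aq = d := by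
    rw [IsLocalization.AtPrime.ringKrullDim_eq_height q Aq, hd]
    rfl
  have hcm := LocCoh.IsCohenMacaulayRing.isCohenMacaulayLocalRing_localization q
  have hdep : (d : ℕ∞) ≤ LocCoh.depth Aq Aq := by
    have h1 := hcm.supportDim_eq_depth
    rw [Module.supportDim_self_eq_ringKrullDim, hdim] at h1
    have h2 : ((d : ℕ∞) : WithBot ℕ∞) = ((LocCoh.depth Aq Aq : ℕ∞) : WithBot ℕ∞) := h1
    rw [WithBot.coe_inj.1 h2]
  obtain ⟨rs, hlen, hmem, hreg⟩ := (Groth.Agent.CalgB.Depth1.le_depth_iff_weak d).1 hdep
  have hreg' : IsWeaklyRegular B (rs.map (algebraMap Aq B)) := hreg.of_flat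
  have hmem' : ∀ r ∈ rs.map (algebraMap Aq B), r ∈ maximalIdeal B := by
    intro r hr
    obtain ⟨a, ha, rfl⟩ := List.mem_map.1 hr
    exact ((local_hom_TFAE (algebraMap Aq B)).out 0 1 rfl rfl).1 hloc (Set.mem_image_of_mem _ (hmem a ha))
  -- the minimal prime of `B`
  let P : Ideal B := P'.asIdeal.map (algebraMap A' B)
  have hPmin : P ∈ minimalPrimes B := by
    have hdis : Disjoint (q'.asIdeal.primeCompl : Set A') (P'.asIdeal : Set A') :=
      Set.disjoint_left.2 fun a ha ha' => ha (h ha')
    have h1 : P.under A' = P'.asIdeal :=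
      IsLocalization.under_map_of_isPrime_disjoint q'.asIdeal.primeCompl B P'.2 hdis
    have h2 := IsLocalization.minimalPrimes_map q'.asIdeal.primeCompl B (⊥ : Ideal A')
    rw [Ideal.map_bot] at h2
    change P ∈ (⊥ : Ideal B).minimalPrimes
    rw [h2, Set.mem_preimage, h1]
    exact hP
  have hPass : P ∈ associatedPrimes B B := by
    refine Module.associatedPrimes.minimalPrimes_annihilator_subset_associatedPrimes B B ?_
    have : Module.annihilator B B = ⊥ := Module.annihilator_eq_bot.2 inferInstance
    rw [this]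
    exact hPmin
  have hle := Groth.Agent.CalgB.CM1.length_le_ringKrullDim_quotient _ hmem' hreg' hPass
  rw [List.length_map, hlen] at hle
  obtain ⟨s, hs⟩ := Order.le_krullDim_iff.1 hle
  let g : A' →+* B ⧸ P := (Ideal.Quotient.mk P).comp (algebraMap A' B)
  have hinj : Function.Injective (PrimeSpectrum.comap g) := by
    have : PrimeSpectrum.comap g = (PrimeSpectrum.comap (algebraMap A' B)) ∘
        (PrimeSpectrum.comap (Ideal.Quotient.mk P)) := rfl
    rw [this]
    exact (PrimeSpectrum.localization_comap_injective B q'.asIdeal.primeCompl).comp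
      (PrimeSpectrum.comap_injective_of_surjective _ Ideal.Quotient.mk_surjective)
  have hmono : StrictMono (PrimeSpectrum.comap g) :=
    (show Monotone (PrimeSpectrum.comap g) from fun a b hab => Ideal.comap_mono hab).strictMono_of_injective hinj
  let t : LTSeries (PrimeSpectrum A') := s.map _ hmono
  have ht1 : P' ≤ t.head := by
    change P'.asIdeal ≤ s.head.asIdeal.comap g
    intro a ha
    rw [Ideal.mem_comap]
    have : g a = 0 := Ideal.Quotient.eq_zero_iff_mem.2 (Ideal.mem_map_of_mem _ ha)
    rw [this]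
    exact Ideal.zero_mem _
  have ht2 : t.last ≤ q' := by
    change (s.last.asIdeal.comap g) ≤ q'.asIdeal
    intro a ha
    by_contra hna
    have hu : IsUnit (g a) := (IsLocalization.map_units B (⟨a, hna⟩ : q'.asIdeal.primeCompl)).map
      (Ideal.Quotient.mk P)
    exact s.last.2.ne_top (Ideal.eq_top_of_isUnit_mem _ ha hu)
  change q.height ≤ _
  rw [hd, ← hs]
  calc ((s.length : ℕ) : ℕ∞) = (t.length : ℕ∞) := rfl
    _ ≤ rlen t.head t.last := le_rlen t rfl rfl
    _ ≤ rlen P' q' := rlen_mono ht1 t.head_le_last ht2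

theorem rlen_le {A A' : Type u} [CommRing A] [CommRing A'] [LocCoh.IsCohenMacaulayRing A]
    [IsNoetherianRing A'] (hcat' : CAlg.IsCatenary A') [Algebra A A'] [Module.Flat A A']
    (p' q' : PrimeSpectrum A') (h : p' ≤ q') (n : ℕ∞)
    (hn : p'.asIdeal.height = (p'.asIdeal.comap (algebraMap A A')).height + n) :
    rlen (PrimeSpectrum.comap (algebraMap A A') p') (PrimeSpectrum.comap (algebraMap A A') q') ≤
      rlen p' q' + n := by
  let p := PrimeSpectrum.comap (algebraMap A A') p'
  let q := PrimeSpectrum.comap (algebraMap A A') q'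
  have hpq : p ≤ q := Ideal.comap_mono h
  have e1 : q.asIdeal.height = p.asIdeal.height + rlen p q := height_eq_add_rlen p q hpq
  have e2 : p'.asIdeal.height = p.asIdeal.height + n := hn
  obtain ⟨P, hP, hPp⟩ := Ideal.exists_minimalPrimes_le (I := ⊥) (J := p'.asIdeal) bot_le
  let P' : PrimeSpectrum A' := ⟨P, hP.1.1⟩
  have e3 := (isCatenary_iff (R := A')).1 hcat' P' p' q' hPp h
  have e4 : rlen P' p' ≤ p'.asIdeal.height := rlen_le_height P' p'
  have e5 : q.asIdeal.height ≤ rlen P' q' := height_le_rlen P' q' (show P' ≤ q' from le_trans hPp h) hP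
  have e6 : p.asIdeal.height + rlen p q ≤ p.asIdeal.height + (rlen p' q' + n) := by
    calc p.asIdeal.height + rlen p q = q.asIdeal.height := e1.symm
      _ ≤ rlen P' q' := e5
      _ = rlen P' p' + rlen p' q' := e3
      _ ≤ p'.asIdeal.height + rlen p' q' := by gcongr
      _ = _ := by rw [e2]; ring
  exact (ENat.add_le_add_iff_left (Ideal.height_ne_top_of_isPrime (I := p.asIdeal))).1 e6

end K176.DeltaHt
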