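import Groth.Agent.FibDim.K582.RingDim
import Groth.Agent.Ega4A.EquidimFlat

/-!
# Dimensions of `A'/p'` and `A/p` for a flat local homomorphism with fibre a point
-/

set_option autoImplicit false

namespace K176.DeltaRing

open IsLocalRing

variable (A A' : Type*) [CommRing A] [CommRing A'] [IsLocalRing A] [IsLocalRing A']
  [IsNoetherianRing A] [IsNoetherianRing A'] [Algebra A A'] [Module.FaithfullyFlat A A']
  (hfib : ∀ q : Ideal A', ∀ _ : q.IsPrime, q.comap (algebraMap A A') = maximalIdeal A →
    q = maximalIdeal A')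

include hfib

theorem comap_maximalIdeal : (maximalIdeal A').comap (algebraMap A A') = maximalIdeal A := by
  obtain ⟨q, hq⟩ := PrimeSpectrum.comap_surjective_of_faithfullyFlat (A := A) (B := A') (closedPoint A)
  have h1 : q.asIdeal.comap (algebraMap A A') = maximalIdeal A := congrArg PrimeSpectrum.asIdeal hq
  rw [← hfib q.asIdeal q.2 h1]
  exact h1

theorem isLocalHom : IsLocalHom (algebraMap A A') :=
  ((local_hom_TFAE (algebraMap A A')).out 0 4 rfl rfl).2 (comap_maximalIdeal A A' hfib)

theorem dim_closed_fibre : ringKrullDim (A' ⧸ (maximalIdeal A).map (algebraMap A A')) = 0 := by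
  have := isLocalHom A A' hfib
  have hne : (maximalIdeal A).map (algebraMap A A') ≠ ⊤ :=
    (map_maximalIdeal_lt_top (algebraMap A A')).ne
  have hnt : Nontrivial (A' ⧸ (maximalIdeal A).map (algebraMap A A')) :=
    Ideal.Quotient.nontrivial_iff.mpr hne
  have hz : Ring.KrullDimLE 0 (A' ⧸ (maximalIdeal A).map (algebraMap A A')) := by
    refine Ring.KrullDimLE.mk₀ fun I hI => ?_
    have h1 : (I.comap (Ideal.Quotient.mk _)).IsPrime := Ideal.comap_isPrime _ _
    have h2 : (maximalIdeal A).map (algebraMap A A') ≤ I.comap (Ideal.Quotient.mk _) := by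
      intro a ha
      rw [Ideal.mem_comap, Ideal.Quotient.eq_zero_iff_mem.2 ha]
      exact I.zero_mem
    have h3 : (I.comap (Ideal.Quotient.mk _)).comap (algebraMap A A') = maximalIdeal A := by
      refine le_antisymm (le_maximalIdeal (Ideal.comap_isPrime _ _).ne_top) ?_
      exact Ideal.map_le_iff_le_comap.1 h2
    have h4 := hfib _ h1 h3
    have h5 : (maximalIdeal A').IsMaximal := inferInstance
    rw [← h4] at h5
    have h6 := Ideal.map_eq_top_or_isMaximal_of_surjective
      (Ideal.Quotient.mk ((maximalIdeal A).map (algebraMap A A'))) Ideal.Quotient.mk_surjective h5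
    rw [Ideal.map_comap_of_surjective _ Ideal.Quotient.mk_surjective] at h6
    exact h6.resolve_left hI.ne_top
  exact ringKrullDimZero_iff_ringKrullDim_eq_zero.1 hz

theorem dim_quotient_map (p : Ideal A) [p.IsPrime] :
    ringKrullDim (A' ⧸ p.map (algebraMap A A')) = ringKrullDim (A ⧸ p) := by
  have := isLocalHom A A' hfib
  have h := (K582.RingDim.ringKrullDim_quotient_add A A' p (le_maximalIdeal ‹p.IsPrime›.ne_top)).2
    inferInstance
  rw [h, dim_closed_fibre A A' hfib, add_zero]

theorem dim_quotient_le (p' : Ideal A') [p'.IsPrime] :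
    ringKrullDim (A' ⧸ p') ≤ ringKrullDim (A ⧸ p'.comap (algebraMap A A')) := by
  rw [← dim_quotient_map A A' hfib (p'.comap (algebraMap A A'))]
  exact ringKrullDim_le_of_surjective
    (Ideal.Quotient.factor (Ideal.map_comap_le (f := algebraMap A A') (K := p')))
    (Ideal.Quotient.factor_surjective _)

theorem exists_prime (p : Ideal A) [hp : p.IsPrime] : ∃ (p' : Ideal A') (_ : p'.IsPrime),
    p'.comap (algebraMap A A') = p ∧ ringKrullDim (A' ⧸ p') = ringKrullDim (A ⧸ p) := by
  have hloc := isLocalHom A A' hfib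
  have hle : p.map (algebraMap A A') ≤ maximalIdeal A' :=
    (Ideal.map_mono (le_maximalIdeal hp.ne_top)).trans (map_maximalIdeal_le _)
  have hnt : Nontrivial (A' ⧸ p.map (algebraMap A A')) := Ideal.Quotient.nontrivial_iff.mpr fun h =>
    (maximalIdeal.isMaximal A').ne_top (top_le_iff.1 (h ▸ hle))
  have hlr : IsLocalRing (A' ⧸ p.map (algebraMap A A')) :=
    IsLocalRing.of_surjective' (Ideal.Quotient.mk _) Ideal.Quotient.mk_surjective
  obtain ⟨p', hp', hd⟩ := Groth.Agent.Ega4A.EquidimFlat.exists_minimalPrimes_dim_eq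
    (I := p.map (algebraMap A A'))
  have hpr : p'.IsPrime := hp'.1.1
  refine ⟨p', hpr, ?_, hd.trans (dim_quotient_map A A' hfib p)⟩
  have h1 : p ≤ p'.comap (algebraMap A A') := Ideal.map_le_iff_le_comap.1 hp'.1.2
  refine le_antisymm ?_ h1
  by_contra hne
  have hlt : p < p'.comap (algebraMap A A') := lt_of_le_not_ge h1 hne
  have : p'.LiesOver (p'.comap (algebraMap A A')) := ⟨rfl⟩
  obtain ⟨P, hP, hPp, hPo⟩ := Ideal.exists_ideal_lt_liesOver_of_lt p' hlt
  have h2 : p.map (algebraMap A A') ≤ P := by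
    rw [Ideal.map_le_iff_le_comap, hPo.over]
  exact hP.not_ge (hp'.2 ⟨hPp, h2⟩ hP.le)

end K176.DeltaRing
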