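import Groth.Agent.EtDepth.K176.FibDimPb
import Groth.Agent.EtDepth.K176.DeltaHt
import Groth.Agent.Ega4fib.H172.FibDimBC
import Groth.Agent.Ega4fib.H112.FibreFormula
import Groth.Prelude.Def_SGA2
import Groth.Prelude.Def_EtDepth

/-!
# The inequality `δ_T(x) - δ_{T'}(x') ≤ dim O_{h⁻¹(x), x'}`
-/

set_option autoImplicit false
universe u

open CategoryTheory Limits AlgebraicGeometry

namespace K176.DeltaT

open Groth.Agent.Flat2D.PbStalk Groth.Agent.CycB.RelDim Groth.Agent.Ega4B.CatHeight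

theorem exists_dim (R : Type u) [CommRing R] [IsLocalRing R] [IsNoetherianRing R] :
    ∃ d : ℕ, ringKrullDim R = d := by
  have h := Ideal.height_ne_top_of_isPrime (I := IsLocalRing.maximalIdeal R)
  refine ⟨(IsLocalRing.maximalIdeal R).height.toNat, ?_⟩
  rw [← IsLocalRing.maximalIdeal_height_eq_ringKrullDim]
  exact congrArg _ (ENat.coe_toNat h).symm

section

variable {X Y S P : Scheme.{u}} {f : X ⟶ S} {g : Y ⟶ S} {p : P ⟶ X} {q : P ⟶ Y}

theorem noeth_fiber (p : P ⟶ X) (z : P) [IsNoetherianRing (P.presheaf.stalk z)] :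
    IsNoetherianRing ((p.fiber (p z)).presheaf.stalk (p.asFiber z)) :=
  isNoetherianRing_of_ringEquiv _ (fiberStalkEquiv p z)

theorem fibre_part (H : IsPullback p q f g) [LocallyOfFiniteType f] (z : P)
    [IsNoetherianRing (P.presheaf.stalk z)] [IsNoetherianRing (Y.presheaf.stalk (q z))]
    [IsNoetherianRing (X.presheaf.stalk (p z))] (r r' e n : ℕ) (hr : rtd f (p z) = r)
    (hr' : rtd q z = r') (he : ringKrullDim ((p.fiber (p z)).presheaf.stalk (p.asFiber z)) = e)
    (hn : ringKrullDim ((g.fiber (g (q z))).presheaf.stalk (g.asFiber (q z))) = n) :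
    e + r' = n + r := by
  have hq : LocallyOfFiniteType q := MorphismProperty.of_isPullback H inferInstance
  have h1 := K176.FibDimPb.dim_add H z
  have h2 := K176.FibDimPb.dim_add H.flip z
  have h3 : FlatMor.fibreDimAt q z = FlatMor.fibreDimAt f (p z) :=
    Groth.Agent.Ega4fib.H172.FibDimBC.fibreDimAt_of_isPullback H z
  rw [Groth.Agent.Ega4fib.H112.FibreFormula.fibreDimAt_eq_add q z r' hr',
    Groth.Agent.Ega4fib.H112.FibreFormula.fibreDimAt_eq_add f (p z) r hr] at h3
  have := noeth_fiber q z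
  have := noeth_fiber f (p z)
  obtain ⟨m, hm⟩ := exists_dim ((q.fiber (q z)).presheaf.stalk (q.asFiber z))
  obtain ⟨l, hl⟩ := exists_dim ((f.fiber (f (p z))).presheaf.stalk (f.asFiber (p z)))
  rw [sup_comm] at h2
  have hne : fiberIdeal p z ⊔ fiberIdeal q z ≤ IsLocalRing.maximalIdeal (P.presheaf.stalk z) :=
    sup_le (fiberIdeal_le_maximalIdeal p z) (fiberIdeal_le_maximalIdeal q z)
  have hnt : Nontrivial (P.presheaf.stalk z ⧸ (fiberIdeal p z ⊔ fiberIdeal q z)) :=
    Ideal.Quotient.nontrivial_iff.mpr fun h =>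
      (IsLocalRing.maximalIdeal.isMaximal (P.presheaf.stalk z)).ne_top (top_le_iff.1 (h ▸ hne))
  have hloc : IsLocalRing (P.presheaf.stalk z ⧸ (fiberIdeal p z ⊔ fiberIdeal q z)) :=
    IsLocalRing.of_surjective' (Ideal.Quotient.mk _) Ideal.Quotient.mk_surjective
  obtain ⟨D, hD⟩ := exists_dim (P.presheaf.stalk z ⧸ (fiberIdeal p z ⊔ fiberIdeal q z))
  rw [he, hn, hD] at h1
  rw [hm, hl, hD] at h2
  rw [hm, hl] at h3
  have e1 : e = n + D := by exact_mod_cast h1
  have e2 : m = l + D := by exact_mod_cast h2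
  have e3 : m + r' = l + r := by exact_mod_cast h3
  omega

end

theorem height_eq (A A' : Type u) [CommRing A] [CommRing A'] [IsNoetherianRing A] [IsNoetherianRing A']
    [Algebra A A'] [Module.Flat A A'] (y : Spec (CommRingCat.of A')) (n : ℕ)
    (hn : ringKrullDim (((Spec.map (CommRingCat.ofHom (algebraMap A A'))).fiber
      (Spec.map (CommRingCat.ofHom (algebraMap A A')) y)).presheaf.stalk
        ((Spec.map (CommRingCat.ofHom (algebraMap A A'))).asFiber y)) = n) :
    y.asIdeal.height = (y.asIdeal.comap (algebraMap A A')).height + n := by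
  let g := Spec.map (CommRingCat.ofHom (algebraMap A A'))
  have hN1 : IsNoetherianRing ((Spec (CommRingCat.of A')).presheaf.stalk y) :=
    isNoetherianRing_of_ringEquiv _ (StructureSheaf.stalkIso A' y).toRingEquiv
  have hN2 : IsNoetherianRing ((Spec (CommRingCat.of A)).presheaf.stalk (g y)) :=
    isNoetherianRing_of_ringEquiv _ (StructureSheaf.stalkIso A (g y)).toRingEquiv
  have hfl : Flat g := by
    rw [Flat.SpecMap_iff]
    exact RingHom.flat_algebraMap_iff.2 inferInstance
  have h0 := Flat.stalkMap g y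
  algebraize [(g.stalkMap y).hom]
  have hloc : IsLocalHom (algebraMap ((Spec (CommRingCat.of A)).presheaf.stalk (g y))
      ((Spec (CommRingCat.of A')).presheaf.stalk y)) := inferInstanceAs (IsLocalHom (g.stalkMap y).hom)
  have h1 := (K582.RingDim.ringKrullDim_add ((Spec (CommRingCat.of A)).presheaf.stalk (g y))
    ((Spec (CommRingCat.of A')).presheaf.stalk y)).2 h0
  have h2 : ringKrullDim ((Spec (CommRingCat.of A')).presheaf.stalk y ⧸ fiberIdeal g y) = n :=
    (ringKrullDim_eq_of_ringEquiv (fiberStalkEquiv g y)).trans hn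
  have h3 : ringKrullDim ((Spec (CommRingCat.of A')).presheaf.stalk y) = y.asIdeal.height := by
    rw [← ringKrullDim_eq_of_ringEquiv (R := Localization.AtPrime y.asIdeal)
      (S := (Spec (CommRingCat.of A')).presheaf.stalk y) (StructureSheaf.stalkIso A' y).toRingEquiv]
    exact IsLocalization.AtPrime.ringKrullDim_eq_height y.asIdeal _
  have h4 : ringKrullDim ((Spec (CommRingCat.of A)).presheaf.stalk (g y)) = (g y).asIdeal.height := by
    rw [← ringKrullDim_eq_of_ringEquiv (R := Localization.AtPrime (g y).asIdeal)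
      (S := (Spec (CommRingCat.of A)).presheaf.stalk (g y)) (StructureSheaf.stalkIso A (g y)).toRingEquiv]
    exact IsLocalization.AtPrime.ringKrullDim_eq_height (g y).asIdeal _
  have h5 : ringKrullDim ((Spec (CommRingCat.of A')).presheaf.stalk y) =
      ringKrullDim ((Spec (CommRingCat.of A)).presheaf.stalk (g y)) +
        ringKrullDim ((Spec (CommRingCat.of A')).presheaf.stalk y ⧸ fiberIdeal g y) := h1
  rw [h2, h3, h4] at h5
  have h6 : ((y.asIdeal.height : ℕ∞) : WithBot ℕ∞) = (((g y).asIdeal.height + (n : ℕ∞) : ℕ∞) : WithBot ℕ∞) := by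
    rw [h5, WithBot.coe_add]
    rfl
  exact WithBot.coe_inj.1 h6

theorem relCodim_eq {A : Type u} [CommRing A] (I : Ideal A) (p : PrimeSpectrum A) :
    SGA2.relCodim I p = ⨅ q : {q : PrimeSpectrum A // p ≤ q ∧ I ≤ q.asIdeal}, rlen p q.1 :=
  iInf_congr fun q => height_Ici q.2.1

theorem codim_part (A A' : Type u) [CommRing A] [CommRing A'] [IsNoetherianRing A'] (hcm : LocCoh.IsCohenMacaulayRing A)
    (hcat' : CAlg.IsCatenary A') [Algebra A A'] [Module.Flat A A'] (I : Ideal A) (I' : Ideal A')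
    (hTT : ∀ q : PrimeSpectrum A', I' ≤ q.asIdeal → I ≤ q.asIdeal.comap (algebraMap A A'))
    (p' : PrimeSpectrum A') (a b n : ℕ)
    (ha : SGA2.relCodim I (PrimeSpectrum.comap (algebraMap A A') p') = a)
    (hb : SGA2.relCodim I' p' = b)
    (hn : p'.asIdeal.height = (p'.asIdeal.comap (algebraMap A A')).height + n) : a ≤ b + n := by
  rw [relCodim_eq] at ha hb
  have h1 : (⨅ q : {q : PrimeSpectrum A' // p' ≤ q ∧ I' ≤ q.asIdeal}, rlen p' q.1) < ((b + 1 : ℕ) : ℕ∞) := by
    rw [hb]
    exact_mod_cast Nat.lt_succ_self b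
  obtain ⟨⟨q', hq1, hq2⟩, hq3⟩ := iInf_lt_iff.1 h1
  have h2 : rlen p' q' ≤ b := by
    have : rlen p' q' < (b : ℕ∞) + 1 := by exact_mod_cast hq3
    exact Order.le_of_lt_add_one this
  have h3 := K176.DeltaHt.rlen_le hcat' p' q' hq1 n hn
  have h4 : (a : ℕ∞) ≤ rlen (PrimeSpectrum.comap (algebraMap A A') p')
      (PrimeSpectrum.comap (algebraMap A A') q') := by
    rw [← ha]
    exact iInf_le (fun q : {q : PrimeSpectrum A // PrimeSpectrum.comap (algebraMap A A') p' ≤ q ∧
      I ≤ q.asIdeal} => rlen (PrimeSpectrum.comap (algebraMap A A') p') q.1)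
      ⟨PrimeSpectrum.comap (algebraMap A A') q', Ideal.comap_mono hq1, hTT q' hq2⟩
  have h5 : (a : ℕ∞) ≤ (b : ℕ∞) + n := h4.trans (h3.trans (by gcongr))
  exact_mod_cast h5

end K176.DeltaT
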