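import Groth.Agent.Sga2lef.H107.Acyc
import Groth.Agent.Etbc.H189.CoreSucc
import Groth.Agent.S3471
import Groth.Agent.S3365

/-!
# Additivity of the étale depth at a point, with restricted acyclicity

For `f : X ⟶ S` locally `m`-acyclic for `ℓ`, `F` of depth `≥ p` at `f x` and the fibre of depth `≥ q` at `x`,
the depth of `f^* F` at `x` is `≥ min (p + q) (m + 2)`.
-/

set_option autoImplicit false
universe u
open CategoryTheory CategoryTheory.Limits AlgebraicGeometry Opposite IsLocalRing TopologicalSpace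

namespace K176.DepthAdd

open Groth.Agent.Sga2lef.H107
open Groth.Agent.Etrest.StrictLoc Groth.Agent.Ega2.LACRB Groth.Agent.Sga1.UlaSL
  Groth.Agent.Sga1.UlaLoc Groth.Agent.Etcore.HpullCalc DegRB LocRQ DepthSES Groth.Agent.Etbc.H188.ZDBase Fibres Efface Induct

/-- A continuous image of a Noetherian space is Noetherian. -/
theorem noetherianSpace_of_surjective {Y Z : Type*} [TopologicalSpace Y] [TopologicalSpace Z]
    [NoetherianSpace Y] (g : Y → Z) (hg : Continuous g) (hs : Function.Surjective g) : NoetherianSpace Z := by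
  rw [noetherianSpace_iff_opens]
  intro U
  have h1 : (U : Set Z) = g '' (g ⁻¹' (U : Set Z)) := (Set.image_preimage_eq _ hs).symm
  rw [h1]
  exact (NoetherianSpace.isCompact _).image hg

section

variable {X S : Scheme.{u}} {f : X ⟶ S} {A B : Type u} [CommRing A] [IsLocalRing A] [CommRing B]
  [IsLocalRing B] {σ : Spec (CommRingCat.of A) ⟶ S} {τ : Spec (CommRingCat.of B) ⟶ X}
  (hσ : IsStrictLoc σ) (hτ : IsStrictLoc τ) (β : A →+* B) [IsLocalHom β]
  (hβ : spm β ≫ σ = τ ≫ f) {ℓ n : ℕ} (hℓ : ℓ.Prime)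

include hσ hτ hβ hℓ

theorem surjective_spm (hf : EtDepth.IsLocAcyclicLE f ℓ n) : Function.Surjective (spm β) := by
  intro a
  have h := BCOpen.of_onStrictLocalizations (GeomLE.onStrictLocalizations hℓ hf) hσ hτ β hβ a
    (AlgebraicClosure ((Spec (CommRingCat.of A)).residueField a))
  obtain ⟨z⟩ := h.1
  refine ⟨pullback.fst (spm β) _ z, ?_⟩
  have h1 := congrArg (fun t => t z) (pullback.condition (f := spm β) (g := EtAcyc.geomPt
    (Spec (CommRingCat.of A)) a (AlgebraicClosure ((Spec (CommRingCat.of A)).residueField a))))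
  refine Eq.trans h1 ?_
  exact Scheme.fromSpecResidueField_apply a _

/-- `spm β` is locally `n`-acyclic. -/
theorem isLocAcyclicN_spm (hf : EtDepth.IsLocAcyclicLE f ℓ n) : EtAcyc.IsLocAcyclicN (spm β) {ℓ} n := by
  have := weaklyEtale_of_isStrictLoc hσ
  have := weaklyEtale_of_isStrictLoc hτ
  refine (Groth.Agent.S3471.result (spm β) {ℓ} ⟨ℓ, rfl, hℓ⟩ n).2 ?_
  exact Groth.Agent.Etbc.H198.WeBC.of_weaklyEtale_sq (GeomLE.onStrictLocalizations hℓ hf)
    (spm β) τ σ hβ.symm

end

/-- The case `p = 0`. -/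
theorem base {X S : Scheme.{u}} {f : X ⟶ S} {A B : Type u} [CommRing A] [IsLocalRing A]
    [CommRing B] [IsLocalRing B] [IsNoetherianRing B] {σ : Spec (CommRingCat.of A) ⟶ S}
    {τ : Spec (CommRingCat.of B) ⟶ X} (hσ : IsStrictLoc σ) (hτ : IsStrictLoc τ) (β : A →+* B)
    [IsLocalHom β] (hβ : spm β ≫ σ = τ ≫ f) {ℓ m q : ℕ} (hℓ : ℓ.Prime)
    (hf : EtDepth.IsLocAcyclicLE f ℓ m) {C : Type u} [CommRing C]
    [HenselianLocalRing C] [IsSepClosed (ResidueField C)] (c : B →+* C) (hc : Function.Surjective c)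
    (ψ : ResidueField A →+* C) (sq : IsPullback (spm c) (spm ψ) (spm β) (resPt A))
    (hd : EtDepth.DepthGE (FEt.puncturedSpec C).ι
      (EtCoh.const (Spec (CommRingCat.of C)) (ZMod ℓ)) q)
    (G : EtCoh.Ab (Spec (CommRingCat.of A))) (hG : EtDepth.IsLTorsion ℓ G) :
    EtDepth.DepthGE (FEt.puncturedSpec B).ι ((EtCoh.pull (spm β)).obj G) (min q (m + 2)) := by
  have := hσ.henselian
  have := hσ.sepClosed
  have := hτ.henselian
  have := hτ.sepClosed
  have hd' := DepthGE.mono hd (min_le_left q (m + 2))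
  have hm : min q (m + 2) - 2 ≤ m := by omega
  generalize min q (m + 2) = n at hd' hm ⊢
  match n, hd', hm with
  | 0, _, _ => exact fun p hp => absurd hp (Nat.not_lt_zero p)
  | 1, hd', _ => exact Acyc.depthGE_one β hℓ c hc ψ sq.w hd' _
  | n + 2, hd', hm =>
    exact Acyc.depthGE_two hσ hτ β hβ hℓ
      (fun _ _ g _ _ _ h1 h2 => Groth.Agent.Etbc.H189.CoreSucc.core g h1 h2)
      (isLocAcyclicLE_mono hf (by omega)) c hc ψ sq hd' _ ((isLTorsion_iff_acyc hℓ _).1 hG)

/-- The induction. -/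
theorem main {X S : Scheme.{u}} {f : X ⟶ S} {A B : Type u} [CommRing A] [IsLocalRing A]
    [CommRing B] [IsLocalRing B] [IsNoetherianRing B] {σ : Spec (CommRingCat.of A) ⟶ S}
    {τ : Spec (CommRingCat.of B) ⟶ X} (hσ : IsStrictLoc σ) (hτ : IsStrictLoc τ) (β : A →+* B)
    [IsLocalHom β] (hβ : spm β ≫ σ = τ ≫ f) {ℓ m q : ℕ} (hℓ : ℓ.Prime)
    (hf : EtDepth.IsLocAcyclicLE f ℓ m) {C : Type u} [CommRing C]
    [HenselianLocalRing C] [IsSepClosed (ResidueField C)] (c : B →+* C) (hc : Function.Surjective c)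
    (ψ : ResidueField A →+* C) (sq : IsPullback (spm c) (spm ψ) (spm β) (resPt A))
    (hd : EtDepth.DepthGE (FEt.puncturedSpec C).ι
      (EtCoh.const (Spec (CommRingCat.of C)) (ZMod ℓ)) q) (p : ℕ) :
    ∀ (G : EtCoh.Ab (Spec (CommRingCat.of A))) (_ : EtDepth.IsLTorsion ℓ G)
      (_ : EtDepth.DepthGE (FEt.puncturedSpec A).ι G p),
      EtDepth.DepthGE (FEt.puncturedSpec B).ι ((EtCoh.pull (spm β)).obj G) (min (p + q) (m + 2)) := by
  have hNB : NoetherianSpace (Spec (CommRingCat.of B)) := inferInstanceAs (NoetherianSpace (PrimeSpectrum B))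
  have hNA : NoetherianSpace (Spec (CommRingCat.of A)) :=
    noetherianSpace_of_surjective (spm β) (spm β).continuous (surjective_spm hσ hτ β hβ hℓ hf)
  have hQB : QuasiCompact (FEt.puncturedSpec B).ι := inferInstance
  have hQA : QuasiCompact (FEt.puncturedSpec A).ι := by
    have : NoetherianSpace (FEt.puncturedSpec A).toScheme :=
      (FEt.puncturedSpec A).ι.isOpenEmbedding.isInducing.noetherianSpace
    exact quasiCompact_of_noetherianSpace_source _
  have hYZ : ∀ y : Spec (CommRingCat.of B), y ∉ Set.range (FEt.puncturedSpec B).ι.base →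
      (spm β).base y ∉ Set.range (FEt.puncturedSpec A).ι.base := by
    intro y hy
    have h1 : y = closedPoint B := by
      have := (mem_range_punct B y).not.1 hy
      rwa [not_not] at this
    subst h1
    refine (mem_range_punct A _).not.2 ?_
    rw [not_not]
    exact closedPoint_map β
  induction p with
  | zero =>
    intro G hG _
    rw [Nat.zero_add]
    exact base hσ hτ β hβ hℓ hf c hc ψ sq hd G hG
  | succ p ih =>
    intro F hF hb
    let k := (FEt.puncturedSpec A).ι
    obtain ⟨I, i, hi, hI, hv⟩ := exists_efface {ℓ} ((EtCoh.pull k).obj F)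
      ((isLTorsion_iff_acyc hℓ _).1 (isLTorsion_pull k F hF))
    have hv' : ∀ q : ℕ, 0 < q → IsZero ((EtCoh.Rpush k q).obj I) := fun q hq => hv k q hq
    let φ : F ⟶ (EtCoh.push k).obj I := (EtCoh.pullPushAdj k).unit.app F ≫ (EtCoh.push k).map i
    have hφ : Mono φ := by
      have h1 : Mono ((EtCoh.pullPushAdj k).unit.app F) := mono_unit_of_depthGE k hb
      have h2 : Mono ((EtCoh.push k).map i) := inferInstance
      exact mono_comp _ _
    let T : ShortComplex (EtCoh.Ab (Spec (CommRingCat.of A))) :=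
      ShortComplex.mk φ (cokernel.π φ) (cokernel.condition φ)
    have hT : T.ShortExact :=
      { exact := ShortComplex.exact_of_g_is_cokernel _ (cokernelIsCokernel φ)
        mono_f := hφ
        epi_g := inferInstanceAs (Epi (cokernel.π φ)) }
    have hQ : EtDepth.IsLTorsion ℓ T.X₃ := by
      have : Epi T.g := hT.epi_g
      exact isLTorsion_of_epi hℓ T.g (isLTorsion_push k I ((isLTorsion_iff_acyc hℓ I).2 hI))
    have hbQ : EtDepth.DepthGE k T.X₃ p := depthGE_X₃ k hT (depthGE_push k I hv' p) hb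
    have ihQ := ih T.X₃ hQ hbQ
    have := Groth.Agent.S0101.result (spm β)
    have hT' : (T.map (EtCoh.pull (spm β))).ShortExact := hT.map_of_exact (EtCoh.pull (spm β))
    have hG : EtDepth.DepthGE (FEt.puncturedSpec B).ι (T.map (EtCoh.pull (spm β))).X₂
        (min (p + 1 + q) (m + 2)) :=
      DepthGE.mono (depthGE_pull_push (spm β) (FEt.puncturedSpec B).ι k Groth.Agent.S3365.result hYZ {ℓ} m
        (isLocAcyclicN_spm hσ hτ β hβ hℓ hf) I hI hv') (min_le_right _ _)
    exact depthGE_X₁ _ hT' hG (DepthGE.mono ihQ (by omega))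

/-- **Additivity at a point.** -/
theorem depthAtGE {X S : Scheme.{u}} (f : X ⟶ S) (x : X) (hx : IsNoetherianRing (X.presheaf.stalk x))
    (ℓ : ℕ) (hℓ : ℓ.Prime) (m p q : ℕ) (F : EtCoh.Ab S) (hF : EtDepth.IsLTorsion ℓ F)
    (hf : EtDepth.IsLocAcyclicLE f ℓ m) (hp : EtDepth.DepthAtGE S F (f.base x) p)
    (hq : ∀ x' : ↥(f.fiber (f.base x)), (f.fiberι (f.base x)).base x' = x →
      EtDepth.DepthAtGE (f.fiber (f.base x)) (EtCoh.const (f.fiber (f.base x)) (ZMod ℓ)) x' q) :
    EtDepth.DepthAtGE X ((EtCoh.pull f).obj F) x (min (p + q) (m + 2)) := by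
  intro B _ _ _ _ _
  have hN : IsNoetherianRing B :=
    (Groth.Agent.S0540.result (X.presheaf.stalk x) B).1 hx
  have hτ : IsStrictLoc (Hens2.specOf X x B) := isStrictLoc_specOf X x B
  have hτx : Hens2.specOf X x B (closedPoint B) = x :=
    Groth.Agent.Etrest.VCBaseChange.specOf_closedPoint X x B
  obtain ⟨A, _, _, σ, β, hσ, hβl, hβ⟩ := exists_over f hτ
  have := hσ.henselian
  have := hσ.sepClosed
  have := hτ.henselian
  have := hτ.sepClosed
  have hs : σ (closedPoint A) = f.base x := by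
    have h1 : (spm β ≫ σ) (closedPoint B) = (Hens2.specOf X x B ≫ f) (closedPoint B) := by rw [hβ]
    rw [Scheme.Hom.comp_apply, Scheme.Hom.comp_apply, hτx, closedPoint_map] at h1
    exact h1
  obtain ⟨hCl, ρ, hρ, hρ1⟩ := FibreLoc.exists_strictLoc_fiber f hσ hτ β hβ _ hs
  have := hρ.henselian
  have := hρ.sepClosed
  have hcl : f.fiberι (f.base x) (ρ (closedPoint _)) = x := by
    have h1 : (ρ ≫ f.fiberι (f.base x)) (closedPoint (B ⧸ (maximalIdeal A).map β)) =
        (spm (Ideal.Quotient.mk ((maximalIdeal A).map β)) ≫ Hens2.specOf X x B) (closedPoint _) := by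
      rw [hρ1]
    rw [Scheme.Hom.comp_apply, Scheme.Hom.comp_apply] at h1
    rw [h1]
    refine Eq.trans ?_ hτx
    congr 1
    have : IsLocalHom (Ideal.Quotient.mk ((maximalIdeal A).map β)) :=
      IsLocalHom.of_surjective _ Ideal.Quotient.mk_surjective
    exact (IsLocalRing.isLocalHom_iff_comap_closedPoint _).1 this
  have hd : EtDepth.DepthGE (FEt.puncturedSpec (B ⧸ (maximalIdeal A).map β)).ι
      (EtCoh.const (Spec (CommRingCat.of (B ⧸ (maximalIdeal A).map β))) (ZMod ℓ)) q :=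
    DepthSES.DepthGE.of_iso (EtCore.pullConst ρ (ZMod ℓ))
      (PunctFiber.depthGE_punct_of_isStrictLoc hρ _ rfl q (hq _ hcl))
  have e : (EtCoh.pull (spm β)).obj ((EtCoh.pull σ).obj F) ≅
      (EtCoh.pull (Hens2.specOf X x B)).obj ((EtCoh.pull f).obj F) :=
    pullIso hβ F ≪≫ (pullIso (h := Hens2.specOf X x B) (a := f) rfl F).symm
  refine DepthGE.of_iso e ?_
  let ψ : ResidueField A →+* B ⧸ (maximalIdeal A).map β :=
    Ideal.Quotient.lift (maximalIdeal A) ((Ideal.Quotient.mk ((maximalIdeal A).map β)).comp β)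
      (fun a ha => by
        rw [RingHom.comp_apply, Ideal.Quotient.eq_zero_iff_mem]
        exact Ideal.mem_map_of_mem _ ha)
  have hψ : ψ.comp (residue A) = (Ideal.Quotient.mk ((maximalIdeal A).map β)).comp β := by
    ext x; rfl
  have sq := FibreLoc.isPullback_quot β (residue A) residue_surjective
    ((maximalIdeal A).map β) (by rw [ker_residue]) ψ hψ
  exact main hσ hτ β hβ hℓ hf (Ideal.Quotient.mk ((maximalIdeal A).map β))
    Ideal.Quotient.mk_surjective ψ sq hd p _ (isLTorsion_pull σ F hF)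
    (PunctFiber.depthGE_punct_of_isStrictLoc hσ _ hs p hp)

end K176.DepthAdd
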