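import Groth.Agent.Sga2lef.H134.DepthAt
import Groth.Agent.Sga2lef.H87.DepthLocal
import Groth.Agent.Sga2lef.H107.DepthSES
import Groth.Agent.Sga2lef.H338.HpullDev
import Groth.Agent.EtpbcA.OverSite2
import Groth.Agent.EtpbcB.TorsEtN
import Groth.Agent.Etbase.OverStalk
import Groth.Agent.S0101

/-!
# Étale depth of finite locally constant `ℓ`-torsion sheaves, in terms of the depth of `ℤ/ℓ`
-/

set_option autoImplicit false
universe u
open CategoryTheory CategoryTheory.Limits AlgebraicGeometry Opposite TopologicalSpace IsLocalRing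

namespace K176.FlcDepth

open EtCoh Groth.Agent.Etrest.HpullConst

/-- a constant sheaf which is `ℓ`-torsion on a nonempty scheme has `ℓ`-primary value group. -/
theorem torsion_of_const (X : Scheme.{u}) (ℓ : ℕ) (M : Type (u + 1)) [AddCommGroup M]
    (h : EtDepth.IsLTorsion ℓ ((constU X).obj (AddCommGrpCat.of M))) (x : X) (m : M) :
    ∃ k : ℕ, ℓ ^ k • m = 0 := by
  have h' : Groth.Agent.EtpbcB.TorsEtN.TorsionN {n | ∃ k : ℕ, n = ℓ ^ k}
      ((constU X).obj (AddCommGrpCat.of M)) := by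
    intro U s y
    obtain ⟨V, g, hv, k, hk⟩ := h U s y
    exact ⟨V, g, ℓ ^ k, hv, ⟨k, rfl⟩, hk⟩
  rw [Groth.Agent.EtpbcB.TorsEtN.torsionN_iff_stalk] at h'
  obtain ⟨Ω, _, _, ξ, -⟩ := Groth.Agent.Etcore.Stalks.exists_geom x
  let e : (EtCoh.stalk ξ).obj ((constU X).obj (AddCommGrpCat.of M)) ≅ AddCommGrpCat.of M :=
    Groth.Agent.Etbase.OverStalk.sheafFiberConstantSheafIso (Scheme.pointSmallEtale ξ) _
  obtain ⟨n, ⟨k, rfl⟩, h⟩ := h' Ω ξ (e.inv m)
  refine ⟨k, ?_⟩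
  rw [← map_nsmul] at h
  have h1 := congrArg e.hom h
  rw [map_zero, ← ConcreteCategory.comp_apply, e.inv_hom_id] at h1
  exact h1

theorem isLTorsion_pull {X Y : Scheme.{u}} (ℓ : ℕ) (f : X ⟶ Y) {F : EtCoh.Ab Y}
    (hF : EtDepth.IsLTorsion ℓ F) : EtDepth.IsLTorsion ℓ ((EtCoh.pull f).obj F) := by
  have h' : Groth.Agent.EtpbcB.TorsEtN.TorsionN {n | ∃ k : ℕ, n = ℓ ^ k} F := by
    intro U s y
    obtain ⟨V, g, hv, k, hk⟩ := hF U s y
    exact ⟨V, g, ℓ ^ k, hv, ⟨k, rfl⟩, hk⟩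
  have h2 := Groth.Agent.EtpbcB.TorsEtN.torsionN_pull _ f F h'
  intro U s y
  obtain ⟨V, g, _, hv, ⟨k, rfl⟩, hk⟩ := h2 U s y
  exact ⟨V, g, hv, k, hk⟩

theorem isLTorsion_of_iso {X : Scheme.{u}} (ℓ : ℕ) {F G : EtCoh.Ab X} (e : F ≅ G)
    (hF : EtDepth.IsLTorsion ℓ F) : EtDepth.IsLTorsion ℓ G := by
  intro U s y
  obtain ⟨V, g, hv, k, hk⟩ := hF U (e.inv.hom.app (op U) s) y
  refine ⟨V, g, hv, k, ?_⟩
  have h1 : F.obj.map g.op (e.inv.hom.app (op U) s) = e.inv.hom.app (op V) (G.obj.map g.op s) :=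
    (NatTrans.naturality_apply e.inv.hom g.op s).symm
  rw [h1, ← map_nsmul] at hk
  have h2 := congrArg (e.hom.hom.app (op V)) hk
  rw [map_zero, ← ConcreteCategory.comp_apply] at h2
  have h3 : e.inv.hom.app (op V) ≫ e.hom.hom.app (op V) = 𝟙 _ := by
    have := congrArg (fun q => q.hom.app (op V)) e.inv_hom_id
    exact this
  rw [h3] at h2
  exact h2

/-- all finite constant `ℓ`-primary coefficients -/
theorem depthGE_pull_const {T X U : Scheme.{u}} (j : U ⟶ X) [EtCoh.BCCont j] (τ : X ⟶ T) (ℓ : ℕ) (hℓ : ℓ.Prime)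
    (n : ℕ) (h : EtDepth.DepthGE j ((EtCoh.pull τ).obj (const T (ZMod ℓ))) n)
    (M : Type) [AddCommGroup M] [Finite M] (hM : ∀ m : M, ∃ k : ℕ, ℓ ^ k • m = 0) :
    EtDepth.DepthGE j ((EtCoh.pull τ).obj (const T M)) n := by
  have hl : PreservesFiniteLimits (constU T) := by
    unfold constU constantSheaf
    infer_instance
  have hr : PreservesFiniteColimits (constU T) := by
    have : PreservesColimitsOfSize.{0, 0} (constU T) :=
      ((constantSheafAdj T.smallEtaleTopology AddCommGrpCat.{u + 1}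
        (EtCore.topIsTerminal T))).leftAdjoint_preservesColimits
    exact PreservesColimitsOfSize.preservesFiniteColimits _
  have hl2 : PreservesFiniteLimits (EtCoh.pull τ) := Groth.Agent.S0101.result τ
  have hr2 : PreservesFiniteColimits (EtCoh.pull τ) := by
    have : PreservesColimitsOfSize.{0, 0} (EtCoh.pull τ) :=
      (EtCoh.pullPushAdj τ).leftAdjoint_preservesColimits
    exact PreservesColimitsOfSize.preservesFiniteColimits _
  have hadd : ∀ p, (EtDual.locCoh j p).Additive := fun p =>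
    Groth.Agent.Etrest.RDer1.rightDerived_additive _ _
  refine Groth.Agent.Sga2lef.H338.HpullDev.finite_induction
    (fun M => (∀ m : M, ∃ k : ℕ, ℓ ^ k • m = 0) →
      EtDepth.DepthGE j ((EtCoh.pull τ).obj ((constU T).obj M)) n)
    (fun {M M'} e he hM' => ?_)
    (fun M hM _ p _ => (EtDual.locCoh j p).map_isZero ((EtCoh.pull τ).map_isZero ((constU T).map_isZero hM)))
    (fun S hS h1 h3 h2 => ?_)
    (fun p hp hp' => ?_)
    (Nat.card (ULift.{u + 1} M)) (ULift.{u + 1} M) le_rfl (fun m => ?_)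
  · refine Groth.Agent.Sga2lef.H107.DepthSES.DepthGE.of_iso ((EtCoh.pull τ).mapIso ((constU T).mapIso e))
      (he fun m => ?_)
    obtain ⟨k, hk⟩ := hM' (e.hom m)
    refine ⟨k, ?_⟩
    rw [← map_nsmul] at hk
    have h1 := congrArg e.inv hk
    rw [map_zero, ← ConcreteCategory.comp_apply, e.hom_inv_id] at h1
    exact h1
  · have hinj := (AddCommGrpCat.mono_iff_injective S.f).1 hS.mono_f
    have hsurj := (AddCommGrpCat.epi_iff_surjective S.g).1 hS.epi_g
    refine Groth.Agent.Sga2lef.H107.DepthSES.depthGE_X₂ j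
      ((hS.map_of_exact (constU T)).map_of_exact (EtCoh.pull τ)) (h1 fun m => ?_) (h3 fun m => ?_)
    · obtain ⟨k, hk⟩ := h2 (S.f m)
      refine ⟨k, hinj ?_⟩
      rw [map_nsmul, hk, map_zero]
    · obtain ⟨m', rfl⟩ := hsurj m
      obtain ⟨k, hk⟩ := h2 m'
      refine ⟨k, ?_⟩
      rw [← map_nsmul, hk, map_zero]
  · have hpl : p = ℓ := by
      obtain ⟨k, hk⟩ := hp' (ULift.up 1)
      have h1 : ((ℓ ^ k : ℕ) : ZMod p) = 0 := by
        have h2 := congrArg ULift.down hk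
        have h3 : (ℓ ^ k) • (1 : ZMod p) = 0 := h2
        rwa [nsmul_eq_mul, mul_one] at h3
      rw [ZMod.natCast_eq_zero_iff] at h1
      exact (Nat.prime_dvd_prime_iff_eq hp hℓ).1 (hp.dvd_of_dvd_pow h1)
    subst hpl
    exact h
  · obtain ⟨k, hk⟩ := hM m.down
    exact ⟨k, ULift.down_injective hk⟩

/-- pointwise version. -/
theorem depthAtGE_of_flc {X : Scheme.{u}} (ℓ : ℕ) (hℓ : ℓ.Prime) (n : ℕ) (y : X)
    (hX : EtDepth.DepthAtGE X (EtCoh.const X (ZMod ℓ)) y n) (F : EtCoh.Ab X)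
    (hFlc : EtCoh.IsFiniteLocallyConstant F) (hFt : EtDepth.IsLTorsion ℓ F) :
    EtDepth.DepthAtGE X F y n := by
  rw [Groth.Agent.EtpbcA.OverSite2.isFLC_iff_pull] at hFlc
  obtain ⟨ι, U, hU, h⟩ := hFlc
  obtain ⟨a, t, ht⟩ := hU y
  obtain ⟨M, _, _, ⟨e⟩⟩ := h a
  let g : (U a).left ⟶ X := Groth.Agent.EtpbcA.OverSite.str (U a)
  have hg : g t = y := ht
  have hge : Etale g := inferInstance
  rw [← hg, ← Groth.Agent.Sga2lef.H134.DepthAt.depthAtGE_pull_iff g] at hX ⊢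
  have hX' : EtDepth.DepthAtGE (U a).left (EtCoh.const (U a).left (ZMod ℓ)) t n :=
    Groth.Agent.Sga2lef.H134.DepthAt.DepthAtGE.of_iso (EtCore.pullConst g (ZMod ℓ)) hX
  refine Groth.Agent.Sga2lef.H134.DepthAt.DepthAtGE.of_iso e.symm ?_
  have hM : ∀ m : M, ∃ k : ℕ, ℓ ^ k • m = 0 := by
    have h1 : EtDepth.IsLTorsion ℓ (EtCoh.const (U a).left M) :=
      isLTorsion_of_iso ℓ e (isLTorsion_pull ℓ g hFt)
    intro m
    obtain ⟨k, hk⟩ := torsion_of_const (U a).left ℓ (ULift.{u + 1} M) h1 t (ULift.up m)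
    exact ⟨k, congrArg ULift.down hk⟩
  intro R _ _ _ _ _
  exact depthGE_pull_const _ _ ℓ hℓ n (hX' R) M hM

end K176.FlcDepth
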