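import Groth.Agent.EtDepth.K176.DepthAdd
import Groth.Agent.EtDepth.K176.FlcDepth
import Groth.Agent.Sga4B.ClosedSupp
import Groth.Agent.Sga4B.PureComp
import Groth.Agent.Sga4h.LocCohLES
import Groth.Agent.Etbc.H188.PointLemma
import Groth.Agent.Etbc.H188.LTor
import Groth.Agent.S0655

/-!
# Descent of the étale depth along a locally acyclic morphism
-/

set_option autoImplicit false
universe u
open CategoryTheory CategoryTheory.Limits AlgebraicGeometry Opposite IsLocalRing TopologicalSpace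

namespace K176.DepthDown

open Groth.Agent.Sga2lef.H107
open Groth.Agent.Etrest.StrictLoc Groth.Agent.Ega2.LACRB Groth.Agent.Sga1.UlaSL
  Groth.Agent.Sga1.UlaLoc Groth.Agent.Etcore.HpullCalc DegRB LocRQ DepthSES Groth.Agent.Etbc.H188.ZDBase Fibres Efface Induct
open Groth.Agent.Etrest.HpullConst

/-- A nonzero `ℓ`-torsion sheaf over a separably closed field contains `ℤ/ℓ`. -/
theorem exists_mono_field (K : Type u) [Field K] [IsSepClosed K] {ℓ : ℕ} (hℓ : ℓ.Prime)
    (N : EtCoh.Ab (Spec (CommRingCat.of K))) (hN : EtDepth.IsLTorsion ℓ N) (h0 : ¬ IsZero N) :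
    ∃ φ : EtCoh.const (Spec (CommRingCat.of K)) (ZMod ℓ) ⟶ N, Mono φ := by
  obtain ⟨e⟩ := Groth.Agent.Etbc.H188.PointLemma.exists_iso_constU K N
  let M : AddCommGrpCat.{u + 1} := N.obj.obj (op (EtCoh.top (Spec (CommRingCat.of K))))
  have hM0 : ¬ IsZero M := fun h => h0 (((constU _).map_isZero h).of_iso e.symm)
  have hnt : ∃ m : M, m ≠ 0 := by
    by_contra hcon
    push Not at hcon
    have : Subsingleton M := ⟨fun a b => (hcon a).trans (hcon b).symm⟩
    exact hM0 (AddCommGrpCat.isZero_of_subsingleton _)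
  obtain ⟨m, hm⟩ := hnt
  have ht : ∃ k : ℕ, ℓ ^ k • m = 0 :=
    K176.FlcDepth.torsion_of_const (Spec (CommRingCat.of K)) ℓ M
      (K176.FlcDepth.isLTorsion_of_iso ℓ e.symm hN) (closedPoint K) m
  classical
  have hk := Nat.find_spec ht
  have hk0 : Nat.find ht ≠ 0 := by
    intro h
    rw [h, pow_zero, one_smul] at hk
    exact hm hk
  obtain ⟨k, hk1⟩ := Nat.exists_eq_succ_of_ne_zero hk0
  have hk2 : ℓ ^ k • m ≠ 0 := Nat.find_min ht (by omega)
  have hk3 : ℓ • (ℓ ^ k • m) = 0 := by
    rw [smul_smul, ← pow_succ', ← Nat.succ_eq_add_one, ← hk1]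
    exact hk
  have : Fact ℓ.Prime := ⟨hℓ⟩
  have hord : addOrderOf (ℓ ^ k • m) = ℓ := addOrderOf_eq_prime hk3 hk2
  let f : ZMod ℓ →+ M := ZMod.lift ℓ ⟨zmultiplesHom M (ℓ ^ k • m), by
    simp only [zmultiplesHom_apply, natCast_zsmul]
    exact hk3⟩
  have hf : Function.Injective f := by
    rw [ZMod.lift_injective]
    intro a ha
    have h1 : a • (ℓ ^ k • m) = 0 := ha
    rw [← addOrderOf_dvd_iff_zsmul_eq_zero, hord] at h1
    exact (ZMod.intCast_zmod_eq_zero_iff_dvd a ℓ).2 h1
  let F : AddCommGrpCat.of (ULift.{u + 1} (ZMod ℓ)) ⟶ M :=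
    AddCommGrpCat.ofHom (f.comp (AddEquiv.ulift.toAddMonoidHom : ULift.{u + 1} (ZMod ℓ) →+ ZMod ℓ))
  have hF : Mono F := by
    rw [AddCommGrpCat.mono_iff_injective]
    exact hf.comp ULift.down_injective
  have hl : PreservesFiniteLimits (constU (Spec (CommRingCat.of K))) := by
    unfold constU constantSheaf
    infer_instance
  have hmm : Mono ((constU (Spec (CommRingCat.of K))).map F) := inferInstance
  exact ⟨(constU (Spec (CommRingCat.of K))).map F ≫ e.hom, mono_comp _ _⟩

theorem isZero_of_push {Z X : Scheme.{u}} (i : Z ⟶ X) [IsClosedImmersion i] {F : EtCoh.Ab Z}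
    (h : IsZero ((EtCoh.push i).obj F)) : IsZero F := by
  have : (EtCoh.push i).Faithful := (Groth.Agent.S0067.result i).2
  rw [IsZero.iff_id_eq_zero]
  apply (EtCoh.push i).map_injective
  exact h.eq_of_src _ _

/-- A sheaf of depth `0` at the closed point contains a skyscraper `ℤ/ℓ`. -/
theorem exists_mono {A : Type u} [CommRing A] [IsLocalRing A] [IsSepClosed (ResidueField A)] {ℓ : ℕ}
    (hℓ : ℓ.Prime) (G : EtCoh.Ab (Spec (CommRingCat.of A))) (hG : EtDepth.IsLTorsion ℓ G)
    (h : ¬ EtDepth.DepthGE (FEt.puncturedSpec A).ι G 1) :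
    ∃ φ : (EtCoh.push (resPt A)).obj (EtCoh.const (Spec (CommRingCat.of (ResidueField A))) (ZMod ℓ)) ⟶ G,
      Mono φ := by
  let k := (FEt.puncturedSpec A).ι
  let S := (EtDual.secSupp k).obj G
  have hS0 : ¬ IsZero S := by
    intro h1
    apply h
    intro p hp
    obtain rfl : p = 0 := by omega
    exact h1.of_iso ((Groth.Agent.Sga4h.LocCohLES.locCohZeroIso k).app G)
  have hpull : IsZero ((EtCoh.pull k).obj S) := Groth.Agent.Sga4B.ClosedSupp.isZero_pull_secSupp k G
  have hcl : IsClosedImmersion (resPt A) := IsClosedImmersion.spec_of_surjective _ residue_surjective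
  have hr : Set.range k = (Set.range (resPt A))ᶜ := by
    ext y
    rw [show (y ∈ Set.range k) ↔ y ≠ closedPoint A from mem_range_punct A y, Set.mem_compl_iff, not_iff_not]
    constructor
    · intro hy
      refine ⟨closedPoint (ResidueField A), ?_⟩
      rw [hy]
      exact resPt_closedPoint A _
    · rintro ⟨z, rfl⟩
      exact resPt_closedPoint A z
  have hiso : IsIso ((EtCoh.pullPushAdj (resPt A)).unit.app S) :=
    Groth.Agent.Sga4B.ClosedSupp.isIso_unit_of_isZero (resPt A) k hr S hpull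
  have hNS : IsZero ((EtCoh.pull (resPt A)).obj S) → False := fun h1 =>
    hS0 (((EtCoh.push (resPt A)).map_isZero h1).of_iso (asIso ((EtCoh.pullPushAdj (resPt A)).unit.app S)))
  let ι : S ⟶ G := kernel.ι _
  have hι : Mono ι := inferInstanceAs (Mono (kernel.ι _))
  have hSt : EtDepth.IsLTorsion ℓ S := (isLTorsion_iff_acyc hℓ S).2
    (Groth.Agent.Etbc.H188.LTor.isLTorsion_of_mono ι ((isLTorsion_iff_acyc hℓ G).1 hG))
  obtain ⟨φ, hφ⟩ := exists_mono_field (ResidueField A) hℓ _ (isLTorsion_pull (resPt A) S hSt) hNS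
  have h2 : Mono ((EtCoh.push (resPt A)).map φ) := inferInstance
  exact ⟨(EtCoh.push (resPt A)).map φ ≫ inv ((EtCoh.pullPushAdj (resPt A)).unit.app S) ≫ ι, inferInstance⟩

/-- The depth of a sheaf on `Spec C`, `C` a quotient of `B`, from the depth of its direct image. -/
theorem depthGE_of_push {B C : Type u} [CommRing B] [IsLocalRing B] [CommRing C] [IsLocalRing C]
    (c : B →+* C) (hc : Function.Surjective c) (K : EtCoh.Ab (Spec (CommRingCat.of C))) (n : ℕ)
    (h : EtDepth.DepthGE (FEt.puncturedSpec B).ι ((EtCoh.push (spm c)).obj K) n) :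
    EtDepth.DepthGE (FEt.puncturedSpec C).ι K n := by
  have hcl : IsClosedImmersion (spm c) := IsClosedImmersion.spec_of_surjective _ hc
  have hl : IsLocalHom c := IsLocalHom.of_surjective c hc
  have hr := Groth.Agent.Sga2lef.H134.DepthAt.range_punct_eq c (spm c).isClosedEmbedding.injective
  obtain ⟨h', hsq⟩ := Groth.Agent.Sga4B.LocCohLocal.isPullback_of_range (FEt.puncturedSpec B).ι
      (spm c) (FEt.puncturedSpec C).ι hr
  intro p hp
  exact isZero_of_push (spm c)
    ((h p hp).of_iso (Groth.Agent.Sga4B.PureComp.locCohPushIso hsq p K).symm)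

/-- **Descent of the depth.** -/
theorem main {X S : Scheme.{u}} {f : X ⟶ S} {A B : Type u} [CommRing A] [IsLocalRing A]
    [CommRing B] [IsLocalRing B] [IsNoetherianRing B] {σ : Spec (CommRingCat.of A) ⟶ S}
    {τ : Spec (CommRingCat.of B) ⟶ X} (hσ : IsStrictLoc σ) (hτ : IsStrictLoc τ) (β : A →+* B)
    [IsLocalHom β] (hβ : spm β ≫ σ = τ ≫ f) {ℓ q : ℕ} (hℓ : ℓ.Prime)
    (hf : ∀ m : ℕ, EtDepth.IsLocAcyclicLE f ℓ m) {C : Type u} [CommRing C]
    [HenselianLocalRing C] [IsSepClosed (ResidueField C)] (c : B →+* C) (hc : Function.Surjective c)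
    (ψ : ResidueField A →+* C) (sq : IsPullback (spm c) (spm ψ) (spm β) (resPt A))
    (hd : EtDepth.DepthGE (FEt.puncturedSpec C).ι
      (EtCoh.const (Spec (CommRingCat.of C)) (ZMod ℓ)) q)
    (hnd : ¬ EtDepth.DepthGE (FEt.puncturedSpec C).ι
      (EtCoh.const (Spec (CommRingCat.of C)) (ZMod ℓ)) (q + 1)) (p : ℕ) :
    ∀ (G : EtCoh.Ab (Spec (CommRingCat.of A))) (_ : EtDepth.IsLTorsion ℓ G)
      (_ : EtDepth.DepthGE (FEt.puncturedSpec B).ι ((EtCoh.pull (spm β)).obj G) (p + q)),
      EtDepth.DepthGE (FEt.puncturedSpec A).ι G p := by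
  have := hσ.henselian
  have := hσ.sepClosed
  have hNB : NoetherianSpace (Spec (CommRingCat.of B)) := inferInstanceAs (NoetherianSpace (PrimeSpectrum B))
  have hNA : NoetherianSpace (Spec (CommRingCat.of A)) :=
    K176.DepthAdd.noetherianSpace_of_surjective (spm β) (spm β).continuous
      (K176.DepthAdd.surjective_spm hσ hτ β hβ hℓ (hf 0))
  have hQB : QuasiCompact (FEt.puncturedSpec B).ι := inferInstance
  have hQA : QuasiCompact (FEt.puncturedSpec A).ι := by
    have : NoetherianSpace (FEt.puncturedSpec A).toScheme :=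
      (FEt.puncturedSpec A).ι.isOpenEmbedding.isInducing.noetherianSpace
    exact quasiCompact_of_noetherianSpace_source _
  have hYZ : ∀ y : Spec (CommRingCat.of B), y ∉ Set.range (FEt.puncturedSpec B).ι.base →
      (spm β).base y ∉ Set.range (FEt.puncturedSpec A).ι.base := by
    intro y hy
    have h1 : y = closedPoint B := by
      have := (mem_range_punct B y).not.1 hy
      rwa [not_not] at this
    subst h1
    refine (mem_range_punct A _).not.2 ?_
    rw [not_not]
    exact closedPoint_map β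
  have hex := Groth.Agent.S0101.result (spm β)
  induction p with
  | zero =>
    intro G _ _
    exact depthGE_zero _ G
  | succ p ih =>
    intro F hF hb
    let k := (FEt.puncturedSpec A).ι
    -- the unit is a monomorphism
    have h1 : EtDepth.DepthGE k F 1 := by
      by_contra hcon
      obtain ⟨φ, hφ⟩ := exists_mono hℓ F hF hcon
      let T : ShortComplex (EtCoh.Ab (Spec (CommRingCat.of A))) :=
        ShortComplex.mk φ (cokernel.π φ) (cokernel.condition φ)
      have hT : T.ShortExact :=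
        { exact := ShortComplex.exact_of_g_is_cokernel _ (cokernelIsCokernel φ)
          mono_f := hφ
          epi_g := inferInstanceAs (Epi (cokernel.π φ)) }
      have hQ : EtDepth.IsLTorsion ℓ T.X₃ := by
        have : Epi T.g := hT.epi_g
        exact isLTorsion_of_epi hℓ T.g hF
      have hT' : (T.map (EtCoh.pull (spm β))).ShortExact := hT.map_of_exact (EtCoh.pull (spm β))
      have h3 : EtDepth.DepthGE (FEt.puncturedSpec B).ι (T.map (EtCoh.pull (spm β))).X₃ q :=
        DepthGE.mono (K176.DepthAdd.main (q := q) hσ hτ β hβ hℓ (hf q) c hc ψ sq hd 0 T.X₃ hQ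
          (depthGE_zero _ _)) (by omega)
      have h4 : EtDepth.DepthGE (FEt.puncturedSpec B).ι (T.map (EtCoh.pull (spm β))).X₁ (q + 1) :=
        depthGE_X₁ _ hT' (DepthGE.mono hb (by omega)) (DepthGE.mono h3 (by omega))
      have hcl : IsClosedImmersion (resPt A) :=
        IsClosedImmersion.spec_of_surjective _ residue_surjective
      have hiso := Groth.Agent.S0655.result (resPt A) (spm β) (spm c) (spm ψ) sq.flip
        (EtCoh.const (Spec (CommRingCat.of (ResidueField A))) (ZMod ℓ))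
      have h5 := DepthGE.of_iso (asIso (EtCoh.baseChange0 (resPt A) (spm β) (spm c) (spm ψ) sq.flip.w
        (EtCoh.const (Spec (CommRingCat.of (ResidueField A))) (ZMod ℓ)))) h4
      have h6 := depthGE_of_push c hc _ (q + 1) h5
      exact hnd (DepthGE.of_iso (EtCore.pullConst (spm ψ) (ZMod ℓ)) h6)
    obtain ⟨I, i, hi, hI, hv⟩ := exists_efface {ℓ} ((EtCoh.pull k).obj F)
      ((isLTorsion_iff_acyc hℓ _).1 (isLTorsion_pull k F hF))
    have hv' : ∀ q : ℕ, 0 < q → IsZero ((EtCoh.Rpush k q).obj I) := fun q hq => hv k q hq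
    let φ : F ⟶ (EtCoh.push k).obj I := (EtCoh.pullPushAdj k).unit.app F ≫ (EtCoh.push k).map i
    have hφ : Mono φ := by
      have h1 : Mono ((EtCoh.pullPushAdj k).unit.app F) := mono_unit_of_depthGE k h1
      have h2 : Mono ((EtCoh.push k).map i) := inferInstance
      exact mono_comp _ _
    let T : ShortComplex (EtCoh.Ab (Spec (CommRingCat.of A))) :=
      ShortComplex.mk φ (cokernel.π φ) (cokernel.condition φ)
    have hT : T.ShortExact :=
      { exact := ShortComplex.exact_of_g_is_cokernel _ (cokernelIsCokernel φ)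
        mono_f := hφ
        epi_g := inferInstanceAs (Epi (cokernel.π φ)) }
    have hQ : EtDepth.IsLTorsion ℓ T.X₃ := by
      have : Epi T.g := hT.epi_g
      exact isLTorsion_of_epi hℓ T.g (isLTorsion_push k I ((isLTorsion_iff_acyc hℓ I).2 hI))
    have hT' : (T.map (EtCoh.pull (spm β))).ShortExact := hT.map_of_exact (EtCoh.pull (spm β))
    have hG : EtDepth.DepthGE (FEt.puncturedSpec B).ι (T.map (EtCoh.pull (spm β))).X₂ (p + q) :=
      DepthGE.mono (depthGE_pull_push (spm β) (FEt.puncturedSpec B).ι k Groth.Agent.S3365.result hYZ {ℓ}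
        (p + q) (K176.DepthAdd.isLocAcyclicN_spm hσ hτ β hβ hℓ (hf _)) I hI hv') (by omega)
    have hQ3 : EtDepth.DepthGE (FEt.puncturedSpec B).ι (T.map (EtCoh.pull (spm β))).X₃ (p + q) :=
      depthGE_X₃ _ hT' hG (DepthGE.mono hb (by omega))
    exact depthGE_X₁ k hT (depthGE_push k I hv' (p + 1)) (ih T.X₃ hQ hQ3)

/-- Descent of the depth, at a point. -/
theorem depthAtGE_down {X S : Scheme.{u}} (f : X ⟶ S) (x : X) (hx : IsNoetherianRing (X.presheaf.stalk x))
    (ℓ : ℕ) (hℓ : ℓ.Prime) (p q : ℕ) (F : EtCoh.Ab S) (hF : EtDepth.IsLTorsion ℓ F)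
    (hf : ∀ m : ℕ, EtDepth.IsLocAcyclicLE f ℓ m)
    (hq : EtDepth.DepthAtGE (f.fiber (f.base x)) (EtCoh.const (f.fiber (f.base x)) (ZMod ℓ)) (f.asFiber x) q)
    (hnq : ¬ EtDepth.DepthAtGE (f.fiber (f.base x)) (EtCoh.const (f.fiber (f.base x)) (ZMod ℓ))
      (f.asFiber x) (q + 1))
    (h : EtDepth.DepthAtGE X ((EtCoh.pull f).obj F) x (p + q)) : EtDepth.DepthAtGE S F (f.base x) p := by
  obtain ⟨B, _, _, τ, hτ, hτx⟩ := exists_isStrictLoc X x
  obtain ⟨_, _, hBS, _⟩ := exists_specOf hτ x hτx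
  have hN : IsNoetherianRing B :=
    (Groth.Agent.S0540.result (X.presheaf.stalk x) B).1 hx
  obtain ⟨A, _, _, σ, β, hσ, hβl, hβ⟩ := exists_over f hτ
  have := hσ.henselian
  have := hσ.sepClosed
  have := hτ.henselian
  have := hτ.sepClosed
  have hs : σ (closedPoint A) = f.base x := by
    have h1 : (spm β ≫ σ) (closedPoint B) = (τ ≫ f) (closedPoint B) := by rw [hβ]
    rw [Scheme.Hom.comp_apply, Scheme.Hom.comp_apply, hτx, closedPoint_map] at h1
    exact h1
  obtain ⟨hCl, ρ, hρ, hρ1⟩ := FibreLoc.exists_strictLoc_fiber f hσ hτ β hβ _ hs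
  have := hρ.henselian
  have := hρ.sepClosed
  have hcl : f.fiberι (f.base x) (ρ (closedPoint _)) = x := by
    have h1 : (ρ ≫ f.fiberι (f.base x)) (closedPoint (B ⧸ (maximalIdeal A).map β)) =
        (spm (Ideal.Quotient.mk ((maximalIdeal A).map β)) ≫ τ) (closedPoint _) := by
      rw [hρ1]
    rw [Scheme.Hom.comp_apply, Scheme.Hom.comp_apply] at h1
    rw [h1]
    refine Eq.trans ?_ hτx
    congr 1
    have : IsLocalHom (Ideal.Quotient.mk ((maximalIdeal A).map β)) :=
      IsLocalHom.of_surjective _ Ideal.Quotient.mk_surjective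
    exact (IsLocalRing.isLocalHom_iff_comap_closedPoint _).1 this
  have hx₀ : ρ (closedPoint _) = f.asFiber x := by
    apply (f.fiberι (f.base x)).injective
    rw [hcl]
    exact (f.fiberι_asFiber x).symm
  rw [Groth.Agent.Sga2lef.H134.DepthAt.depthAtGE_iff_of_isStrictLoc hρ _ hx₀] at hq hnq
  have hd : EtDepth.DepthGE (FEt.puncturedSpec (B ⧸ (maximalIdeal A).map β)).ι
      (EtCoh.const (Spec (CommRingCat.of (B ⧸ (maximalIdeal A).map β))) (ZMod ℓ)) q :=
    DepthSES.DepthGE.of_iso (EtCore.pullConst ρ (ZMod ℓ)) hq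
  have hnd : ¬ EtDepth.DepthGE (FEt.puncturedSpec (B ⧸ (maximalIdeal A).map β)).ι
      (EtCoh.const (Spec (CommRingCat.of (B ⧸ (maximalIdeal A).map β))) (ZMod ℓ)) (q + 1) := fun h' =>
    hnq (DepthSES.DepthGE.of_iso (EtCore.pullConst ρ (ZMod ℓ)).symm h')
  have e : (EtCoh.pull (spm β)).obj ((EtCoh.pull σ).obj F) ≅
      (EtCoh.pull τ).obj ((EtCoh.pull f).obj F) :=
    pullIso hβ F ≪≫ (pullIso (h := τ) (a := f) rfl F).symm
  rw [Groth.Agent.Sga2lef.H134.DepthAt.depthAtGE_iff_of_isStrictLoc hτ _ hτx] at h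
  rw [Groth.Agent.Sga2lef.H134.DepthAt.depthAtGE_iff_of_isStrictLoc hσ _ hs]
  let ψ : ResidueField A →+* B ⧸ (maximalIdeal A).map β :=
    Ideal.Quotient.lift (maximalIdeal A) ((Ideal.Quotient.mk ((maximalIdeal A).map β)).comp β)
      (fun a ha => by
        rw [RingHom.comp_apply, Ideal.Quotient.eq_zero_iff_mem]
        exact Ideal.mem_map_of_mem _ ha)
  have hψ : ψ.comp (residue A) = (Ideal.Quotient.mk ((maximalIdeal A).map β)).comp β := by
    ext x; rfl
  have sq := FibreLoc.isPullback_quot β (residue A) residue_surjective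
    ((maximalIdeal A).map β) (by rw [ker_residue]) ψ hψ
  exact main hσ hτ β hβ hℓ hf (Ideal.Quotient.mk ((maximalIdeal A).map β))
    Ideal.Quotient.mk_surjective ψ sq hd hnd p _ (isLTorsion_pull σ F hF) (DepthGE.of_iso e.symm h)

end K176.DepthDown
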