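import Groth.Agent.EtDepth.K176.ThmCk
import Groth.Agent.Sga2lef.H134.Final

/-!
# The inputs of the vanishing theorem on affine space
-/

set_option autoImplicit false
universe u

-- kernel speed: the same instance path on `ℤ` as in the files on complexes
attribute [-instance] ConditionallyCompletePartialOrderSup.toPartialOrder ConditionallyCompletePartialOrderInf.toPartialOrder

-- kernel speed: find the instances on `ULift (ZMod m)` through `CommRing`
attribute [-instance] ULift.ring ULift.semiring ULift.commSemiring ULift.addCommGroup ULift.addCommMonoid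

open CategoryTheory CategoryTheory.Limits AlgebraicGeometry Opposite Pretriangulated

attribute [local instance 5000] CategoryTheory.Abelian.toPreadditive
  CategoryTheory.Preadditive.preadditiveHasZeroMorphisms

noncomputable section

namespace K176.Inst

open Groth.Agent K176.GoodDef
attribute [local instance] HasDerivedCategory.standard
open scoped Groth.Agent.Sga4h.ModInst
open Groth.Agent.Sga4h.ModRestr Groth.Agent.Etrest.ModAb Groth.Agent.Sga4h.EtPts Groth.Agent.Sga4h
  Groth.Agent.Sga4h.BidRed538Main Groth.Agent.Sga4B DerivedCategory Groth.Agent.Sga2lef.H134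

theorem inp (k : Type u) [Field k] [IsAlgClosed k] (m : ℕ) (hm : (m : k) ≠ 0) (N : ℕ) :
    ThmCk.Inp (ULift.{u + 1} (ZMod m)) 𝔸(ULift.{u} (Fin N); Spec (CommRingCat.of k))
      (IterP1.P (Spec (CommRingCat.of k)) N) m N := by
  have hm0 : 0 < m := Nat.pos_of_ne_zero fun h => hm (by rw [h, Nat.cast_zero])
  have : NeZero m := ⟨hm0.ne'⟩
  have hsm : Smooth (𝔸(ULift.{u} (Fin N); Spec (CommRingCat.of k)) ↘ Spec (CommRingCat.of k)) := by
    have h0 : SmoothOfRelativeDimension (0 + N) (IterP1.aff (Spec (CommRingCat.of k)) N ≫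
      IterP1.toBase (Spec (CommRingCat.of k)) N) := inferInstance
    have h1 : IterP1.aff (Spec (CommRingCat.of k)) N ≫ IterP1.toBase (Spec (CommRingCat.of k)) N =
      𝔸(ULift.{u} (Fin N); Spec (CommRingCat.of k)) ↘ Spec (CommRingCat.of k) := IterP1.aff_toBase _ N
    rw [← h1]
    exact SmoothOfRelativeDimension.smooth (0 + N) _
  exact ⟨fun E hE => Sga2lef.H93.ReflSm.refl_of_isDbc k m hm
      (𝔸(ULift.{u} (Fin N); Spec (CommRingCat.of k)) ↘ Spec (CommRingCat.of k)) E hE,
    Final.bddInj k m hm N,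
    BidP.bid_gen_P hm0 (Glue.lam_cast_eq_zero m) (BidP.in_zmod hm0) k hm N,
    BidGlobHSD.algClosed k m hm N⟩

theorem stmtC (k : Type u) [Field k] [IsAlgClosed k] [CharZero k] (m : ℕ) (hm : IsPrimePow m) (n : ℕ) :
    StmtC (ULift.{u + 1} (ZMod m)) k n := by
  refine ⟨fun N F hF => ?_⟩
  have hm0 : 0 < m := hm.pos
  have : NeZero m := ⟨hm0.ne'⟩
  have hmk : (m : k) ≠ 0 := Nat.cast_ne_zero.2 hm.pos.ne'
  have hb : IsProper (IterP1.toBase (Spec (CommRingCat.of k)) N) := inferInstance
  have hA : IsAffine 𝔸(ULift.{u} (Fin N); Spec (CommRingCat.of k)) :=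
    isAffine_of_isAffineHom (𝔸(ULift.{u} (Fin N); Spec (CommRingCat.of k)) ↘ Spec (CommRingCat.of k))
  exact ThmCk.main (inp k m hmk N) hm0 (Glue.lam_cast_eq_zero m) _
    (𝔸(ULift.{u} (Fin N); Spec (CommRingCat.of k)) ↘ Spec (CommRingCat.of k)) _ n F
    ((Groth.Agent.Etcore.LFinite.isConstructible_iff_ab _).2 hF.con)
    ((Final.stmtSupp k m hm N n).out F hF.con hF.depth)

end K176.Inst

end
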