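import Groth.Agent.EtDepth.K176.Geo3
import Groth.Agent.EtDepth.K176.Inst
import Groth.Agent.Sga2lef.H134.Assemble
import Groth.Agent.Sga2lef.H252.ModOf
import Groth.Agent.SGA4h.K557.WeakEt
import Groth.Agent.EtpbcA.CdT1

/-!
# Descent of the vanishing to fields of characteristic zero
-/

set_option autoImplicit false
universe u

open CategoryTheory CategoryTheory.Limits AlgebraicGeometry Opposite TopologicalSpace

noncomputable section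

namespace K176.Desc

open Groth.Agent.Sga4h.ModRestr Groth.Agent.Etrest.ModAb
  Groth.Agent.Sga4h.EtaleRes Groth.Agent Groth.Agent.Sga4h Groth.Agent.Sga4B
  Groth.Agent.Sga2lef.H134 Groth.Agent.Sga2lef.H134.SepWE
open K176.Geo

/-- The pull-back square. -/
theorem isPullback_comp {X S S' : Scheme.{u}} (f : X ⟶ S) (s : S' ⟶ S) (W : X.Opens) :
    IsPullback (pullback.fst f s ∣_ W) ((pullback.fst f s ⁻¹ᵁ W).ι ≫ pullback.snd f s) (W.ι ≫ f) s :=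
  (isPullback_morphismRestrict (pullback.fst f s) W).paste_vert (IsPullback.of_hasPullback f s)

theorem isZero_of_pull {X Y X' Y' : Scheme.{u}} {f : X ⟶ Y} {g : Y' ⟶ Y} {f' : X' ⟶ Y'} {g' : X' ⟶ X}
    (H : IsPullback g' f' f g) [WeaklyEtale g] [QuasiCompact f] [QuasiSeparated f]
    (hg : Function.Surjective g) (q : ℕ) (G : EtCoh.Ab X)
    (h : IsZero ((EtCoh.Rpush f' q).obj ((EtCoh.pull g').obj G))) : IsZero ((EtCoh.Rpush f q).obj G) := by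
  have h1 : IsIso (K557.BcQ.bq H.w q G) := K557.WeakEt.isIso_bq_of_weaklyEtale H q G
  have h2 : IsZero ((EtCoh.pull g).obj ((EtCoh.Rpush f q).obj G)) := h.of_iso (asIso (K557.BcQ.bq H.w q G))
  rw [EtpbcA.Artin.isZero_iff, EtpbcA.Artin.supp_pull] at h2
  rw [EtpbcA.Artin.isZero_iff, Set.eq_empty_iff_forall_notMem]
  intro y hy
  obtain ⟨y', rfl⟩ := hg y
  exact (Set.eq_empty_iff_forall_notMem.1 h2) y' hy

variable {Λ : Type (u + 1)} [CommRing Λ]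

/-- The underlying sheaf of `MW U W M`. -/
theorem nonempty_ab_MW {X : Scheme.{u}} (U W : X.Opens) (M : EtModW.Mod Λ X) (G : EtCoh.Ab (W : Scheme.{u}))
    (e : (ab Λ _).obj ((res Λ W.ι).obj M) ≅ G) :
    Nonempty ((ab Λ _).obj (MW U W M) ≅ OpenExt.ext (W.ι ⁻¹ᵁ U) G) := by
  let p := (W.ι ⁻¹ᵁ U).ι
  let N := (res Λ W.ι).obj M
  have e1 : (ab Λ _).obj (MW U W M) ≅ (EtShriek.extZero p).obj ((ab Λ _).obj ((res Λ p).obj N)) :=
    (Etdl.H424.ModLift.extAbIso Λ p).app ((res Λ p).obj N)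
  have e2 : (ab Λ _).obj ((res Λ p).obj N) ≅ (EtShriek.restrAlong p).obj ((ab Λ _).obj N) :=
    (ab Λ _).mapIso ((Etdl.H424.ModLift.pullResIso Λ p).symm.app N) ≪≫ (pullIso Λ p).app N ≪≫
      (Groth.Agent.Etcore.ShriekBasic.pullIsoRestr p).app _
  exact ⟨e1 ≪≫ (EtShriek.extZero p).mapIso (e2 ≪≫ (EtShriek.restrAlong p).mapIso e)⟩

/-- The key comparison. -/
theorem nonempty_pull {X X' : Scheme.{u}} (q : X' ⟶ X) (U W : X.Opens) (F : EtCoh.Ab X) (M : EtModW.Mod Λ X')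
    (e : (ab Λ X').obj M ≅ (EtCoh.pull q).obj F) :
    Nonempty ((EtCoh.pull (q ∣_ W)).obj (OpenExt.ext (W.ι ⁻¹ᵁ U) ((EtCoh.pull W.ι).obj F)) ≅
      (ab Λ _).obj (MW (q ⁻¹ᵁ U) (q ⁻¹ᵁ W) M)) := by
  obtain ⟨e1⟩ := OpenExt.nonempty_pull_ext (q ∣_ W) (W.ι ⁻¹ᵁ U) ((EtCoh.pull W.ι).obj F)
  have hO : (q ∣_ W) ⁻¹ᵁ (W.ι ⁻¹ᵁ U) = (q ⁻¹ᵁ W).ι ⁻¹ᵁ (q ⁻¹ᵁ U) := by
    rw [← Scheme.Hom.comp_preimage, ← Scheme.Hom.comp_preimage, morphismRestrict_ι]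
  have e2 : (EtCoh.pull (q ∣_ W)).obj ((EtCoh.pull W.ι).obj F) ≅ (EtCoh.pull (q ⁻¹ᵁ W).ι).obj ((EtCoh.pull q).obj F) :=
    (EtCore.pullComp (q ∣_ W) W.ι).symm.app F ≪≫
      eqToIso (by rw [morphismRestrict_ι]) ≪≫ (EtCore.pullComp (q ⁻¹ᵁ W).ι q).app F
  have e3 : (ab Λ _).obj ((res Λ (q ⁻¹ᵁ W).ι).obj M) ≅ (EtCoh.pull (q ∣_ W)).obj ((EtCoh.pull W.ι).obj F) :=
    (ab Λ _).mapIso ((Etdl.H424.ModLift.pullResIso Λ (q ⁻¹ᵁ W).ι).symm.app M) ≪≫ (pullIso Λ (q ⁻¹ᵁ W).ι).app M ≪≫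
      (EtCoh.pull (q ⁻¹ᵁ W).ι).mapIso e ≪≫ e2.symm
  obtain ⟨e4⟩ := nonempty_ab_MW (q ⁻¹ᵁ U) (q ⁻¹ᵁ W) M _ e3
  rw [hO] at e1
  exact ⟨e1 ≪≫ e4.symm⟩

theorem isZero_Rpush {k : Type u} [Field k] [CharZero k] {X : Scheme.{u}}
    (f : X ⟶ Spec (CommRingCat.of k)) [IsProper f]
    (c : ℕ) (V : Fin (c + 1) → X.Opens) (hV : ∀ i, IsAffineOpen (V i)) (W : X.Opens)
    (hUW : ∀ x : X, x ∉ (⨆ i, V i) → x ∈ W)
    (m : ℕ) (hm : IsPrimePow m) (F : EtCoh.Ab X) (hFm : EtCoh.KilledBy m F)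
    (hFc : EtPBC.IsConstructible F) (n : ℕ)
    (hdepth : ∀ x : X, x ∈ (⨆ i, V i) → ∀ d : ℕ,
      topologicalKrullDim ↥(closure ({x} : Set X)) = (d : WithBot ℕ∞) →
      EtDepth.DepthAtGE X F x (n - d)) (r : ℕ) (hr : r + c < n) :
    IsZero ((EtCoh.Rpush (W.ι ≫ f) r).obj (OpenExt.ext (W.ι ⁻¹ᵁ (⨆ i, V i)) ((EtCoh.pull W.ι).obj F))) := by
  let q : pullback f (sp k) ⟶ X := pullback.fst f (sp k)
  let f' : pullback f (sp k) ⟶ Spec (CommRingCat.of (AlgebraicClosure k)) := pullback.snd f (sp k)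
  have hwe : WeaklyEtale (sp k) := weaklyEtale_sp k
  have hwq : WeaklyEtale q := inferInstance
  have hiq : IsIntegralHom q := inferInstance
  have hpf : IsProper f' := inferInstance
  have hX : IsNoetherian X := Groth.Agent.CurvesA.ClosedPtSep.isNoetherian f
  have hchar : CharZero (AlgebraicClosure k) := charZero_of_injective_algebraMap
    (algebraMap k (AlgebraicClosure k)).injective
  have hF'm : EtCoh.KilledBy m ((EtCoh.pull q).obj F) := Groth.Agent.Sga4B.ShriekTools.killedBy_pull _ _ _ hFm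
  obtain ⟨M, ⟨e⟩⟩ := Sga2lef.H252.ModOf.exists_mod ((EtCoh.pull q).obj F) hF'm
  obtain ⟨e2⟩ := nonempty_pull q (⨆ i, V i) W F M e
  refine isZero_of_pull (isPullback_comp f (sp k) W) ?_ r _ ?_
  · intro y
    exact ⟨default, Subsingleton.elim (α := PrimeSpectrum k) _ _⟩
  · refine IsZero.of_iso ?_ ((EtCoh.Rpush ((q ⁻¹ᵁ W).ι ≫ f') r).mapIso e2)
    have hU : q ⁻¹ᵁ (⨆ i, V i) = ⨆ i, q ⁻¹ᵁ (V i) := Scheme.Hom.preimage_iSup q _
    rw [hU]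
    refine Geo3.isZero_Rpush (Inst.stmtC (AlgebraicClosure k) m hm n) f' c (fun i => q ⁻¹ᵁ (V i))
      (fun i => (hV i).preimage q) (q ⁻¹ᵁ W) (fun x hx => ?_) hm.pos (Glue.lam_cast_eq_zero m) M ?_ (fun x hx d hd => ?_) r hr
    · rw [← hU] at hx
      exact hUW (q x) hx
    · exact Groth.Agent.EtpbcA.StrataGlob.isConstructible_of_iso e.symm (Groth.Agent.S0127.result _ _ hFc)
    · refine DepthAt.DepthAtGE.of_iso e.symm ?_
      rw [DepthAt.depthAtGE_pull_iff]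
      rw [← hU] at hx
      refine hdepth _ hx d ?_
      rw [← hd]
      exact (DimCl.dim_closure_integral f f' q (sp k) pullback.condition x).symm

theorem vanish {k : Type u} [Field k] [CharZero k] {X : Scheme.{u}}
    (f : X ⟶ Spec (CommRingCat.of k)) [IsProper f]
    (c : ℕ) (V : Fin (c + 1) → X.Opens) (hV : ∀ i, IsAffineOpen (V i)) (W : X.Opens)
    (hUW : ∀ x : X, x ∉ (⨆ i, V i) → x ∈ W)
    (m : ℕ) (hm : IsPrimePow m) (F : EtCoh.Ab X) (hFm : EtCoh.KilledBy m F)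
    (hFc : EtPBC.IsConstructible F) (n : ℕ)
    (hdepth : ∀ x : X, x ∈ (⨆ i, V i) → ∀ d : ℕ,
      topologicalKrullDim ↥(closure ({x} : Set X)) = (d : WithBot ℕ∞) →
      EtDepth.DepthAtGE X F x (n - d)) (r : ℕ) (hr : r + c < n) :
    Subsingleton (EtCoh.H (W : Scheme.{u}) (OpenExt.ext (W.ι ⁻¹ᵁ (⨆ i, V i)) ((EtCoh.pull W.ι).obj F)) r) := by
  refine Groth.Agent.EtpbcA.CdT1.H_subsingleton_of_Rpush (W.ι ≫ f) _ r fun p q hpq => ?_
  exact Groth.Agent.EtpbcA.CdEtLeray.H_subsingleton_of_isZero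
    (isZero_Rpush f c V hV W hUW m hm F hFm hFc n hdepth q (by omega)) p

end K176.Desc

end
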