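import Groth.Agent.EtDepth.K176.DP
import Groth.Agent.Etdl.H424.ModLift
import Groth.Agent.Sga2lef.H253.StkSupp
import Groth.Agent.Etcore.OpenClosed
import Groth.Agent.EtpbcA.ArtinSupp

/-!
# Supports of objects of `D^+(X, Λ)`; open immersions
-/

set_option autoImplicit false
universe u

open CategoryTheory CategoryTheory.Limits AlgebraicGeometry Opposite Pretriangulated

noncomputable section

-- kernel speed: the same instance path on `ℤ` as in the files on complexes
attribute [-instance] ConditionallyCompletePartialOrderSup.toPartialOrder ConditionallyCompletePartialOrderInf.toPartialOrder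

namespace K176.PtSupp

attribute [local instance] HasDerivedCategory.standard

open Groth.Agent.Etdl.H424 Groth.Agent.Etdl.H860 Groth.Agent.Sga4h.ModRestr Groth.Agent.Etrest.ModAb
  Groth.Agent.Sga4h.EtPts Groth.Agent.Etdl.H424.ModLift Groth.Agent.Sga2lef.H253.StkSupp
open Groth.Agent.Etcore.OpenClosed Groth.Agent.EtpbcA.Artin

variable (Λ : Type (u + 1)) [CommRing Λ]

/-- `D^+(X, Λ)`. -/
abbrev D (X : Scheme.{u}) := DerivedCategory.Plus (EtModW.Mod Λ X)

/-- The `i`-th cohomology sheaf. -/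
abbrev H (X : Scheme.{u}) (i : ℤ) : D Λ X ⥤ EtModW.Mod Λ X := DerivedCategory.Plus.homologyFunctor _ i

variable {Λ} {X V : Scheme.{u}}

instance (x : X) : (stk Λ x).Additive := inferInstance
instance (x : X) : PreservesFiniteLimits (stk Λ x) := inferInstance
instance (x : X) : PreservesFiniteColimits (stk Λ x) := inferInstance

/-- All cohomology sheaves of `K` have zero stalk at `x`. -/
def VanAt (K : D Λ X) (x : X) : Prop := IsZero ((stk Λ x).rightDerivedFunctorPlus.obj K)

theorem vanAt_iff (K : D Λ X) (x : X) :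
    VanAt K x ↔ ∀ i, x ∉ EtPBC.supp ((ab Λ X).obj ((H Λ X i).obj K)) := by
  rw [VanAt, DP.isZero_plus_iff]
  refine forall_congr' fun i => ?_
  rw [mem_supp_ab_iff, not_not]

theorem isZero_of_supp (M : EtModW.Mod Λ X) (h : ∀ x, x ∉ EtPBC.supp ((ab Λ X).obj M)) : IsZero M := by
  have h1 := (isZero_iff ((ab Λ X).obj M)).2 (Set.eq_empty_iff_forall_notMem.2 h)
  rw [IsZero.iff_id_eq_zero] at h1 ⊢
  apply (ab Λ X).map_injective
  rw [(ab Λ X).map_id, h1, (ab Λ X).map_zero]

theorem isZero_iff_supp (M : EtModW.Mod Λ X) : IsZero M ↔ ∀ x, x ∉ EtPBC.supp ((ab Λ X).obj M) :=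
  ⟨fun h x => supp_eq_empty_of_isZero ((ab Λ X).map_isZero h) x, isZero_of_supp M⟩

theorem isZero_of_vanAt (K : D Λ X) (h : ∀ x, VanAt K x) : IsZero K := by
  rw [DP.isZero_iff]
  exact fun i => isZero_of_supp _ fun x => (vanAt_iff K x).1 (h x) i

theorem VanAt.of_iso {K L : D Λ X} (e : K ≅ L) {x : X} (h : VanAt K x) : VanAt L x :=
  IsZero.of_iso h ((stk Λ x).rightDerivedFunctorPlus.mapIso e.symm)

theorem vanAt_of_isZero {K : D Λ X} (h : IsZero K) (x : X) : VanAt K x :=
  (stk Λ x).rightDerivedFunctorPlus.map_isZero h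

variable (v : V ⟶ X) [Etale v]

/-- Extension by zero on `D^+`. -/
abbrev E : D Λ V ⥤ D Λ X := (ext Λ v).rightDerivedFunctorPlus

/-- Restriction on `D^+`. -/
abbrev R : D Λ X ⥤ D Λ V := (res Λ v).rightDerivedFunctorPlus

/-- `E ⊣ R`. -/
abbrev adjER : E (Λ := Λ) v ⊣ R v := PlusAdj.dadj (extResAdj Λ v)

theorem supp_res (M : EtModW.Mod Λ X) (y : V) :
    y ∈ EtPBC.supp ((ab Λ V).obj ((res Λ v).obj M)) ↔ v y ∈ EtPBC.supp ((ab Λ X).obj M) := by
  have e : (ab Λ V).obj ((res Λ v).obj M) ≅ (EtCoh.pull v).obj ((ab Λ X).obj M) :=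
    (ab Λ V).mapIso ((pullResIso Λ v).symm.app M) ≪≫ (pullIso Λ v).app M
  rw [supp_congr e, supp_pull]
  rfl

theorem vanAt_R_iff (K : D Λ X) (y : V) : VanAt ((R v).obj K) y ↔ VanAt K (v y) := by
  rw [vanAt_iff, vanAt_iff]
  refine forall_congr' fun i => not_congr ?_
  rw [supp_congr ((ab Λ V).mapIso (DP.homologyPlus (res Λ v) i K)), supp_res]

theorem isZero_R_iff (K : D Λ X) : IsZero ((R v).obj K) ↔ ∀ x ∈ Set.range v, VanAt K x := by
  constructor
  · rintro h _ ⟨y, rfl⟩
    exact (vanAt_R_iff v K y).1 (vanAt_of_isZero h y)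
  · intro h
    exact isZero_of_vanAt _ fun y => (vanAt_R_iff v K y).2 (h _ ⟨y, rfl⟩)

section Open

variable [IsOpenImmersion v]

theorem not_mem_supp_ext (M : EtModW.Mod Λ V) (x : X) (hx : x ∉ Set.range v) :
    x ∉ EtPBC.supp ((ab Λ X).obj ((ext Λ v).obj M)) := by
  have e : (ab Λ X).obj ((ext Λ v).obj M) ≅ (EtShriek.extZero v).obj ((ab Λ V).obj M) :=
    (extAbIso Λ v).app M
  rw [supp_congr e]
  obtain ⟨Ω, _, _, ξ, hξ⟩ := exists_point x
  have hξ' : ξ default = x := (range_eq_iff ξ x).1 hξ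
  rw [mem_supp_iff _ x ξ hξ, not_not]
  exact Groth.Agent.Etcore.ShriekUnique.isZero_stalk_extZero' v ξ (by rw [hξ']; exact hx) _

theorem vanAt_E (K : D Λ V) (x : X) (hx : x ∉ Set.range v) : VanAt ((E v).obj K) x := by
  rw [vanAt_iff]
  intro i
  rw [supp_congr ((ab Λ X).mapIso (DP.homologyPlus (ext Λ v) i K))]
  exact not_mem_supp_ext v _ x hx

theorem isIso_unit_ext (M : EtModW.Mod Λ V) : IsIso ((extResAdj Λ v).unit.app M) := inferInstance

theorem isIso_unit (K : D Λ V) : IsIso ((adjER v).unit.app K) :=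
  DP.isIso_unit_dadj (extResAdj Λ v) (isIso_unit_ext v) K

theorem isIso_R_counit (K : D Λ X) : IsIso ((R v).map ((adjER v).counit.app K)) := by
  have h := (adjER v).right_triangle_components K
  have h1 := isIso_unit v ((R v).obj K)
  exact IsIso.of_isIso_fac_left (h := 𝟙 _) h

/-- An object supported on an open subscheme is the extension by zero of its restriction. -/
theorem isIso_counit (K : D Λ X) (h : ∀ x, x ∉ Set.range v → VanAt K x) :
    IsIso ((adjER v).counit.app K) := by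
  obtain ⟨C, g, δ, hΔ⟩ := distinguished_cocone_triangle ((adjER v).counit.app K)
  refine (Triangle.isZero₃_iff_isIso₁ _ hΔ).1 (isZero_of_vanAt C fun x => ?_)
  by_cases hx : x ∈ Set.range v
  · have h1 : IsZero ((R v).obj C) := (Triangle.isZero₃_iff_isIso₁ _ ((R v).map_distinguished _ hΔ)).2
      (isIso_R_counit v K)
    exact (isZero_R_iff v C).1 h1 x hx
  · exact DP.isZero₃ (stk Λ x).rightDerivedFunctorPlus hΔ (vanAt_E v _ x hx) (h x hx)

end Open

end K176.PtSupp

end
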