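import Groth.Agent.EtDepth.K176.DLoc
import Groth.Agent.EtDepth.K176.PtSupp
import Groth.Agent.Sga2lef.H134.DualOpen
import Groth.Agent.Sga2lef.H88.LocDualBdd

/-!
# `κ_! κ^* G` for complexes `G`: cohomology sheaves, constructibility, supports; boundedness of duals
-/

set_option autoImplicit false
universe w v₁ u₁ u

-- kernel speed: the same instance path on `ℤ` as in the files on complexes
attribute [-instance] ConditionallyCompletePartialOrderSup.toPartialOrder ConditionallyCompletePartialOrderInf.toPartialOrder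

open CategoryTheory CategoryTheory.Limits AlgebraicGeometry Opposite Pretriangulated

attribute [local instance 5000] CategoryTheory.Abelian.toPreadditive
  CategoryTheory.Preadditive.preadditiveHasZeroMorphisms

noncomputable section

namespace K176.ERDbc

open Groth.Agent

section Abs

open Groth.Agent.Sga4h.DualCx Groth.Agent.Sga4h.DualSelf Groth.Agent.Sga4h.Refl
  Groth.Agent.Sga2lef.H88.LocDualMap DerivedCategory Groth.Agent.Sga4h

variable {C : Type u₁} [Category.{v₁} C] [Abelian C] [HasDerivedCategory.{w} C] {T : C ⥤ C ⥤ C} [T.Additive]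
  [∀ X, (T.obj X).Additive]
  [∀ (K₁ K₂ : CochainComplex C ℤ), CochainComplex.HasMapBifunctor K₁ K₂ T]
  [∀ E : CochainComplex C ℤ, (T.map₂CochainComplex.flip.obj E).IsLeftAdjoint]
  [∀ (J : Type), HasColimitsOfShape (Discrete J) C]
  [∀ (J : Type), (colim : (Discrete J ⥤ C) ⥤ C).PreservesMonomorphisms]

/-- Boundedness of the dual, if the dualizing object has a bounded injective resolution. -/
theorem exists_bounds (A : DualData T) {I : C} (j : (CochainComplex.singleFunctor C 0).obj I ⟶ A.J)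
    (hj : QuasiIso j) (N : ℕ) (hN : BddInj ((CochainComplex.singleFunctor C 0).obj I) N)
    (K : CochainComplex C ℤ) {a b : ℤ} (ha : (Q.obj K).IsGE a) (hb : (Q.obj K).IsLE b) :
    ∃ a' b' : ℤ, (Q.obj (A.D K)).IsGE a' ∧ (Q.obj (A.D K)).IsLE b' := by
  obtain ⟨J', ι, hι, hJ', h1, h2, h3⟩ := hN
  let A' : DualData T := ⟨A.S, J', hJ', h3, A.flat⟩
  obtain ⟨e⟩ := BidGlobU.nonempty_iso_of_qis A A' j hj ι hι K
  rw [isGE_Q_obj_iff] at ha
  rw [isLE_Q_obj_iff] at hb
  have h4 : (A'.D K).IsGE (-b) := BidRefl.isGE_D A' 0 b (-b) (by lia)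
  have h5 : (A'.D K).IsLE (N - a) := BidRefl.isLE_D A' N a (N - a) (by lia)
  rw [← isGE_Q_obj_iff] at h4
  rw [← isLE_Q_obj_iff] at h5
  exact ⟨-b, N - a, (TStructure.t : Triangulated.TStructure (DerivedCategory C)).isGE_of_iso e.symm _,
    (TStructure.t : Triangulated.TStructure (DerivedCategory C)).isLE_of_iso e.symm _⟩

end Abs

attribute [local instance] HasDerivedCategory.standard
open scoped Groth.Agent.Sga4h.ModInst
open Groth.Agent.Sga4h.ModRestr Groth.Agent.Etrest.ModAb Groth.Agent.Sga4h.EtPts Groth.Agent.Sga4h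
  Groth.Agent.Sga4h.BidRed538Main

variable {Λ : Type (u + 1)} [CommRing Λ] {O A : Scheme.{u}} (κ : O ⟶ A)

/-- The cohomology sheaves of `κ_! κ^* G`. -/
def homologyER [Etale κ] (G : CochainComplex (EtModW.Mod Λ A) ℤ) (q : ℤ) :
    (DLoc.ER (ext Λ κ) (res Λ κ) G).homology q ≅ (ext Λ κ).obj ((res Λ κ).obj (G.homology q)) :=
  ((((res Λ κ).mapHomologicalComplex (ComplexShape.up ℤ)).obj G).sc q).mapHomologyIso (ext Λ κ) ≪≫
    (ext Λ κ).mapIso ((G.sc q).mapHomologyIso (res Λ κ))

theorem mem_supp_of [IsOpenImmersion κ] (M : EtModW.Mod Λ A) (x : A)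
    (h : x ∈ EtPBC.supp ((ab Λ A).obj ((ext Λ κ).obj ((res Λ κ).obj M)))) :
    x ∈ EtPBC.supp ((ab Λ A).obj M) := by
  by_cases hx : x ∈ Set.range κ
  · obtain ⟨y, rfl⟩ := hx
    rw [← PtSupp.supp_res] at h ⊢
    have e : (res Λ κ).obj ((ext Λ κ).obj ((res Λ κ).obj M)) ≅ (res Λ κ).obj M :=
      (asIso ((extResAdj Λ κ).unit.app ((res Λ κ).obj M))).symm
    rwa [EtpbcA.Artin.supp_congr ((ab Λ O).mapIso e)] at h
  · exact absurd h (PtSupp.not_mem_supp_ext κ _ x hx)

theorem isZero_stk [IsOpenImmersion κ] (G : CochainComplex (EtModW.Mod Λ A) ℤ) (q : ℤ) (x : A)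
    (h : ¬ IsZero ((stk Λ x).obj ((DerivedCategory.homologyFunctor _ q).obj
      (DerivedCategory.Q.obj (DLoc.ER (ext Λ κ) (res Λ κ) G))))) :
    ¬ IsZero ((stk Λ x).obj (G.homology q)) := by
  rw [← Sga2lef.H253.StkSupp.mem_supp_ab_iff] at h ⊢
  refine mem_supp_of κ _ x ?_
  have e : (DerivedCategory.homologyFunctor _ q).obj
      (DerivedCategory.Q.obj (DLoc.ER (ext Λ κ) (res Λ κ) G)) ≅
      (ext Λ κ).obj ((res Λ κ).obj (G.homology q)) :=
    (DerivedCategory.homologyFunctorFactors _ q).app (DLoc.ER (ext Λ κ) (res Λ κ) G) ≪≫ homologyER κ G q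
  rwa [EtpbcA.Artin.supp_congr ((ab Λ A).mapIso e)] at h

theorem isDbc_ER [Finite Λ] [IsOpenImmersion κ] [IsNoetherian A] [IsNoetherian O]
    (G : CochainComplex (EtModW.Mod Λ A) ℤ)
    (hG : EtModD.IsDbc (DerivedCategory.Q.obj G)) :
    EtModD.IsDbc (DerivedCategory.Q.obj (DLoc.ER (ext Λ κ) (res Λ κ) G)) := by
  obtain ⟨⟨a, b, ha, hb⟩, hc⟩ := hG
  have key : ∀ q, (DerivedCategory.homologyFunctor _ q).obj
      (DerivedCategory.Q.obj (DLoc.ER (ext Λ κ) (res Λ κ) G)) ≅
      (ext Λ κ).obj ((res Λ κ).obj ((DerivedCategory.homologyFunctor _ q).obj (DerivedCategory.Q.obj G))) :=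
    fun q => (DerivedCategory.homologyFunctorFactors _ q).app (DLoc.ER (ext Λ κ) (res Λ κ) G) ≪≫
      homologyER κ G q ≪≫ (ext Λ κ).mapIso ((res Λ κ).mapIso
        ((DerivedCategory.homologyFunctorFactors _ q).app G).symm)
  refine ⟨⟨a, b, ?_, ?_⟩, fun q => ?_⟩
  · rw [DerivedCategory.isGE_iff]
    intro i hi
    exact ((ext Λ κ).map_isZero ((res Λ κ).map_isZero (DerivedCategory.isZero_of_isGE _ a i hi))).of_iso (key i)
  · rw [DerivedCategory.isLE_iff]
    intro i hi
    exact ((ext Λ κ).map_isZero ((res Λ κ).map_isZero (DerivedCategory.isZero_of_isLE _ b i hi))).of_iso (key i)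
  · have h1 : EtModW.IsConstructible Λ ((DerivedCategory.homologyFunctor _ q).obj (DerivedCategory.Q.obj G)) := hc q
    have h4 := Etcore.LCrit.isConstructible_pull κ _ h1
    have h5 := Etrest.ModCons.isConstructible_of_iso ((ExtFree.pullIsoRes κ).app _) h4
    have h6 := BidRed538Ext.isConstructible_ext κ _ h5
    exact Etrest.ModCons.isConstructible_of_iso (key q).symm h6

end K176.ERDbc

end
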