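import Groth.Prelude.Def_RDer

/-!
# The second edge map for a complex of injectives that is exact below degree `n`

`isIso_homologyComparison`: for a left exact additive functor `Ψ` and an `ℕ`-indexed cochain complex `K` of injectives with
`H^p(K) = 0` for `p < n`, the comparison `H^n (Ψ K) ⟶ Ψ (H^n K)` is an isomorphism.
`isIso_edgeOut`: the same for `RDer.edgeOut`.
-/

set_option autoImplicit false
universe v₁ v₂ v₃ u₁ u₂ u₃

open CategoryTheory CategoryTheory.Limits HomologicalComplex

namespace K176.EdgeAbs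

variable {B : Type u₂} [Category.{v₂} B] [Abelian B] {C : Type u₃} [Category.{v₃} C] [Abelian C]

/-- The differential `K^{p-1} ⟶ Z^p` is von Neumann regular. -/
def Reg (K : CochainComplex B ℕ) (p : ℕ) : Prop :=
  ∃ g : K.cycles p ⟶ K.X ((ComplexShape.up ℕ).prev p),
    K.toCycles ((ComplexShape.up ℕ).prev p) p ≫ g ≫ K.toCycles ((ComplexShape.up ℕ).prev p) p =
      K.toCycles ((ComplexShape.up ℕ).prev p) p

theorem exact_iCycles_toCycles (K : CochainComplex B ℕ) (p : ℕ) :
    (ShortComplex.mk (K.iCycles p) (K.toCycles p (p + 1)) (by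
      rw [← cancel_mono (K.iCycles (p + 1)), Category.assoc, toCycles_i, iCycles_d, zero_comp])).Exact := by
  refine ShortComplex.exact_of_f_is_kernel _ ?_
  refine KernelFork.IsLimit.ofι' _ _ fun {A} k hk => ?_
  refine ⟨K.liftCycles k (p + 1) (by simp) ?_, K.liftCycles_i _ _ _ _⟩
  have := congrArg (· ≫ K.iCycles (p + 1)) hk
  simpa using this

theorem reg_zero (K : CochainComplex B ℕ) : Reg K 0 := by
  refine ⟨0, ?_⟩
  rw [zero_comp, comp_zero, ← cancel_mono (K.iCycles 0), zero_comp, toCycles_i]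
  exact (K.shape _ _ (by simp)).symm

theorem reg_succ (K : CochainComplex B ℕ) (p : ℕ) [Injective (K.X ((ComplexShape.up ℕ).prev p))]
    [Injective (K.X p)] (h : Reg K p) (hH : IsZero (K.homology p)) : Reg K (p + 1) := by
  obtain ⟨g, hg⟩ := h
  have hepi : Epi (K.toCycles ((ComplexShape.up ℕ).prev p) p) := by
    have hc := K.homologyIsCokernel ((ComplexShape.up ℕ).prev p) p rfl
    have h0 : K.homologyπ p = 0 := hH.eq_of_tgt _ _
    refine Preadditive.epi_of_cancel_zero _ fun {P} t ht => ?_
    have := CokernelCofork.IsColimit.desc' hc t ht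
    obtain ⟨l, hl⟩ := this
    rw [← hl]
    change K.homologyπ p ≫ l = 0
    rw [h0, zero_comp]
  have hsp : g ≫ K.toCycles _ p = 𝟙 _ := by
    rw [← cancel_epi (K.toCycles ((ComplexShape.up ℕ).prev p) p), hg, Category.comp_id]
  have hret : Retract (K.cycles p) (K.X ((ComplexShape.up ℕ).prev p)) := ⟨g, K.toCycles _ p, hsp⟩
  have hinj : Injective (K.cycles p) := hret.injective
  let s : K.X p ⟶ K.cycles p := Injective.factorThru (𝟙 _) (K.iCycles p)
  have hs : K.iCycles p ≫ s = 𝟙 _ := Injective.comp_factorThru _ _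
  have hex := exact_iCycles_toCycles K p
  have hprev : (ComplexShape.up ℕ).prev (p + 1) = p := (ComplexShape.up ℕ).prev_eq' rfl
  have w : K.iCycles p ≫ (𝟙 (K.X p) - s ≫ K.iCycles p) = 0 := by
    rw [Preadditive.comp_sub, Category.comp_id, ← Category.assoc, hs, Category.id_comp, sub_self]
  let r : K.cycles (p + 1) ⟶ K.X p := hex.descToInjective (𝟙 (K.X p) - s ≫ K.iCycles p) w
  have hr : K.toCycles p (p + 1) ≫ r = 𝟙 (K.X p) - s ≫ K.iCycles p := hex.comp_descToInjective _ _
  have key : K.toCycles p (p + 1) ≫ r ≫ K.toCycles p (p + 1) = K.toCycles p (p + 1) := by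
    rw [← Category.assoc, hr, Preadditive.sub_comp, Category.id_comp, Category.assoc]
    have : K.iCycles p ≫ K.toCycles p (p + 1) = 0 := by
      rw [← cancel_mono (K.iCycles (p + 1)), Category.assoc, toCycles_i, iCycles_d, zero_comp]
    rw [this, comp_zero, sub_zero]
  unfold Reg
  rw [hprev]
  exact ⟨r, key⟩

theorem reg_of_exact (K : CochainComplex B ℕ) (hK : ∀ p, Injective (K.X p)) (n : ℕ)
    (hH : ∀ p : ℕ, p < n → IsZero (K.homology p)) : Reg K n := by
  induction n with
  | zero => exact reg_zero K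
  | succ n ih =>
    have := hK n
    have := hK ((ComplexShape.up ℕ).prev n)
    exact reg_succ K n (ih fun p hp => hH p (by omega)) (hH n (by omega))

set_option backward.isDefEq.respectTransparency false in
theorem isIso_cyclesComparison (Ψ : B ⥤ C) [Ψ.Additive] [PreservesFiniteLimits Ψ]
    {ι' : Type*} {c : ComplexShape ι'} (K : HomologicalComplex B c) (i : ι') :
    IsIso (RDer.cyclesComparison Ψ K i) := by
  let K' := (Ψ.mapHomologicalComplex c).obj K
  let inv : Ψ.obj (K.cycles i) ⟶ K'.cycles i :=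
    K'.liftCycles (Ψ.map (K.iCycles i)) _ rfl (by
      change Ψ.map (K.iCycles i) ≫ Ψ.map (K.d _ _) = 0
      rw [← Ψ.map_comp, iCycles_d, Ψ.map_zero])
  have hinv : inv ≫ K'.iCycles i = Ψ.map (K.iCycles i) := K'.liftCycles_i _ _ _ _
  refine ⟨inv, ?_, ?_⟩
  · rw [← cancel_mono (K'.iCycles i), Category.assoc, hinv, RDer.cyclesComparison_i, Category.id_comp]
  · rw [← cancel_mono (Ψ.map (K.iCycles i)), Category.assoc, RDer.cyclesComparison_i, hinv,
      Category.id_comp]

set_option backward.isDefEq.respectTransparency false in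
theorem isIso_homologyComparison_of_reg (Ψ : B ⥤ C) [Ψ.Additive] [PreservesFiniteLimits Ψ]
    (K : CochainComplex B ℕ) (n : ℕ) (h : Reg K n) : IsIso (RDer.homologyComparison Ψ K n) := by
  obtain ⟨g, hg⟩ := h
  have hcc := isIso_cyclesComparison Ψ K n
  let e : K.cycles n ⟶ K.cycles n := 𝟙 _ - g ≫ K.toCycles _ n
  have he : K.toCycles ((ComplexShape.up ℕ).prev n) n ≫ e = 0 := by
    simp only [e]
    rw [Preadditive.comp_sub, Category.comp_id, hg, sub_self]
  obtain ⟨σ, hσ'⟩ : ∃ σ : K.homology n ⟶ K.cycles n, K.homologyπ n ≫ σ = e := by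
    obtain ⟨σ, hσ⟩ := CokernelCofork.IsColimit.desc' (K.homologyIsCokernel _ n rfl) e he
    exact ⟨σ, hσ⟩
  have h1 : σ ≫ K.homologyπ n = 𝟙 _ := by
    rw [← cancel_epi (K.homologyπ n), ← Category.assoc, hσ', Category.comp_id]
    simp only [e]
    rw [Preadditive.sub_comp, Category.id_comp, Category.assoc, toCycles_comp_homologyπ, comp_zero,
      sub_zero]
  let K' := (Ψ.mapHomologicalComplex _).obj K
  let t : Ψ.obj (K.homology n) ⟶ K'.homology n :=
    Ψ.map σ ≫ inv (RDer.cyclesComparison Ψ K n) ≫ K'.homologyπ n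
  refine ⟨t, ?_, ?_⟩
  · rw [← cancel_epi (K'.homologyπ n), ← Category.assoc]
    have e1 : K'.homologyπ n ≫ RDer.homologyComparison Ψ K n =
      RDer.cyclesComparison Ψ K n ≫ Ψ.map (K.homologyπ n) := RDer.homologyπ_homologyComparison Ψ K n
    rw [e1, Category.comp_id, Category.assoc]
    simp only [t]
    rw [← Category.assoc (Ψ.map (K.homologyπ n)), ← Ψ.map_comp, hσ']
    simp only [e]
    rw [Ψ.map_sub, Ψ.map_id, Preadditive.sub_comp, Category.id_comp, Preadditive.comp_sub,
      IsIso.hom_inv_id_assoc, Ψ.map_comp, Category.assoc]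
    have e2 : Ψ.map (K.toCycles ((ComplexShape.up ℕ).prev n) n) ≫ inv (RDer.cyclesComparison Ψ K n) =
        K'.toCycles ((ComplexShape.up ℕ).prev n) n := by
      rw [IsIso.comp_inv_eq]
      exact (RDer.toCycles_cyclesComparison Ψ K n).symm
    rw [← Category.assoc (Ψ.map (K.toCycles _ n)), e2, toCycles_comp_homologyπ, comp_zero, comp_zero,
      sub_zero]
  · simp only [t]
    rw [Category.assoc, Category.assoc]
    have e1 : K'.homologyπ n ≫ RDer.homologyComparison Ψ K n =
      RDer.cyclesComparison Ψ K n ≫ Ψ.map (K.homologyπ n) := RDer.homologyπ_homologyComparison Ψ K n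
    rw [e1, IsIso.inv_hom_id_assoc, ← Ψ.map_comp, h1, Ψ.map_id]

theorem isIso_homologyComparison (Ψ : B ⥤ C) [Ψ.Additive] [PreservesFiniteLimits Ψ]
    (K : CochainComplex B ℕ) (hK : ∀ p, Injective (K.X p)) (n : ℕ)
    (hH : ∀ p : ℕ, p < n → IsZero (K.homology p)) : IsIso (RDer.homologyComparison Ψ K n) :=
  isIso_homologyComparison_of_reg Ψ K n (reg_of_exact K hK n hH)

variable {A : Type u₁} [Category.{v₁} A] [Abelian A] [HasInjectiveResolutions A]

set_option backward.isDefEq.respectTransparency false in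
/-- The second edge map is an isomorphism in the lowest possibly nonzero degree, when `Φ` preserves injectives. -/
theorem isIso_edgeOut (Φ : A ⥤ B) [Φ.Additive] (hΦ : ∀ I : A, Injective I → Injective (Φ.obj I))
    (Ψ : B ⥤ C) [Ψ.Additive] [PreservesFiniteLimits Ψ] (n : ℕ) (F : A)
    (h : ∀ p : ℕ, p < n → IsZero ((Φ.rightDerived p).obj F)) : IsIso (RDer.edgeOut Φ Ψ n F) := by
  have := isIso_homologyComparison Ψ ((Φ.mapHomologicalComplex _).obj (injectiveResolution F).cocomplex)
    (fun p => hΦ _ (inferInstanceAs (Injective ((injectiveResolution F).cocomplex.X p)))) n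
    (fun p hp => (h p hp).of_iso ((injectiveResolution F).isoRightDerivedObj Φ p).symm)
  unfold RDer.edgeOut
  infer_instance

end K176.EdgeAbs
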