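import Groth.Agent.Flat2D.PbStalk
import Groth.Agent.FibDim.K582.RingDim
import Mathlib.AlgebraicGeometry.Morphisms.Flat
import Mathlib.AlgebraicGeometry.Fiber
import Mathlib.RingTheory.Ideal.Quotient.Operations

/-!
# Dimensions of local rings of fibres in a fibre product

For a cartesian square `P = X ×_S Y` and `z : P` over `x`, `y`:
`dim O_{P_x, z} = dim O_{Y_s, y} + dim O_{P,z} / (m_x + m_y)`.
-/

set_option autoImplicit false
universe u

open CategoryTheory Limits AlgebraicGeometry

namespace K176.FibDimPb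

open Groth.Agent.Flat2D.PbStalk

theorem dim_quot {R S : Type u} [CommRing R] [CommRing S] (σ : R →+* S)
    (hσ : Function.Surjective σ) (I : Ideal R) :
    ringKrullDim (S ⧸ I.map σ) = ringKrullDim (R ⧸ (RingHom.ker σ ⊔ I)) := by
  let τ : R →+* S ⧸ I.map σ := (Ideal.Quotient.mk (I.map σ)).comp σ
  have hτ : Function.Surjective τ := Ideal.Quotient.mk_surjective.comp hσ
  have hk : RingHom.ker τ = RingHom.ker σ ⊔ I := by
    have h1 : RingHom.ker τ = (I.map σ).comap σ := by
      ext a
      rw [RingHom.mem_ker, Ideal.mem_comap]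
      exact Ideal.Quotient.eq_zero_iff_mem
    rw [h1, Ideal.comap_map_of_surjective' _ hσ, sup_comm]
  rw [← hk]
  exact (ringKrullDim_eq_of_ringEquiv (RingHom.quotientKerEquivOfSurjective hτ)).symm

section StalkTo

variable {F X Y : Scheme.{u}}

theorem stalkTo_comp (a : F ⟶ X) (b : X ⟶ Y) (z : F) {x : X} (hx : a z = x) {y : Y} (hy : b x = y)
    (h : (a ≫ b) z = y) : stalkTo (a ≫ b) z h = stalkTo b x hy ≫ stalkTo a z hx := by
  subst hx
  subst hy
  exact (stalkTo_rfl (a ≫ b) z).trans ((Scheme.Hom.stalkMap_comp a b z).trans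
    (by rw [stalkTo_rfl, stalkTo_rfl]))

theorem stalkTo_congr {a a' : F ⟶ X} (e : a = a') (z : F) {x : X} (h : a z = x) (h' : a' z = x) :
    stalkTo a z h = stalkTo a' z h' := by
  subst e; rfl

end StalkTo

variable {X Y S P : Scheme.{u}} {f : X ⟶ S} {g : Y ⟶ S} {p : P ⟶ X} {q : P ⟶ Y}

/-- The map from the fibre of `p` over `x` to the fibre of `g` over `g y`. -/
theorem exists_map (H : IsPullback p q f g) (z : P) :
    ∃ (φ : p.fiber (p z) ⟶ g.fiber (g (q z))), Flat φ ∧
      φ ≫ g.fiberι (g (q z)) = p.fiberι (p z) ≫ q := by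
  have e0 : f (p z) = g (q z) := by
    rw [← Scheme.Hom.comp_apply, ← Scheme.Hom.comp_apply, H.w]
  let i := p.fiberι (p z)
  let c := p.fiberToSpecResidueField (p z)
  let a : Spec (X.residueField (p z)) ⟶ Spec (S.residueField (f (p z))) :=
    Spec.map (f.residueFieldMap (p z))
  let b : Spec (S.residueField (f (p z))) ⟶ Spec (S.residueField (g (q z))) :=
    Spec.map (S.residueFieldCongr e0.symm).hom
  have hb : b ≫ S.fromSpecResidueField (g (q z)) = S.fromSpecResidueField (f (p z)) :=
    Scheme.residueFieldCongr_fromSpecResidueField e0.symm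
  have ha : a ≫ S.fromSpecResidueField (f (p z)) = X.fromSpecResidueField (p z) ≫ f :=
    Scheme.Hom.SpecMap_residueFieldMap_fromSpecResidueField f (p z)
  have hab : (a ≫ b) ≫ S.fromSpecResidueField (g (q z)) = X.fromSpecResidueField (p z) ≫ f := by
    rw [Category.assoc, hb, ha]
  have h1 : IsPullback i c p (X.fromSpecResidueField (p z)) :=
    IsPullback.of_hasPullback p (X.fromSpecResidueField (p z))
  have h2 : IsPullback (i ≫ q) c g (X.fromSpecResidueField (p z) ≫ f) :=
    (h1.flip.paste_vert H.flip.flip).flip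
  have hG : IsPullback (g.fiberι (g (q z))) (g.fiberToSpecResidueField (g (q z))) g
      (S.fromSpecResidueField (g (q z))) :=
    IsPullback.of_hasPullback g (S.fromSpecResidueField (g (q z)))
  let φ : p.fiber (p z) ⟶ g.fiber (g (q z)) := hG.lift (i ≫ q) (c ≫ a ≫ b) (by
    rw [Category.assoc c, hab]
    exact h2.w)
  have hφ1 : φ ≫ g.fiberι (g (q z)) = i ≫ q := hG.lift_fst _ _ _
  have hφ2 : φ ≫ g.fiberToSpecResidueField (g (q z)) = c ≫ a ≫ b := hG.lift_snd _ _ _
  have h3 : IsPullback φ c (g.fiberToSpecResidueField (g (q z))) (a ≫ b) := by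
    refine IsPullback.of_right (h₁₂ := g.fiberι (g (q z))) (v₁₃ := g)
      (h₂₂ := S.fromSpecResidueField (g (q z))) ?_ hφ2 hG
    rw [hφ1, hab]
    exact h2
  have hfl : Flat (a ≫ b) := by
    have h4 : a ≫ b = Spec.map ((S.residueFieldCongr e0.symm).hom ≫ f.residueFieldMap (p z)) := by
      rw [Spec.map_comp]
    rw [h4, Flat.SpecMap_iff]
    algebraize [((S.residueFieldCongr e0.symm).hom ≫ f.residueFieldMap (p z)).hom]
    have : Module.Flat (S.residueField (g (q z))) (X.residueField (p z)) := inferInstance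
    exact this
  exact ⟨φ, MorphismProperty.of_isPullback h3.flip hfl, hφ1⟩

theorem dim_add (H : IsPullback p q f g) (z : P) [hN : IsNoetherianRing (P.presheaf.stalk z)]
    [hNY : IsNoetherianRing (Y.presheaf.stalk (q z))] :
    ringKrullDim ((p.fiber (p z)).presheaf.stalk (p.asFiber z)) =
      ringKrullDim ((g.fiber (g (q z))).presheaf.stalk (g.asFiber (q z))) +
        ringKrullDim (P.presheaf.stalk z ⧸ (fiberIdeal p z ⊔ fiberIdeal q z)) := by
  obtain ⟨φ, hφ, hφ1⟩ := exists_map H z
  let t := p.asFiber z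
  have ht : p.fiberι (p z) t = z := p.fiberι_asFiber z
  have hφt : g.fiberι (g (q z)) (φ t) = q z := by
    rw [← Scheme.Hom.comp_apply, hφ1, Scheme.Hom.comp_apply, ht]
  have hG : IsPullback (g.fiberι (g (q z))) (g.fiberToSpecResidueField (g (q z))) g
      (S.fromSpecResidueField (g (q z))) :=
    IsPullback.of_hasPullback g (S.fromSpecResidueField (g (q z)))
  -- Noetherianity
  have hN1 : IsNoetherianRing ((p.fiber (p z)).presheaf.stalk t) :=
    isNoetherianRing_of_ringEquiv _ (fiberStalkEquiv p z)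
  have hN2 : IsNoetherianRing ((g.fiber (g (q z))).presheaf.stalk (φ t)) :=
    isNoetherianRing_of_ringEquiv _ (pbStalkEquiv hG (φ t) hφt)
  -- the dimension formula
  algebraize [(φ.stalkMap t).hom]
  have hloc : IsLocalHom (algebraMap ((g.fiber (g (q z))).presheaf.stalk (φ t))
      ((p.fiber (p z)).presheaf.stalk t)) := inferInstanceAs (IsLocalHom (φ.stalkMap t).hom)
  have hfl : Module.Flat ((g.fiber (g (q z))).presheaf.stalk (φ t))
      ((p.fiber (p z)).presheaf.stalk t) := Flat.stalkMap φ t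
  have h1 := (K582.RingDim.ringKrullDim_add ((g.fiber (g (q z))).presheaf.stalk (φ t))
      ((p.fiber (p z)).presheaf.stalk t)).2 hfl
  have h2 : ringKrullDim ((g.fiber (g (q z))).presheaf.stalk (φ t)) =
      ringKrullDim ((g.fiber (g (q z))).presheaf.stalk (g.asFiber (q z))) :=
    (ringKrullDim_eq_of_ringEquiv (pbStalkEquiv hG (φ t) hφt)).symm.trans
      (ringKrullDim_eq_of_ringEquiv (fiberStalkEquiv g (q z)))
  -- the last term
  let σ : P.presheaf.stalk z ⟶ (p.fiber (p z)).presheaf.stalk t := stalkTo (p.fiberι (p z)) t ht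
  have hp0 : IsPullback (p.fiberι (p z)) (p.fiberToSpecResidueField (p z)) p
      (X.fromSpecResidueField (p z)) :=
    IsPullback.of_hasPullback p (X.fromSpecResidueField (p z))
  have hσ : Function.Surjective σ.hom := by
    have : IsPreimmersion (p.fiberι (p z)) := MorphismProperty.of_isPullback hp0.flip inferInstance
    exact stalkTo_surjective _ t ht
  have hσk : RingHom.ker σ.hom = fiberIdeal p z := ker_stalkTo hp0 t ht
  let ρ : Y.presheaf.stalk (q z) ⟶ (g.fiber (g (q z))).presheaf.stalk (φ t) :=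
    stalkTo (g.fiberι (g (q z))) (φ t) hφt
  have hρ : Function.Surjective ρ.hom := by
    have : IsPreimmersion (g.fiberι (g (q z))) := MorphismProperty.of_isPullback hG.flip inferInstance
    exact stalkTo_surjective _ (φ t) hφt
  have hρl : IsLocalHom ρ.hom := inferInstanceAs (IsLocalHom (stalkTo (g.fiberι (g (q z))) (φ t) hφt).hom)
  have hcomm : ρ ≫ φ.stalkMap t = q.stalkMap z ≫ σ := by
    have e1 : stalkTo (φ ≫ g.fiberι (g (q z))) t (by rw [Scheme.Hom.comp_apply, hφt]) =
        ρ ≫ stalkTo φ t rfl := stalkTo_comp φ (g.fiberι (g (q z))) t rfl hφt _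
    have e2 : stalkTo (p.fiberι (p z) ≫ q) t (by rw [Scheme.Hom.comp_apply, ht]) =
        stalkTo q z rfl ≫ σ := stalkTo_comp (p.fiberι (p z)) q t ht rfl _
    rw [stalkTo_rfl] at e1 e2
    rw [← e1, ← e2]
    exact stalkTo_congr hφ1 t _ _
  have h3 : (IsLocalRing.maximalIdeal ((g.fiber (g (q z))).presheaf.stalk (φ t))).map
      (algebraMap ((g.fiber (g (q z))).presheaf.stalk (φ t)) ((p.fiber (p z)).presheaf.stalk t)) =
      (fiberIdeal q z).map σ.hom := by
    have h4 : IsLocalRing.maximalIdeal ((g.fiber (g (q z))).presheaf.stalk (φ t)) =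
        (IsLocalRing.maximalIdeal (Y.presheaf.stalk (q z))).map ρ.hom :=
      (IsLocalRing.map_maximalIdeal_of_surjective ρ.hom hρ).symm
    rw [h4]
    change ((IsLocalRing.maximalIdeal (Y.presheaf.stalk (q z))).map ρ.hom).map (φ.stalkMap t).hom =
      ((IsLocalRing.maximalIdeal (Y.presheaf.stalk (q z))).map (q.stalkMap z).hom).map σ.hom
    rw [Ideal.map_map, Ideal.map_map, ← CommRingCat.hom_comp, ← CommRingCat.hom_comp, hcomm]
  rw [h3, dim_quot σ.hom hσ, hσk, h2] at h1
  exact h1

end K176.FibDimPb
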