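import Groth.Agent.Etcore.FGLim
import Groth.Agent.Etcore.PullbackLim
import Groth.Agent.Etcore.LimBC1L
import Groth.Agent.EtpbcB.PBCVan
import Groth.Agent.Sga1.UlaSL
import Groth.Agent.Etbc.H188.ZDBase
import Groth.Agent.Sga2lef.H526.FieldWE

/-!
# Cohomology classes over algebraic extensions of fields, and higher direct images

* `exists_finite_level`: a class over an algebraic extension comes from a finite subextension;
* `res_eq_zero`: if `R^n u_* (F|_L) = 0` for `u : Spec L ⟶ Spec k` then classes of degree `n` on `Spec L` die over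
  every extension of `L` containing a separable closure of `k`.
-/

set_option autoImplicit false
universe u
open CategoryTheory CategoryTheory.Limits AlgebraicGeometry Opposite IsLocalRing

namespace K176.FieldClass

open Groth.Agent.Etcore.HQ Groth.Agent.Etcore.HpullCalc Groth.Agent.Etcore.LimBC1 Groth.Agent.Etcore.EtInst
open Groth.Agent.Etrest.StrictLoc Groth.Agent.Sga1.UlaSL Groth.Agent.Etcore Groth.Agent.EtpbcB Groth.Agent.Etbc.H188.ZDBase

/-- `Spec` of a homomorphism of rings. -/
noncomputable abbrev sp (K L : Type u) [CommRing K] [CommRing L] [Algebra K L] :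
    Spec (CommRingCat.of L) ⟶ Spec (CommRingCat.of K) :=
  Spec.map (CommRingCat.ofHom (algebraMap K L))

theorem sp_comp (K L M : Type u) [CommRing K] [CommRing L] [CommRing M] [Algebra K L] [Algebra L M]
    [Algebra K M] [IsScalarTower K L M] : sp L M ≫ sp K L = sp K M := by
  rw [← Spec.map_comp, ← CommRingCat.ofHom_comp, ← IsScalarTower.algebraMap_eq]

/-- A class over an algebraic extension comes from a finite subextension. -/
theorem exists_finite_level (K Ω : Type u) [Field K] [Field Ω] [Algebra K Ω] [Algebra.IsAlgebraic K Ω]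
    (F : EtCoh.Ab (Spec (CommRingCat.of K))) (n : ℕ) (ξ : HQ F (sp K Ω) n) :
    ∃ (L : IntermediateField K Ω) (_ : FiniteDimensional K L) (ξL : HQ F (sp K L) n),
      res F (sp L Ω) (sp_comp K L Ω) n ξL = ξ := by
  let T := PullbackLim.specSys (FGLim.fgSys K Ω)
  let c := PullbackLim.specCone (FGLim.fgSys K Ω) (FGLim.fgCocone K Ω)
  have hc : IsLimit c := PullbackLim.isLimitSpecCone _ _ (FGLim.isColimitFG K Ω)
  have i1 : ∀ {a b : (FGLim.FGSub K Ω)ᵒᵖ} (φ : a ⟶ b), IsAffineHom (T.map φ) := fun φ =>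
    PullbackLim.isAffineHom_specSys (FGLim.fgSys K Ω) φ
  have i2 : ∀ a, CompactSpace (T.obj a) := fun a =>
    inferInstanceAs (CompactSpace (Spec ((FGLim.fgSys K Ω).obj a.unop)))
  have i3 : ∀ a, QuasiSeparatedSpace (T.obj a) := fun a =>
    inferInstanceAs (QuasiSeparatedSpace (Spec ((FGLim.fgSys K Ω).obj a.unop)))
  let t : ∀ j : (FGLim.FGSub K Ω)ᵒᵖ, T.obj j ⟶ Spec (CommRingCat.of K) := fun j => sp K j.unop.1
  have ht : ∀ {i j : (FGLim.FGSub K Ω)ᵒᵖ} (f : i ⟶ j), T.map f ≫ t j = t i := by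
    intro i j f
    exact (Spec.map_comp _ _).symm
  have hq : ∀ j, c.π.app j ≫ t j = sp K Ω := fun j => (Spec.map_comp _ _).symm
  obtain ⟨j, ξj, hj⟩ := (Groth.Agent.Etcore.LimBC1.limSurj n).out T c hc t ht (sp K Ω) hq F ξ
  obtain ⟨s, hs⟩ := j.unop.2
  let L : IntermediateField K Ω := IntermediateField.adjoin K (s : Set Ω)
  have hL : FiniteDimensional K L :=
    IntermediateField.finiteDimensional_adjoin fun x _ => Algebra.IsIntegral.isIntegral x
  have hle : j.unop.1 ≤ L.toSubalgebra := by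
    rw [← hs]
    exact Algebra.adjoin_le (IntermediateField.subset_adjoin K _)
  let m : Spec (CommRingCat.of L) ⟶ T.obj j :=
    Spec.map (CommRingCat.ofHom (Subalgebra.inclusion hle).toRingHom)
  have hm : m ≫ t j = sp K L := (Spec.map_comp _ _).symm
  refine ⟨L, hL, res F m hm n ξj, ?_⟩
  rw [res_res F m hm (sp L Ω) (sp_comp K L Ω) (c.π.app j) (Spec.map_comp _ _).symm (hq j) n ξj]
  exact hj

/-- The spectrum of a separable closure is a strict localization. -/
theorem isStrictLoc_sepClosure (k k' : Type u) [Field k] [Field k'] [Algebra k k'] [IsSepClosed k']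
    [Algebra.IsSeparable k k'] : IsStrictLoc (sp k k') := by
  have h1 : IsSepClosed (ResidueField k') := isSepClosed_of_bijective (residue k')
    (bijective_residue (Field.toIsField _))
  have h2 : Algebra.WeaklyEtale k k' := Groth.Agent.Sga2lef.H526.FieldWE.weaklyEtale_of_isSeparable k k'
  have h3 : WeaklyEtale (sp k k') := Groth.Agent.Sga2lef.H526.FieldWE.weaklyEtale_specMap
  have h4 := (isStrictLoc_id k').comp (sp k k')
  rwa [Category.id_comp] at h4

theorem subsingleton_of_isZero {V D P : Scheme.{u}} {v : V ⟶ D} [QuasiCompact v] [QuasiSeparated v]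
    {A : Type u} [CommRing A] [IsLocalRing A] {σ : Spec (CommRingCat.of A) ⟶ D} (hσ : IsStrictLoc σ)
    {a : P ⟶ V} {r : P ⟶ Spec (CommRingCat.of A)} (H : IsPullback a r v σ) (F : EtCoh.Ab V) (q : ℕ)
    (h : IsZero ((EtCoh.Rpush v q).obj F)) : Subsingleton (HH P ((EtCoh.pull a).obj F) q) := by
  obtain ⟨_, _, _, e⟩ := Groth.Agent.Sga1.UlaSL.exists_specOf hσ _ rfl
  have := hσ.sepClosed
  have h2 := PBCVan.van_of_isZero_Rpush v F q h (σ (closedPoint A)) A
  rw [e] at h2
  exact (PBCVan.van_iff H F q).1 h2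

/-- If `R^n u_* (F|_L) = 0`, `u : Spec L ⟶ Spec k`, then the classes of degree `n` on `Spec L` die over every
extension of `L` containing a separable closure of `k`. -/
theorem res_eq_zero {X : Scheme.{u}} (F : EtCoh.Ab X) (k L k' Ω : Type u) [Field k] [Field L] [Field k']
    [Field Ω] [Algebra k L] [Algebra k k'] [Algebra L Ω] [Algebra k' Ω] [IsSepClosed k']
    [Algebra.IsSeparable k k'] (hc : sp L Ω ≫ sp k L = sp k' Ω ≫ sp k k')
    (q : Spec (CommRingCat.of L) ⟶ X) (n : ℕ)
    (h : IsZero ((EtCoh.Rpush (sp k L) n).obj ((EtCoh.pull q).obj F)))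
    {q' : Spec (CommRingCat.of Ω) ⟶ X} (hq' : sp L Ω ≫ q = q') (ξ : HQ F q n) :
    res F (sp L Ω) hq' n ξ = 0 := by
  have h1 := isStrictLoc_sepClosure k k'
  have hP := IsPullback.of_hasPullback (sp k L) (sp k k')
  have h2 : Subsingleton (HQ ((EtCoh.pull q).obj F) (pullback.fst (sp k L) (sp k k')) n) :=
    subsingleton_of_isZero h1 hP _ n h
  have h3 : res F (pullback.fst (sp k L) (sp k k')) rfl n ξ = 0 := by
    obtain ⟨y, hy⟩ := (cmp_bijective F q (pullback.fst (sp k L) (sp k k')) rfl n).2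
      (res F (pullback.fst (sp k L) (sp k k')) rfl n ξ)
    rw [← hy, Subsingleton.elim y 0, map_zero]
  let θ : Spec (CommRingCat.of Ω) ⟶ pullback (sp k L) (sp k k') := hP.lift (sp L Ω) (sp k' Ω) hc
  have hθ : θ ≫ pullback.fst (sp k L) (sp k k') = sp L Ω := hP.lift_fst _ _ _
  have h4 := res_res F (pullback.fst (sp k L) (sp k k')) rfl θ
    (by rw [← Category.assoc, hθ, hq']) (sp L Ω) hθ hq' n ξ
  rw [← h4, h3, map_zero]

end K176.FieldClass
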