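import Groth.Agent.EtDepth.K176.Desc

/-!
# Comparison of the cohomology of neighbourhoods of `Y` with that of `Y`
-/

set_option autoImplicit false
universe u

open CategoryTheory CategoryTheory.Limits AlgebraicGeometry Opposite TopologicalSpace

noncomputable section

namespace K176.Fin5203

open Groth.Agent Groth.Agent.Sga2lef.H134

theorem main (k : Type u) [Field k] [CharZero k] (X : Scheme.{u}) (f : X ⟶ Spec (CommRingCat.of k)) [IsProper f]
    (c : ℕ) (V : Fin (c + 1) → X.Opens) (hV : ∀ i, IsAffineOpen (V i)) (𝓨 : X.IdealSheafData)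
    (hY : (𝓨.support : Set X) = (((⨆ i, V i) : X.Opens) : Set X)ᶜ) (m : ℕ) (hm : IsPrimePow m)
    (F : EtCoh.Ab X) (hFm : EtCoh.KilledBy m F) (hFc : EtPBC.IsConstructible F) (n : ℕ)
    (hdepth : ∀ u : X, u ∈ (⨆ i, V i) → ∀ d : ℕ,
      topologicalKrullDim ↥(closure ({u} : Set X)) = (d : WithBot ℕ∞) → EtDepth.DepthAtGE X F u (n - d))
    (W : X.Opens) (hW : (𝓨.support : Set X) ⊆ (W : Set X)) (i : 𝓨.subscheme ⟶ (W : Scheme.{u}))
    [PreservesFiniteLimits (EtCoh.pull i)] (hi : i ≫ W.ι = 𝓨.subschemeι) :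
    (∀ q : ℕ, q + c + 1 < n → Function.Bijective (EtCore.Hpull i ((EtCoh.pull W.ι).obj F) q)) ∧
      (∀ q : ℕ, q + c + 1 = n → Function.Injective (EtCore.Hpull i ((EtCoh.pull W.ι).obj F) q)) := by
  have hic : IsClosedImmersion i := by
    have : IsClosedImmersion (i ≫ W.ι) := by rw [hi]; infer_instance
    exact IsClosedImmersion.of_comp i W.ι
  have hUW : ∀ x : X, x ∉ (⨆ i, V i) → x ∈ W := fun x hx => hW (by rw [hY]; exact hx)
  have hU : ((W.ι ⁻¹ᵁ (⨆ i, V i) : W.toScheme.Opens) : Set W) = (Set.range i.base)ᶜ := by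
    ext x
    rw [Set.mem_compl_iff, ← not_iff_not, not_not]
    constructor
    · intro hx
      have h1 : W.ι x ∈ (𝓨.support : Set X) := by rw [hY]; exact hx
      rw [← Scheme.IdealSheafData.range_subschemeι, ← hi] at h1
      obtain ⟨y, hy⟩ := h1
      refine ⟨y, W.ι.injective ?_⟩
      rw [← hy]
      rfl
    · rintro ⟨y, rfl⟩ h
      have h1 : (i ≫ W.ι) y ∈ (𝓨.support : Set X) := by
        rw [hi, ← Scheme.IdealSheafData.range_subschemeι]
        exact ⟨y, rfl⟩
      rw [hY] at h1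
      exact h1 h
  have key := Desc.vanish f c V hV W hUW m hm F hFm hFc n hdepth
  constructor
  · intro q hq
    exact OpenExt.bijective_Hpull i _ hU _ q (key q (by omega)) (key (q + 1) (by omega))
  · intro q hq
    exact OpenExt.injective_Hpull i _ hU _ q (key q (by omega))

end K176.Fin5203

end
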