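import Groth.Agent.EtDepth.K176.MV
import Groth.Agent.Etdl.H424.EtaleShriek
import Groth.Agent.Etdl.H424.PullPushPlus
import Groth.Agent.S0071

/-!
# Cohomology with compact support in `D^+` through different compactifications
-/

set_option autoImplicit false
universe u

open CategoryTheory CategoryTheory.Limits AlgebraicGeometry Opposite Pretriangulated

noncomputable section

-- kernel speed: the same instance path on `ℤ` as in the files on complexes
attribute [-instance] ConditionallyCompletePartialOrderSup.toPartialOrder ConditionallyCompletePartialOrderInf.toPartialOrder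

namespace K176.Indep

attribute [local instance] HasDerivedCategory.standard

open Groth.Agent.Etdl.H424 Groth.Agent.Etdl.H860 Groth.Agent.Sga4h.ModRestr Groth.Agent.Etrest.ModAb
  Groth.Agent.Etrest Groth.Agent.Etrest.ModSmul Groth.Agent.Etdl.H424.ModLift Groth.Agent.Sga4h.EtaleRes
  Groth.Agent.Etdl.H424.EtaleShriek
open K176.PtSupp

attribute [local instance] jCont

variable (Λ : Type (u + 1)) [CommRing Λ]

/-- `Rf_*` on `D^+`. -/
abbrev P {X Y : Scheme.{u}} (f : X ⟶ Y) : D Λ X ⥤ D Λ Y := (EtModW.push Λ f).rightDerivedFunctorPlus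

section Square

variable {X Y X' Y' : Scheme.{u}} (f : X ⟶ Y) (g : Y' ⟶ Y) (f' : X' ⟶ Y') (g' : X' ⟶ X)
  (w : g' ≫ f = f' ≫ g) [IsProper f] [IsProper f'] [IsOpenImmersion g] [IsOpenImmersion g']

/-- Extension by zero commutes with proper direct image. -/
def isoAb : EtShriek.extZero g' ⋙ EtCoh.push f ≅ EtCoh.push f' ⋙ EtShriek.extZero g :=
  Functor.isoWhiskerRight (EtExtStalk.extZeroIsoLowerShriek g') (EtCoh.push f) ≪≫
    Deg0.exchange f g f' g' w ≪≫
    Functor.isoWhiskerLeft _ (EtExtStalk.extZeroIsoLowerShriek g).symm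

/-- The same for sheaves of modules. -/
def isoMod : ext Λ g' ⋙ EtModW.push Λ f ≅ EtModW.push Λ f' ⋙ ext Λ g :=
  liftIso (fun r => smulNat Λ X' r)
    (fun r F => congrArg (EtModW.push Λ f).map (ext_smulEnd g' r F))
    (fun r F => ext_smulEnd g r ((EtModW.push Λ f').obj F))
    (Functor.associator _ _ _ ≪≫ Functor.isoWhiskerLeft (ext Λ g') (pushIso Λ f) ≪≫
      (Functor.associator _ _ _).symm ≪≫
      Functor.isoWhiskerRight (extAbIso Λ g') (EtCoh.push f) ≪≫
      Functor.associator _ _ _ ≪≫ Functor.isoWhiskerLeft (ab Λ X') (isoAb f g f' g' w) ≪≫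
      (Functor.associator _ _ _).symm ≪≫ Functor.isoWhiskerRight (pushIso Λ f').symm (EtShriek.extZero g) ≪≫
      Functor.associator _ _ _ ≪≫ Functor.isoWhiskerLeft (EtModW.push Λ f') (extAbIso Λ g).symm ≪≫
      (Functor.associator _ _ _).symm)

variable {Λ}

include w in
theorem isZero_Rpush_ext (hf' : ∀ (F : EtCoh.Ab X') (q : ℕ), 0 < q → IsZero ((EtCoh.Rpush f' q).obj F))
    (n : ℕ) (hn : 0 < n) (hΛ : (n : Λ) = 0) (F : EtModW.Mod Λ X')
    (q : ℕ) (hq : 0 < q) : IsZero ((EtModW.Rpush Λ f q).obj ((ext Λ g').obj F)) := by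
  have : LocallyQuasiFinite g := Groth.Agent.Desc.LQF.of_etale g
  have : LocallyQuasiFinite g' := Groth.Agent.Desc.LQF.of_etale g'
  apply isZero_of_ab
  refine IsZero.of_iso ?_ ((rpushIso Λ f q).app _)
  refine IsZero.of_iso ?_ ((EtCoh.Rpush f q).mapIso
    ((extAbIso Λ g').app F ≪≫ (EtExtStalk.extZeroIsoLowerShriek g').app _))
  exact ShriekAcyc.isZero_Rpush_lowerShriek f g f' g' w
    _ (isTorsion_ab n hn hΛ F) _ (hf' _ q hq)

variable (Λ) in
include w in
/-- `Rf_* g'_! = g_! Rf'_*` if `f'_*` is exact, for torsion coefficients. -/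
theorem nonempty_iso (hf' : ∀ (F : EtCoh.Ab X') (q : ℕ), 0 < q → IsZero ((EtCoh.Rpush f' q).obj F))
    (n : ℕ) (hn : 0 < n) (hΛ : (n : Λ) = 0) :
    Nonempty (E (Λ := Λ) g' ⋙ P Λ f ≅ P Λ f' ⋙ E g) :=
  ⟨PlusAdj.compIso (ext Λ g') (EtModW.push Λ f) (EtModW.push Λ f' ⋙ ext Λ g) (isoMod Λ f g f' g' w)
      (fun I _ q hq => isZero_Rpush_ext f g f' g' w hf' n hn hΛ I q hq) ≪≫
    (DP.compExact (EtModW.push Λ f') (ext Λ g) _ (Iso.refl _)).symm⟩

end Square

variable {X Y Z : Scheme.{u}}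

theorem nonempty_P_comp (f : X ⟶ Y) (g : Y ⟶ Z) : Nonempty (P Λ f ⋙ P Λ g ≅ P Λ (f ≫ g)) := by
  have := PullPushPlus.isIso_compMapMod Λ f g
  exact ⟨(asIso (EtSix.compMapMod Λ f g)).symm⟩

/-- `Rf_* j'_! = j_!` for `j = j' ≫ f`. -/
theorem nonempty_E_P {V : Scheme.{u}} (j : V ⟶ X) [IsOpenImmersion j] (j' : V ⟶ Y) [IsOpenImmersion j']
    (f : Y ⟶ X) [IsProper f] (w : j' ≫ f = j) (n : ℕ) (hn : 0 < n) (hΛ : (n : Λ) = 0) :
    Nonempty (E (Λ := Λ) j' ⋙ P Λ f ≅ E j) :=
  let c : DEt.Compactification j := ⟨Y, j', f, inferInstance, inferInstance, w⟩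
  ⟨rshriekIso c n hn hΛ⟩

/-- **Independence of the compactification.** -/
theorem nonempty_indep {V X A PA S : Scheme.{u}} (a : X ⟶ S) [IsProper a] (j : V ⟶ X) [IsOpenImmersion j]
    (b : PA ⟶ S) [IsProper b] (jA : A ⟶ PA) [IsOpenImmersion jA] [QuasiCompact jA] (ι : V ⟶ A)
    [IsClosedImmersion ι] (w : ι ≫ jA ≫ b = j ≫ a) (n : ℕ) (hn : 0 < n) (hΛ : (n : Λ) = 0) :
    Nonempty (E (Λ := Λ) j ⋙ P Λ a ≅ P Λ ι ⋙ E jA ⋙ P Λ b) := by
  let h : V ⟶ pullback a b := pullback.lift j (ι ≫ jA) (by rw [Category.assoc, w])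
  have e1 : h ≫ pullback.fst a b = j := pullback.lift_fst _ _ _
  have e2 : h ≫ pullback.snd a b = ι ≫ jA := pullback.lift_snd _ _ _
  have hi : IsImmersion h := by
    have : IsImmersion (h ≫ pullback.fst a b) := by rw [e1]; infer_instance
    exact IsImmersion.of_comp h (pullback.fst a b)
  have hq : QuasiCompact h := by
    have : QuasiCompact (h ≫ pullback.snd a b) := by rw [e2]; infer_instance
    exact QuasiCompact.of_comp h (pullback.snd a b)
  have ho : IsOpenImmersion h.toImage := inferInstance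
  have w1 : h.toImage ≫ (h.imageι ≫ pullback.fst a b) = j := by
    rw [← Category.assoc, h.toImage_imageι, e1]
  have w2 : h.toImage ≫ (h.imageι ≫ pullback.snd a b) = ι ≫ jA := by
    rw [← Category.assoc, h.toImage_imageι, e2]
  have w3 : (h.imageι ≫ pullback.fst a b) ≫ a = (h.imageι ≫ pullback.snd a b) ≫ b := by
    rw [Category.assoc, Category.assoc, pullback.condition]
  obtain ⟨i1⟩ := nonempty_E_P Λ j h.toImage (h.imageι ≫ pullback.fst a b) w1 n hn hΛ
  obtain ⟨i2⟩ := nonempty_P_comp Λ (h.imageι ≫ pullback.fst a b) a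
  obtain ⟨i3⟩ := nonempty_P_comp Λ (h.imageι ≫ pullback.snd a b) b
  obtain ⟨i4⟩ := nonempty_iso Λ (h.imageι ≫ pullback.snd a b) jA ι h.toImage w2
    (fun F q hq => Groth.Agent.S0071.result ι F q hq) n hn hΛ
  have i5 : P Λ ((h.imageι ≫ pullback.fst a b) ≫ a) ≅ P Λ ((h.imageι ≫ pullback.snd a b) ≫ b) :=
    eqToIso (by rw [w3])
  exact ⟨Functor.isoWhiskerRight i1.symm (P Λ a) ≪≫ Functor.associator _ _ _ ≪≫
    Functor.isoWhiskerLeft (E h.toImage) (i2 ≪≫ i5 ≪≫ i3.symm) ≪≫ (Functor.associator _ _ _).symm ≪≫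
    Functor.isoWhiskerRight i4 (P Λ b) ≪≫ Functor.associator _ _ _⟩

end K176.Indep

end
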