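import Groth.Agent.EtDepth.K176.OpenBC
import Groth.Agent.EtDepth.K176.Indep
import Groth.Agent.S0630
import Groth.Agent.Sga4h.X144Res
import Groth.Agent.Etbc.H215.AffEmb

/-!
# Cohomology of `(U ∩ W → W)_! F` on `W`, by Mayer-Vietoris on `U`
-/

set_option autoImplicit false
universe u

-- kernel speed: the same instance path on `ℤ` as in the files on complexes
attribute [-instance] ConditionallyCompletePartialOrderSup.toPartialOrder ConditionallyCompletePartialOrderInf.toPartialOrder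

open CategoryTheory CategoryTheory.Limits AlgebraicGeometry Opposite Pretriangulated TopologicalSpace

noncomputable section

namespace K176.Geo

attribute [local instance] HasDerivedCategory.standard

open Groth.Agent.Etdl.H424 Groth.Agent.Etdl.H860 Groth.Agent.Sga4h.ModRestr Groth.Agent.Etrest.ModAb
  Groth.Agent.Sga4h.EtaleRes Groth.Agent Groth.Agent.Sga4h
open K176.PtSupp K176.OpenBC

attribute [local instance] jCont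

variable (Λ : Type (u + 1)) [CommRing Λ]

/-- Direct images along closed immersions are exact. -/
theorem exact_push {X Y : Scheme.{u}} (f : X ⟶ Y) [IsClosedImmersion f] :
    PreservesFiniteColimits (EtModW.push Λ f) := by
  have h1 : PreservesFiniteColimits (EtCoh.push f) := Groth.Agent.S0630.result f
  have h2 : PreservesFiniteColimits (EtModW.push Λ f ⋙ ab Λ Y) :=
    preservesFiniteColimits_of_natIso (pushIso Λ f).symm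
  exact preservesFiniteColimits_of_reflects_of_preserves _ (ab Λ Y)

variable {Λ} {X : Scheme.{u}}

/-- `(U ∩ W → W)_! F`. -/
def MW (U W : X.Opens) (F : EtModW.Mod Λ X) : EtModW.Mod Λ (W : Scheme.{u}) :=
  (ext Λ (W.ι ⁻¹ᵁ U).ι).obj ((res Λ (W.ι ⁻¹ᵁ U).ι).obj ((res Λ W.ι).obj F))

theorem nonempty_sg_MW (U W : X.Opens) (F : EtModW.Mod Λ X) :
    Nonempty (sg Λ (MW U W F) ≅ (E (W.ι ⁻¹ᵁ U).ι).obj (sg Λ ((res Λ (W.ι ⁻¹ᵁ U).ι).obj ((res Λ W.ι).obj F)))) :=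
  ⟨(DP.singlePlus (ext Λ (W.ι ⁻¹ᵁ U).ι) 0 _).symm⟩

/-- `j^* Rj_* = id`. -/
theorem nonempty_R_P {V : Scheme.{u}} (j : V ⟶ X) [IsOpenImmersion j] (K : D Λ V) :
    Nonempty ((R j).obj ((OpenBC.P Λ j).obj K) ≅ K) := by
  have h := DP.isIso_counit_triple (extResAdj Λ j) (resPushAdj Λ j) (fun X => inferInstance) K
  exact ⟨asIso ((PlusAdj.dadj (resPushAdj Λ j)).counit.app K)⟩

/-- `Rh_* M` vanishes off `U`. -/
theorem vanAt (U W : X.Opens) (hUW : ∀ x : X, x ∉ U → x ∈ W) (F : EtModW.Mod Λ X) (x : X) (hx : x ∉ U) :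
    VanAt ((OpenBC.P Λ W.ι).obj (sg Λ (MW U W F))) x := by
  have hxW := hUW x hx
  have hx' : W.ι ⟨x, hxW⟩ = x := rfl
  rw [← hx', ← vanAt_R_iff]
  obtain ⟨e⟩ := nonempty_R_P W.ι (sg Λ (MW U W F))
  obtain ⟨e'⟩ := nonempty_sg_MW U W F
  refine VanAt.of_iso (e ≪≫ e').symm ?_
  refine vanAt_E _ _ _ ?_
  rw [Scheme.Opens.range_ι]
  exact hx

/-- The restriction to `L ∩ W`, `L ≤ U`. -/
theorem nonempty_res_MW (U W : X.Opens) (F : EtModW.Mod Λ X) (L : X.Opens) (hL : L ≤ U) :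
    Nonempty ((res Λ (L.ι ∣_ W)).obj (MW U W F) ≅ (res Λ (L.ι ⁻¹ᵁ W).ι).obj ((res Λ L.ι).obj F)) := by
  have hr : Set.range (L.ι ∣_ W) ⊆ Set.range (W.ι ⁻¹ᵁ U).ι := by
    rintro _ ⟨z, rfl⟩
    rw [Scheme.Opens.range_ι]
    have h1 : W.ι ((L.ι ∣_ W) z) = L.ι ((L.ι ⁻¹ᵁ W).ι z) := by
      rw [← Scheme.Hom.comp_apply, ← Scheme.Hom.comp_apply, morphismRestrict_ι]
    change W.ι ((L.ι ∣_ W) z) ∈ U
    rw [h1]
    exact hL ((L.ι ⁻¹ᵁ W).ι z).2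
  let j₀ : ((L.ι ⁻¹ᵁ W : L.toScheme.Opens) : Scheme.{u}) ⟶ ((W.ι ⁻¹ᵁ U : W.toScheme.Opens) : Scheme.{u}) :=
    IsOpenImmersion.lift (W.ι ⁻¹ᵁ U).ι (L.ι ∣_ W) hr
  have hj₀ : j₀ ≫ (W.ι ⁻¹ᵁ U).ι = L.ι ∣_ W := IsOpenImmersion.lift_fac _ _ _
  have hj : IsOpenImmersion j₀ := inferInstance
  have hw : (j₀ ≫ (W.ι ⁻¹ᵁ U).ι) ≫ W.ι = (L.ι ⁻¹ᵁ W).ι ≫ L.ι := by
    rw [hj₀, morphismRestrict_ι]
  let N := (res Λ (W.ι ⁻¹ᵁ U).ι).obj ((res Λ W.ι).obj F)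
  have e1 : (res Λ (L.ι ∣_ W)).obj (MW U W F) ≅ (res Λ j₀).obj ((res Λ (W.ι ⁻¹ᵁ U).ι).obj (MW U W F)) :=
    (X144Res.resCongr Λ hj₀.symm).app _ ≪≫ (X144Res.resComp Λ (W.ι ⁻¹ᵁ U).ι j₀).app _
  have e2 : (res Λ (W.ι ⁻¹ᵁ U).ι).obj (MW U W F) ≅ N :=
    (asIso ((extResAdj Λ (W.ι ⁻¹ᵁ U).ι).unit.app N)).symm
  have e3 : (res Λ j₀).obj N ≅ (res Λ (j₀ ≫ (W.ι ⁻¹ᵁ U).ι)).obj ((res Λ W.ι).obj F) :=
    ((X144Res.resComp Λ (W.ι ⁻¹ᵁ U).ι j₀).app _).symm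
  have e4 : (res Λ (j₀ ≫ (W.ι ⁻¹ᵁ U).ι)).obj ((res Λ W.ι).obj F) ≅
      (res Λ (L.ι ⁻¹ᵁ W).ι).obj ((res Λ L.ι).obj F) :=
    (X144Res.resSquare Λ W.ι (j₀ ≫ (W.ι ⁻¹ᵁ U).ι) L.ι (L.ι ⁻¹ᵁ W).ι hw).app F
  exact ⟨e1 ≪≫ (res Λ j₀).mapIso e2 ≪≫ e3 ≪≫ e4⟩

end K176.Geo

end
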