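import Groth.Agent.EtDepth.K176.OpenBC
import Groth.Agent.Sga4B.IterP1
import Groth.Prelude.Def_EtDepth

/-!
# The statement of the vanishing theorem on affine space
-/

set_option autoImplicit false
universe u

-- kernel speed: the same instance path on `ℤ` as in the files on complexes
attribute [-instance] ConditionallyCompletePartialOrderSup.toPartialOrder ConditionallyCompletePartialOrderInf.toPartialOrder

open CategoryTheory CategoryTheory.Limits AlgebraicGeometry Opposite Pretriangulated

noncomputable section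

namespace K176.GoodDef

attribute [local instance] HasDerivedCategory.standard
open Groth.Agent.Sga4h.ModRestr Groth.Agent.Etrest.ModAb Groth.Agent.Sga4B

/-- The hypotheses on `F`. -/
structure Good (Λ : Type (u + 1)) [CommRing Λ] (A : Scheme.{u}) (n : ℕ) (F : EtModW.Mod Λ A) : Prop where
  /-- `F` is constructible -/
  con : EtPBC.IsConstructible ((ab Λ _).obj F)
  /-- the depth condition -/
  depth : ∀ (v : A) (d : ℕ), topologicalKrullDim (closure ({v} : Set A)) = (d : WithBot ℕ∞) →
      EtDepth.DepthAtGE A ((ab Λ _).obj F) v (n - d)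

/-- Vanishing of `H^i_c(A, Rκ_* κ^* F)` for `i < n`. -/
structure VanC (Λ : Type (u + 1)) [CommRing Λ] {S A P : Scheme.{u}} (b : P ⟶ S) (jA : A ⟶ P)
    [IsOpenImmersion jA] (n : ℕ) (F : EtModW.Mod Λ A) : Prop where
  /-- the vanishing -/
  out : ∀ {O : Scheme.{u}} (κ : O ⟶ A) [IsOpenImmersion κ],
    ((OpenBC.P Λ b).obj ((PtSupp.E jA).obj ((OpenBC.P Λ κ).obj
        (OpenBC.sg Λ ((res Λ κ).obj F))))).IsGE n

/-- The vanishing theorem on affine spaces over `k`. -/
structure StmtC (Λ : Type (u + 1)) [CommRing Λ] (k : Type u) [Field k] (n : ℕ) : Prop where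
  /-- the vanishing -/
  out : ∀ (N : ℕ) (F : EtModW.Mod Λ 𝔸(ULift.{u} (Fin N); Spec (CommRingCat.of k))),
    Good Λ 𝔸(ULift.{u} (Fin N); Spec (CommRingCat.of k)) n F →
    VanC Λ (IterP1.toBase (Spec (CommRingCat.of k)) N) (IterP1.aff (Spec (CommRingCat.of k)) N) n F

end K176.GoodDef

end
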