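import Groth.Agent.EtDepth.K176.Geo
import Groth.Agent.EtDepth.K176.GoodDef
import Groth.Agent.Sga2lef.H134.DepthPush
import Groth.Agent.Sga2lef.H134.DepthAt
import Groth.Agent.Sga2lef.H134.DimCl
import Groth.Agent.EtpbcA.StrataGlob
import Groth.Agent.S0137
import Groth.Agent.S0127
import Groth.Agent.Dual.H343.RDPlus
import Groth.Agent.Etrest.ModAbR

/-!
# Vanishing of the cohomology of `(U ∩ W → W)_! F` over an algebraically closed field
-/

set_option autoImplicit false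
universe u

-- kernel speed: the same instance path on `ℤ` as in the files on complexes
attribute [-instance] ConditionallyCompletePartialOrderSup.toPartialOrder ConditionallyCompletePartialOrderInf.toPartialOrder

open CategoryTheory CategoryTheory.Limits AlgebraicGeometry Opposite Pretriangulated TopologicalSpace

noncomputable section

namespace K176.Geo2

attribute [local instance] HasDerivedCategory.standard

open Groth.Agent.Etdl.H424 Groth.Agent.Etdl.H860 Groth.Agent.Sga4h.ModRestr Groth.Agent.Etrest.ModAb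
  Groth.Agent.Sga4h.EtaleRes Groth.Agent Groth.Agent.Sga4h Groth.Agent.Sga4B
  Groth.Agent.Sga2lef.H134
open K176.PtSupp K176.OpenBC K176.Geo K176.GoodDef K176.MV

attribute [local instance] jCont

variable {Λ : Type (u + 1)} [CommRing Λ] {k : Type u} [Field k] {X : Scheme.{u}}

/-- The closed embedding of an affine open in affine space. -/
theorem good {L : Scheme.{u}} (N : ℕ) (ι : L ⟶ 𝔸(ULift.{u} (Fin N); Spec (CommRingCat.of k))) [IsClosedImmersion ι] (v : L ⟶ X) [IsOpenImmersion v]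
    (a : X ⟶ Spec (CommRingCat.of k)) [LocallyOfFiniteType a] [LocallyOfFiniteType (v ≫ a)]
    (F : EtModW.Mod Λ X) (hFc : EtPBC.IsConstructible ((ab Λ X).obj F)) (n : ℕ)
    (hdepth : ∀ (x : L) (d : ℕ), topologicalKrullDim (closure ({v x} : Set X)) = (d : WithBot ℕ∞) →
      EtDepth.DepthAtGE X ((ab Λ X).obj F) (v x) (n - d)) :
    Good Λ 𝔸(ULift.{u} (Fin N); Spec (CommRingCat.of k)) n ((EtModW.push Λ ι).obj ((res Λ v).obj F)) := by
  let S : Scheme.{u} := Spec (CommRingCat.of k)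
  have hNA : IsLocallyNoetherian (𝔸(ULift.{u} (Fin N); Spec (CommRingCat.of k))) :=
    LocallyOfFiniteType.isLocallyNoetherian (𝔸(ULift.{u} (Fin N); S) ↘ S)
  let G : EtCoh.Ab L := (EtCoh.pull v).obj ((ab Λ X).obj F)
  have e : (EtCoh.push ι).obj G ≅ (ab Λ (𝔸(ULift.{u} (Fin N); Spec (CommRingCat.of k)))).obj
      ((EtModW.push Λ ι).obj ((res Λ v).obj F)) :=
    (EtCoh.push ι).mapIso (((pullIso Λ v).app F).symm ≪≫
      (ab Λ L).mapIso ((ModLift.pullResIso Λ v).app F)) ≪≫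
      ((pushIso Λ ι).app _).symm
  have hcfp : LocallyOfFinitePresentation ι := by
    rw [LocallyOfFinitePresentation.iff_locallyOfFiniteType]
    infer_instance
  refine ⟨?_, fun w d hw => ?_⟩
  · exact EtpbcA.StrataGlob.isConstructible_of_iso e (Groth.Agent.S0137.result ι G (Groth.Agent.S0127.result v _ hFc))
  · refine DepthAt.DepthAtGE.of_iso e ?_
    refine DepthPush.depthAtGE_push ι G w (n - d) fun x hx => ?_
    rw [DepthAt.depthAtGE_pull_iff]
    refine hdepth x d ?_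
    rw [← DimCl.dim_closure_preimmersion a v x, ← hw, ← hx]
    have hl : LocallyOfFiniteType (ι ≫ (𝔸(ULift.{u} (Fin N); S) ↘ S)) := inferInstance
    exact DimCl.dim_closure_preimmersion (𝔸(ULift.{u} (Fin N); S) ↘ S) ι x

theorem isGE_affine {n : ℕ} (hC : StmtC Λ k n) (a : X ⟶ Spec (CommRingCat.of k)) [IsProper a]
    (U W : X.Opens) {m : ℕ} (hm : 0 < m) (hΛ : (m : Λ) = 0)
    (F : EtModW.Mod Λ X) (hFc : EtPBC.IsConstructible ((ab Λ X).obj F))
    (hdepth : ∀ x : X, x ∈ U → ∀ d : ℕ, topologicalKrullDim (closure ({x} : Set X)) = (d : WithBot ℕ∞) →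
      EtDepth.DepthAtGE X ((ab Λ X).obj F) x (n - d)) (L : X.Opens) (hL : IsAffineOpen L)
    (hLU : L ≤ U) :
    ((OpenBC.P Λ a).obj (EE L.ι ((OpenBC.P Λ W.ι).obj (sg Λ (MW U W F))))).IsGE n := by
  let S : Scheme.{u} := Spec (CommRingCat.of k)
  have hLaff : IsAffine (L : Scheme.{u}) := hL
  have hVS : IsAffineHom (L.ι ≫ a) := inferInstance
  obtain ⟨N, ι, hι, hιw⟩ := Groth.Agent.Etbc.H215.AffEmb.exists_closedImmersion (L.ι ≫ a)
  let b := IterP1.toBase S N
  let jA := IterP1.aff S N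
  have hjA : jA ≫ b = 𝔸(ULift.{u} (Fin N); S) ↘ S := IterP1.aff_toBase S N
  have hqc : QuasiCompact jA := by
    have : QuasiCompact (jA ≫ b) := by rw [hjA]; infer_instance
    exact QuasiCompact.of_comp jA b
  have hb : IsProper b := inferInstance
  obtain ⟨e1⟩ := Indep.nonempty_indep Λ a L.ι b jA ι (by rw [hjA, hιw]) m hm hΛ
  -- the open subset of affine space
  obtain ⟨O, hO⟩ : ∃ O : (𝔸(ULift.{u} (Fin N); Spec (CommRingCat.of k))).Opens, ι ⁻¹ᵁ O = L.ι ⁻¹ᵁ W := by
    obtain ⟨T, hT, hTO⟩ := ι.isEmbedding.isInducing.isOpen_iff.1 (L.ι ⁻¹ᵁ W).2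
    exact ⟨⟨T, hT⟩, TopologicalSpace.Opens.ext hTO⟩
  obtain ⟨p, hp⟩ : ∃ p : ((L.ι ⁻¹ᵁ W : L.toScheme.Opens) : Scheme.{u}) ⟶ (O : Scheme.{u}),
      IsPullback (L.ι ⁻¹ᵁ W).ι p ι O.ι := by
    rw [← hO]
    exact ⟨ι ∣_ O, (isPullback_morphismRestrict ι O).flip⟩
  have hpc : IsClosedImmersion p := MorphismProperty.of_isPullback (P := @IsClosedImmersion) hp hι
  obtain ⟨eM⟩ := nonempty_res_MW U W F L hLU
  obtain ⟨e2⟩ := nonempty_local Λ W.ι L.ι (L.ι ∣_ W) (L.ι ⁻¹ᵁ W).ι
    (isPullback_morphismRestrict L.ι W) ι (fun f _ => exact_push Λ f) O.ι p hp F (MW U W F) eM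
  have hgood : Good Λ 𝔸(ULift.{u} (Fin N); Spec (CommRingCat.of k)) n ((EtModW.push Λ ι).obj ((res Λ L.ι).obj F)) :=
    good N ι L.ι a F hFc n fun x d hd => hdepth _ (hLU x.2) d hd
  have key := (hC.out N _ hgood).out O.ι
  refine isGE_of_iso ?_ key
  exact (OpenBC.P Λ b).mapIso ((E jA).mapIso e2.symm) ≪≫ (e1.app _).symm

end K176.Geo2

end
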