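import Groth.Agent.EtDepth.K176.Geo2

/-!
# Vanishing of the cohomology of `(U ∩ W → W)_! F` over an algebraically closed field
-/

set_option autoImplicit false
universe u

-- kernel speed: the same instance path on `ℤ` as in the files on complexes
attribute [-instance] ConditionallyCompletePartialOrderSup.toPartialOrder ConditionallyCompletePartialOrderInf.toPartialOrder

open CategoryTheory CategoryTheory.Limits AlgebraicGeometry Opposite Pretriangulated TopologicalSpace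

noncomputable section

namespace K176.Geo3

attribute [local instance] HasDerivedCategory.standard

open Groth.Agent.Etdl.H424 Groth.Agent.Etdl.H860 Groth.Agent.Sga4h.ModRestr Groth.Agent.Etrest.ModAb
  Groth.Agent.Sga4h.EtaleRes Groth.Agent Groth.Agent.Sga4h Groth.Agent.Sga4B
  Groth.Agent.Sga2lef.H134
open K176.PtSupp K176.OpenBC K176.Geo K176.GoodDef K176.MV K176.Geo2

attribute [local instance] jCont

variable {Λ : Type (u + 1)} [CommRing Λ] {k : Type u} [Field k] {X : Scheme.{u}}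

theorem isGE_all {n : ℕ} (hC : StmtC Λ k n) (a : X ⟶ Spec (CommRingCat.of k)) [IsProper a]
    (c : ℕ) (V : Fin (c + 1) → X.Opens) (hV : ∀ i, IsAffineOpen (V i)) (W : X.Opens)
    (hUW : ∀ x : X, x ∉ (⨆ i, V i) → x ∈ W) {m : ℕ} (hm : 0 < m) (hΛ : (m : Λ) = 0)
    (F : EtModW.Mod Λ X) (hFc : EtPBC.IsConstructible ((ab Λ X).obj F))
    (hdepth : ∀ x : X, x ∈ (⨆ i, V i) → ∀ d : ℕ, topologicalKrullDim (closure ({x} : Set X)) = (d : WithBot ℕ∞) →
      EtDepth.DepthAtGE X ((ab Λ X).obj F) x (n - d)) :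
    ((OpenBC.P Λ (W.ι ≫ a)).obj (sg Λ (MW (⨆ i, V i) W F))).IsGE ((n : ℤ) - c) := by
  have hsep : X.IsSeparated := by
    have : IsSeparated (Limits.terminal.from X) := by
      rw [Subsingleton.elim (terminal.from X) (a ≫ terminal.from _)]
      infer_instance
    exact ⟨this⟩
  set U : X.Opens := ⨆ i, V i with hU
  let K := (OpenBC.P Λ W.ι).obj (sg Λ (MW U W F))
  have h1 : ((OpenBC.P Λ a).obj (EE U.ι K)).IsGE ((n : ℤ) - c) := by
    rw [hU]
    refine isGE_of_affine (OpenBC.P Λ a) K U n (fun L hL hLU => ?_) (c + 1) V hV (fun i => le_iSup V i) _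
      (by push_cast; lia)
    exact isGE_affine hC a U W hm hΛ F hFc hdepth L hL hLU
  have h2 : IsIso ((adjER (Λ := Λ) U.ι).counit.app K) := isIso_counit U.ι K fun x hx => by
    rw [Scheme.Opens.range_ι] at hx
    exact vanAt U W hUW F x hx
  have h3 : ((OpenBC.P Λ a).obj K).IsGE ((n : ℤ) - c) :=
    isGE_of_iso ((OpenBC.P Λ a).mapIso (asIso ((adjER (Λ := Λ) U.ι).counit.app K))) h1
  obtain ⟨e⟩ := nonempty_P_comp Λ W.ι a
  exact isGE_of_iso (e.app _) h3

theorem isZero_Rpush {n : ℕ} (hC : StmtC Λ k n) (a : X ⟶ Spec (CommRingCat.of k)) [IsProper a]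
    (c : ℕ) (V : Fin (c + 1) → X.Opens) (hV : ∀ i, IsAffineOpen (V i)) (W : X.Opens)
    (hUW : ∀ x : X, x ∉ (⨆ i, V i) → x ∈ W) {m : ℕ} (hm : 0 < m) (hΛ : (m : Λ) = 0)
    (F : EtModW.Mod Λ X) (hFc : EtPBC.IsConstructible ((ab Λ X).obj F))
    (hdepth : ∀ x : X, x ∈ (⨆ i, V i) → ∀ d : ℕ, topologicalKrullDim (closure ({x} : Set X)) = (d : WithBot ℕ∞) →
      EtDepth.DepthAtGE X ((ab Λ X).obj F) x (n - d)) (q : ℕ) (hq : q + c < n) :
    IsZero ((EtCoh.Rpush (W.ι ≫ a) q).obj ((ab Λ _).obj (MW (⨆ i, V i) W F))) := by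
  have h := isGE_all hC a c V hV W hUW hm hΛ F hFc hdepth
  rw [isGE_iff] at h
  have h1 := h q (by lia)
  have h2 : IsZero ((EtModW.Rpush Λ (W.ι ≫ a) q).obj (MW (⨆ i, V i) W F)) :=
    IsZero.of_iso h1 (Dual.H343.RDPlus.homologyIso (EtModW.push Λ (W.ι ≫ a)) (sg Λ (MW (⨆ i, V i) W F)) (Iso.refl _) q).symm
  exact IsZero.of_iso ((ab Λ _).map_isZero h2) ((rpushIso Λ (W.ι ≫ a) q).app _).symm

end K176.Geo3

end
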