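import Groth.Agent.EtDepth.K176.PtSupp

/-!
# Mayer-Vietoris for extensions by zero in `D^+`
-/

set_option autoImplicit false
universe w v' u' u

open CategoryTheory CategoryTheory.Limits AlgebraicGeometry Opposite Pretriangulated

noncomputable section

-- kernel speed: the same instance path on `ℤ` as in the files on complexes
attribute [-instance] ConditionallyCompletePartialOrderSup.toPartialOrder ConditionallyCompletePartialOrderInf.toPartialOrder

namespace K176.MV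

attribute [local instance] HasDerivedCategory.standard

open Groth.Agent.Etdl.H424 Groth.Agent.Etdl.H860 Groth.Agent.Sga4h.ModRestr Groth.Agent.Etrest.ModAb
  Groth.Agent.Sga4h.EtPts
open K176.PtSupp

section tstr

variable {A : Type u'} [Category.{v'} A] [Abelian A] [HasDerivedCategory.{w} A]

theorem isGE_iff (K : DerivedCategory.Plus A) (n : ℤ) :
    K.IsGE n ↔ ∀ i < n, IsZero ((DerivedCategory.Plus.homologyFunctor A i).obj K) := by
  rw [← DerivedCategory.Plus.isGE_ι_obj_iff]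
  exact DerivedCategory.isGE_iff _ n

theorem isGE₂ {Δ : Triangle (DerivedCategory.Plus A)} (hΔ : Δ ∈ distTriang _) (n : ℤ)
    (h1 : Δ.obj₁.IsGE n) (h3 : Δ.obj₃.IsGE n) : Δ.obj₂.IsGE n := by
  rw [isGE_iff] at h1 h3 ⊢
  intro i hi
  exact ((DerivedCategory.Plus.homologyFunctor A i).map_distinguished_exact Δ hΔ).isZero_of_both_zeros
    ((h1 i hi).eq_of_src _ _) ((h3 i hi).eq_of_tgt _ _)

theorem isGE₃ {Δ : Triangle (DerivedCategory.Plus A)} (hΔ : Δ ∈ distTriang _) (n : ℤ)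
    (h1 : Δ.obj₁.IsGE (n + 1)) (h2 : Δ.obj₂.IsGE n) : Δ.obj₃.IsGE n :=
  isGE₂ (rot_of_distTriang Δ hΔ) n h2
    (DerivedCategory.Plus.TStructure.t.isGE_shift Δ.obj₁ (n + 1) 1 n (by lia))

theorem isGE_of_isZero (K : DerivedCategory.Plus A) (h : IsZero K) (n : ℤ) : K.IsGE n := by
  rw [isGE_iff]
  exact fun i _ => (DerivedCategory.Plus.homologyFunctor A i).map_isZero h

theorem isGE_of_iso {K L : DerivedCategory.Plus A} (e : K ≅ L) {n : ℤ} (h : K.IsGE n) : L.IsGE n :=
  DerivedCategory.Plus.TStructure.t.isGE_of_iso e n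

theorem isGE_of_ge {K : DerivedCategory.Plus A} {m n : ℤ} (hmn : m ≤ n) (h : K.IsGE n) : K.IsGE m :=
  DerivedCategory.Plus.TStructure.t.isGE_of_ge K m n hmn

end tstr

variable {Λ : Type (u + 1)} [CommRing Λ] {X V W Y : Scheme.{u}}

/-- `v_! v^*` on `D^+`. -/
abbrev EE (v : V ⟶ X) [Etale v] (K : D Λ X) : D Λ X := (E v).obj ((R v).obj K)

/-- The counit. -/
abbrev ε (v : V ⟶ X) [Etale v] (K : D Λ X) : EE v K ⟶ K := (adjER v).counit.app K

theorem isIso_R_of_subset (v : V ⟶ X) [Etale v] (x : Y ⟶ X) [Etale x] (h : Set.range x ⊆ Set.range v)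
    {K L : D Λ X} (f : K ⟶ L) (hf : IsIso ((R v).map f)) : IsIso ((R x).map f) := by
  obtain ⟨C, g, δ, hΔ⟩ := distinguished_cocone_triangle f
  have h1 := (Triangle.isZero₃_iff_isIso₁ _ ((R v).map_distinguished _ hΔ)).2 hf
  refine (Triangle.isZero₃_iff_isIso₁ _ ((R x).map_distinguished _ hΔ)).1 ?_
  exact (isZero_R_iff x C).2 fun y hy => (isZero_R_iff v C).1 h1 y (h hy)

theorem vanAt_EE_iff (v : V ⟶ X) [IsOpenImmersion v] (K : D Λ X) (x : X) (hx : x ∈ Set.range v) :
    VanAt (EE v K) x ↔ VanAt K x := by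
  obtain ⟨y, rfl⟩ := hx
  rw [← vanAt_R_iff, ← vanAt_R_iff]
  have := isIso_R_counit v K
  exact ⟨fun h => h.of_iso (asIso ((R v).map (ε v K))), fun h => h.of_iso (asIso ((R v).map (ε v K))).symm⟩

/-- `v_! v^* w_! w^* = x_! x^*`. -/
theorem nonempty_EE_EE (v : V ⟶ X) (w : W ⟶ X) (x : Y ⟶ X) [IsOpenImmersion v] [IsOpenImmersion w]
    [IsOpenImmersion x] (hx : Set.range x = Set.range v ∩ Set.range w) (K : D Λ X) :
    Nonempty (EE v (EE w K) ≅ EE x K) := by
  let a : EE v (EE w K) ⟶ K := ε v (EE w K) ≫ ε w K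
  have h1 : IsIso ((R x).map a) := by
    have i1 := isIso_R_of_subset v x (by rw [hx]; exact Set.inter_subset_left) _
      (isIso_R_counit v (EE w K))
    have i2 := isIso_R_of_subset w x (by rw [hx]; exact Set.inter_subset_right) _
      (isIso_R_counit w K)
    rw [Functor.map_comp]
    exact IsIso.comp_isIso' i1 i2
  have h2 : IsIso (ε x (EE v (EE w K))) := isIso_counit x _ fun y hy => by
    by_cases hv : y ∈ Set.range v
    · rw [vanAt_EE_iff v _ y hv]
      exact vanAt_E w _ y fun hw => hy (hx ▸ ⟨hv, hw⟩)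
    · exact vanAt_E v _ y hv
  exact ⟨(asIso (ε x (EE v (EE w K)))).symm ≪≫ (E x).mapIso (asIso ((R x).map a))⟩

variable {A : Type u'} [Category.{v'} A] [Abelian A] [HasDerivedCategory.{w} A]
  (Φ : D Λ X ⥤ DerivedCategory.Plus A) [Φ.CommShift ℤ] [Φ.IsTriangulated]

/-- **Mayer-Vietoris.** -/
theorem mv (v : V ⟶ X) (w : W ⟶ X) (x : Y ⟶ X) [IsOpenImmersion v] [IsOpenImmersion w]
    [IsOpenImmersion x] (hx : Set.range x = Set.range v ∩ Set.range w) (K : D Λ X)
    (hK : ∀ y, y ∉ Set.range v → y ∉ Set.range w → VanAt K y) (n : ℤ) (h1 : (Φ.obj (EE v K)).IsGE n)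
    (h2 : (Φ.obj (EE w K)).IsGE n) (h3 : (Φ.obj (EE x K)).IsGE (n + 1)) : (Φ.obj K).IsGE n := by
  obtain ⟨C, g, δ, hΔ⟩ := distinguished_cocone_triangle (ε w K)
  have hC : ∀ y, y ∉ Set.range v → VanAt C y := by
    intro y hv
    by_cases hw : y ∈ Set.range w
    · have i := (Triangle.isZero₃_iff_isIso₁ _ ((R w).map_distinguished _ hΔ)).2 (isIso_R_counit w K)
      exact (isZero_R_iff w C).1 i y hw
    · exact DP.isZero₃ (stk Λ y).rightDerivedFunctorPlus hΔ (vanAt_E w _ y hw) (hK y hv hw)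
  have i1 : IsIso (ε v C) := isIso_counit v C hC
  have hΔ' := (E v).map_distinguished _ ((R v).map_distinguished _ hΔ)
  obtain ⟨e⟩ := nonempty_EE_EE v w x hx K
  have h4 : (Φ.obj (EE v C)).IsGE n :=
    isGE₃ (Φ.map_distinguished _ hΔ') n (isGE_of_iso (Φ.mapIso e.symm) h3) h1
  have h5 : (Φ.obj C).IsGE n := isGE_of_iso (Φ.mapIso (asIso (ε v C))) h4
  exact isGE₂ (Φ.map_distinguished _ hΔ) n h2 h5

theorem nonempty_EE_of_le (L U : X.Opens) (h : L ≤ U) (K : D Λ X) :
    Nonempty (EE L.ι (EE U.ι K) ≅ EE L.ι K) := by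
  have i := isIso_R_of_subset U.ι L.ι (by
    rw [Scheme.Opens.range_ι, Scheme.Opens.range_ι]
    exact h) _ (isIso_R_counit U.ι K)
  exact ⟨(E L.ι).mapIso (asIso ((R L.ι).map (ε U.ι K)))⟩

/-- **Mayer-Vietoris** for a union of `d` affine open subschemes. -/
theorem isGE_of_affine [X.IsSeparated] (K : D Λ X) (O : X.Opens) (n : ℤ)
    (H : ∀ L : X.Opens, IsAffineOpen L → L ≤ O → (Φ.obj (EE L.ι K)).IsGE n) (d : ℕ) :
    ∀ (V : Fin d → X.Opens) (_ : ∀ a, IsAffineOpen (V a)) (_ : ∀ a, V a ≤ O) (m : ℤ) (_ : m + d ≤ n + 1),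
      (Φ.obj (EE (⨆ a, V a).ι K)).IsGE m := by
  induction d with
  | zero =>
    intro V hV hVO m hm
    rw [iSup_of_empty]
    refine isGE_of_isZero _ (Φ.map_isZero (isZero_of_vanAt _ fun x => ?_)) m
    refine vanAt_E (⊥ : X.Opens).ι _ x ?_
    rw [Scheme.Opens.range_ι]
    exact fun h => h
  | succ d ih =>
    intro V hV hVO m hm
    let L : X.Opens := V (Fin.last d)
    let W : X.Opens := ⨆ a : Fin d, V a.castSucc
    have hLW : (⨆ a, V a) = L ⊔ W := by
      apply le_antisymm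
      · refine iSup_le fun a => ?_
        refine Fin.lastCases le_sup_left (fun a => ?_) a
        exact le_trans (le_iSup (fun a : Fin d => V a.castSucc) a) le_sup_right
      · exact sup_le (le_iSup V _) (iSup_le fun a => le_iSup V _)
    rw [hLW]
    have hLO : L ≤ O := hVO _
    have hI : L ⊓ W = ⨆ a : Fin d, L ⊓ V a.castSucc := inf_iSup_eq _ _
    push_cast at hm
    refine mv Φ L.ι W.ι (L ⊓ W).ι ?_ (EE (L ⊔ W).ι K) ?_ m ?_ ?_ ?_
    · rw [Scheme.Opens.range_ι, Scheme.Opens.range_ι, Scheme.Opens.range_ι,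
        TopologicalSpace.Opens.coe_inf]
    · intro y h1 h2
      rw [Scheme.Opens.range_ι] at h1 h2
      refine vanAt_E _ _ y ?_
      rw [Scheme.Opens.range_ι]
      rintro (h | h)
      · exact h1 h
      · exact h2 h
    · obtain ⟨e⟩ := nonempty_EE_of_le L (L ⊔ W) le_sup_left K
      exact isGE_of_iso (Φ.mapIso e.symm) (isGE_of_ge (by lia) (H L (hV _) hLO))
    · obtain ⟨e⟩ := nonempty_EE_of_le W (L ⊔ W) le_sup_right K
      exact isGE_of_iso (Φ.mapIso e.symm)
        (ih (fun a => V a.castSucc) (fun a => hV _) (fun a => hVO _) m (by lia))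
    · obtain ⟨e⟩ := nonempty_EE_of_le (L ⊓ W) (L ⊔ W) (inf_le_left.trans le_sup_left) K
      refine isGE_of_iso (Φ.mapIso e.symm) ?_
      rw [hI]
      exact ih (fun a => L ⊓ V a.castSucc) (fun a => (hV _).inf (hV _))
        (fun a => inf_le_left.trans hLO) (m + 1) (by lia)

end K176.MV

end
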