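import Groth.Agent.EtDepth.K176.MV
import Groth.Agent.Etdl.H424.PullPushPlus
import Groth.Agent.Sga4h.H299.ExtBC

/-!
# Direct images and restriction to opens on `D^+`
-/

set_option autoImplicit false
universe u

open CategoryTheory CategoryTheory.Limits AlgebraicGeometry Opposite Pretriangulated

noncomputable section

-- kernel speed: the same instance path on `ℤ` as in the files on complexes
attribute [-instance] ConditionallyCompletePartialOrderSup.toPartialOrder ConditionallyCompletePartialOrderInf.toPartialOrder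

namespace K176.OpenBC

attribute [local instance] HasDerivedCategory.standard

open Groth.Agent.Etdl.H424 Groth.Agent.Etdl.H860 Groth.Agent.Sga4h.ModRestr Groth.Agent.Etrest.ModAb
  Groth.Agent.Sga4h.EtaleRes
open K176.PtSupp

attribute [local instance] jCont

variable (Λ : Type (u + 1)) [CommRing Λ]

/-- `Rf_*` on `D^+`. -/
abbrev P {X Y : Scheme.{u}} (f : X ⟶ Y) : D Λ X ⥤ D Λ Y := (EtModW.push Λ f).rightDerivedFunctorPlus

/-- A sheaf as an object of `D^+`. -/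
abbrev sg {X : Scheme.{u}} (M : EtModW.Mod Λ X) : D Λ X := (DerivedCategory.Plus.singleFunctor _ 0).obj M

theorem nonempty_P_comp {X Y Z : Scheme.{u}} (f : X ⟶ Y) (g : Y ⟶ Z) :
    Nonempty (P Λ f ⋙ P Λ g ≅ P Λ (f ≫ g)) := by
  have := PullPushPlus.isIso_compMapMod Λ f g
  exact ⟨(asIso (EtSix.compMapMod Λ f g)).symm⟩

/-- Base change along an étale morphism. -/
def baseChange {V' V Y X : Scheme.{u}} (j : V ⟶ X) [Etale j] (f : Y ⟶ X) (j' : V' ⟶ Y) [Etale j']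
    (f' : V' ⟶ V) (h : IsPullback j' f' f j) : P Λ f ⋙ R j ≅ R j' ⋙ P Λ f' :=
  DP.compExact (EtModW.push Λ f) (res Λ j) _ (Iso.refl _) ≪≫
    (DP.compInj (res Λ j') (EtModW.push Λ f') _ (Groth.Agent.Sga4h.H299.ExtBC.resPush Λ j f j' f' h)).symm

/-- An exact direct image of a sheaf. -/
theorem nonempty_P_sg {X Y : Scheme.{u}} (f : X ⟶ Y) (hf : PreservesFiniteColimits (EtModW.push Λ f))
    (M : EtModW.Mod Λ X) : Nonempty ((P Λ f).obj (sg Λ M) ≅ sg Λ ((EtModW.push Λ f).obj M)) :=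
  ⟨DP.singlePlus (EtModW.push Λ f) 0 M⟩

/-- Restriction of a sheaf. -/
def R_sg {V X : Scheme.{u}} (j : V ⟶ X) [Etale j] (M : EtModW.Mod Λ X) :
    (R j).obj (sg Λ M) ≅ sg Λ ((res Λ j).obj M) := DP.singlePlus (res Λ j) 0 M

theorem nonempty_local {X W V V' A O : Scheme.{u}} (h : W ⟶ X) (v : V ⟶ X) [Etale v]
    (j : V' ⟶ W) [Etale j] (k' : V' ⟶ V) [Etale k'] (H : IsPullback j k' h v) (ι : V ⟶ A)
    (hι : ∀ {X' Y' : Scheme.{u}} (f : X' ⟶ Y') [IsClosedImmersion f], PreservesFiniteColimits (EtModW.push Λ f))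
    [IsClosedImmersion ι] (k : O ⟶ A) [Etale k] (p : V' ⟶ O) [IsClosedImmersion p]
    (H' : IsPullback k' p ι k) (F : EtModW.Mod Λ X) (M : EtModW.Mod Λ W)
    (e : (res Λ j).obj M ≅ (res Λ k').obj ((res Λ v).obj F)) :
    Nonempty ((P Λ ι).obj ((R v).obj ((P Λ h).obj (sg Λ M))) ≅
      (P Λ k).obj (sg Λ ((res Λ k).obj ((EtModW.push Λ ι).obj ((res Λ v).obj F))))) := by
  obtain ⟨c1⟩ := nonempty_P_comp Λ k' ι
  obtain ⟨c2⟩ := nonempty_P_comp Λ p k
  obtain ⟨c3⟩ := nonempty_P_sg Λ p (hι p) ((res Λ j).obj M)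
  have c4 : P Λ (k' ≫ ι) ≅ P Λ (p ≫ k) := eqToIso (by rw [H'.w])
  have c5 : (EtModW.push Λ p).obj ((res Λ k').obj ((res Λ v).obj F)) ≅
      (res Λ k).obj ((EtModW.push Λ ι).obj ((res Λ v).obj F)) :=
    (Groth.Agent.Sga4h.H299.ExtBC.resPush Λ k ι k' p H').app ((res Λ v).obj F)
  let G := (res Λ j).obj M
  have d1 : (R v).obj ((P Λ h).obj (sg Λ M)) ≅ (P Λ k').obj (sg Λ G) :=
    (baseChange Λ v h j k' H).app _ ≪≫ (P Λ k').mapIso (R_sg Λ j M)
  exact ⟨(P Λ ι).mapIso d1 ≪≫ c1.app _ ≪≫ c4.app _ ≪≫ c2.symm.app _ ≪≫ (P Λ k).mapIso (c3 ≪≫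
    (DerivedCategory.Plus.singleFunctor _ 0).mapIso ((EtModW.push Λ p).mapIso e ≪≫ c5))⟩

end K176.OpenBC

end
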