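import Groth.Agent.EtDepth.K176.FieldClass
import Groth.Agent.EtDepth.K176.Compositum
import Groth.Agent.EtDepth.K176.FlcDepth
import Groth.Agent.EtpbcB.SurjFaithful
import Groth.Agent.S3375
import Groth.Agent.S0127

/-!
# Nonvanishing of `R^n u_*` over finitely generated extensions
-/

set_option autoImplicit false
universe u
open CategoryTheory CategoryTheory.Limits AlgebraicGeometry Opposite IsLocalRing

namespace K176.PushNonzero

open Groth.Agent.Etcore.HQ Groth.Agent.Etcore.HpullCalc Groth.Agent.Etcore.LimBC1 Groth.Agent.Etcore.EtInst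
open K176.FieldClass

theorem surjective_sp (K L : Type u) [Field K] [Field L] [Algebra K L] : Surjective (sp K L) :=
  ⟨fun x => ⟨closedPoint L, @Subsingleton.elim (PrimeSpectrum K) _ _ _⟩⟩

theorem main (k K : Type u) [Field k] [Field K] [Algebra k K]
    (hfg : ∃ s : Finset K, IntermediateField.adjoin k (s : Set K) = ⊤) (n : ℕ)
    (htr : Algebra.trdeg k K = n) (ℓ : ℕ) (hℓ : ℓ.Prime) (hℓk : (ℓ : k) ≠ 0)
    (hcd : ∀ (k' K' : Type u) [Field k'] [Field K'] [Algebra k' K'] [IsSepClosed k'] (_ : (ℓ : k') ≠ 0)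
      (_ : ∃ s : Finset K', IntermediateField.adjoin k' (s : Set K') = ⊤) (_ : Algebra.trdeg k' K' = n),
      EtDepth.CohDimLLE (Spec (CommRingCat.of K')) ℓ n ∧
        ∀ d : ℕ, d < n → ¬ EtDepth.CohDimLLE (Spec (CommRingCat.of K')) ℓ d)
    (F : EtCoh.Ab (Spec (CommRingCat.of K))) (hF : EtDepth.IsLTorsion ℓ F)
    (hFc : EtPBC.IsConstructible F) (hF0 : ¬ IsZero F) :
    ∃ (L : Type u) (_ : Field L) (_ : Algebra K L) (_ : Algebra k L) (_ : IsScalarTower k K L)
      (_ : Module.Finite K L) (_ : Algebra.IsSeparable K L),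
      ¬ IsZero ((EtCoh.Rpush (sp k L) n).obj ((EtCoh.pull (sp K L)).obj F)) := by
  obtain ⟨k', K', _, _, _, _, _, _, _, _, hk', hkk', hKK', hfg', htr'⟩ :=
    K176.Compositum.exists_compositum k K hfg n htr
  have hℓk' : (ℓ : k') ≠ 0 := by
    rw [← map_natCast (algebraMap k k')]
    exact fun h => hℓk ((map_eq_zero _).1 h)
  have hℓK' : (ℓ : K') ≠ 0 := by
    rw [← map_natCast (algebraMap k' K')]
    exact fun h => hℓk' ((map_eq_zero _).1 h)
  obtain ⟨h1, h2⟩ := hcd k' K' hℓk' hfg' htr'
  have hF0' : ¬ IsZero ((EtCoh.pull (sp K K')).obj F) := by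
    intro h
    have := surjective_sp K K'
    have := Groth.Agent.EtpbcB.SurjFaithful.pull_faithful (sp K K')
    apply hF0
    rw [IsZero.iff_id_eq_zero] at h ⊢
    apply (EtCoh.pull (sp K K')).map_injective
    rw [CategoryTheory.Functor.map_id, h, Functor.map_zero]
  obtain ⟨L', _, _, hfin, hsep, hnt⟩ := Groth.Agent.S3375.result K' ℓ hℓ hℓK' _
    (K176.FlcDepth.isLTorsion_pull ℓ (sp K K') hF) (Groth.Agent.S0127.result (sp K K') F hFc) hF0' n h1 h2
  let _ : Algebra K L' := ((algebraMap K' L').comp (algebraMap K K')).toAlgebra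
  have : IsScalarTower K K' L' := IsScalarTower.of_algebraMap_eq fun _ => rfl
  let _ : Algebra k' L' := ((algebraMap K' L').comp (algebraMap k' K')).toAlgebra
  have : IsScalarTower k' K' L' := IsScalarTower.of_algebraMap_eq fun _ => rfl
  have hKL' : Algebra.IsSeparable K L' := Algebra.IsSeparable.trans K K' L'
  have hnt' : Nontrivial (HQ F (sp K L') n) := by
    have h3 : Nontrivial (HQ ((EtCoh.pull (sp K K')).obj F) (sp K' L') n) := hnt
    exact (cmp_bijective F (sp K K') (sp K' L') (sp_comp K K' L') n).1.nontrivial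
  obtain ⟨ξ, hξ⟩ := exists_ne (0 : HQ F (sp K L') n)
  obtain ⟨L, hL, ξL, hξL⟩ := exists_finite_level K L' F n ξ
  let _ : Algebra k L := ((algebraMap K L).comp (algebraMap k K)).toAlgebra
  have hkKL : IsScalarTower k K L := IsScalarTower.of_algebraMap_eq fun _ => rfl
  have hKL : Algebra.IsSeparable K L := inferInstance
  refine ⟨L, inferInstance, inferInstance, inferInstance, hkKL, hL, hKL, fun h => hξ ?_⟩
  rw [← hξL]
  refine res_eq_zero F k L k' L' ?_ (sp K L) n h (sp_comp K L L') ξL
  rw [← Spec.map_comp, ← Spec.map_comp, ← CommRingCat.ofHom_comp, ← CommRingCat.ofHom_comp]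
  congr 2
  ext x
  change algebraMap K' L' (algebraMap K K' (algebraMap k K x)) =
    algebraMap K' L' (algebraMap k' K' (algebraMap k k' x))
  rw [← IsScalarTower.algebraMap_apply k K K', ← IsScalarTower.algebraMap_apply k k' K']

end K176.PushNonzero
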