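import Groth.Agent.EtDepth.K176.RegLoc
import Groth.Agent.Etdl.H428.RegBC
import Groth.Agent.Etbc.H233.Stalk
import Groth.Agent.Etbc.H189.Final
import Groth.Agent.Sga2lef.H107.GeomLE
import Groth.Agent.Sga2lef.H107.BCOpen
import Groth.Agent.Etbc.H188.PointLemma
import Groth.Agent.Etrest.ConstBasic
import Groth.Prelude.Def_EtDepth

/-!
# Local acyclicity of regular morphisms

Regular morphisms of locally Noetherian schemes are (locally, on the spectra of the local rings) limits of smooth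
morphisms (Popescu), so that higher direct images of torsion sheaves commute with base change along them; hence
regular morphisms are universally locally acyclic for the primes invertible on the base.
-/

set_option autoImplicit false
universe u
open CategoryTheory CategoryTheory.Limits AlgebraicGeometry Opposite IsLocalRing

namespace K176.RegAcyc

open Groth.Agent.Etrest.StrictLoc Groth.Agent.Sga1.UlaSL Groth.Agent.Etdl.H428.SmLim
  Groth.Agent.Etbc.H233.Stalk Groth.Agent.Etbc.H233.Shift Groth.Agent.EtpbcB.TorsSubN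
  Groth.Agent.EtpbcB Groth.Agent.Etcore.HpullCalc Groth.Agent.Sga2lef.H107

/-- Base change for the `L`-torsion parts of injective sheaves. -/
theorem goodSq {V D V' D' : Scheme.{u}} (v : V ⟶ D) [QuasiCompact v] [QuasiSeparated v] {g : D' ⟶ D}
    (hg : IsSmLim g) (v' : V' ⟶ D') (g' : V' ⟶ V) (hsq : IsPullback g' v' v g) (L : Set ℕ) (n : ℕ)
    (hinv : ∀ m : ℕ, EtAcyc.PrimesIn L m → IsUnit (m : Γ(D, ⊤))) : GoodSq L n v g v' g' hsq.w := by
  intro J hJ
  have hT : EtAcyc.IsLTorsion L (torsN (Ord L) J) :=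
    Groth.Agent.EtpbcB.TorsEtN.torsionN_torsN (isOrd_primesIn L) J
  have hT' : EtPBC.IsTorsionInvertibleOn D (torsN (Ord L) J) := fun U s x => by
    obtain ⟨V, g, m, hv, hm, hs⟩ := hT U s x
    exact ⟨V, g, m, hv, hinv m hm, hs⟩
  refine ⟨(Groth.Agent.Etdl.H428.RegBC.baseChange_of_isSmLim hg v v' g' hsq _ hT' 0).2, fun q hq1 hq2 => ?_⟩
  obtain ⟨e⟩ := (Groth.Agent.Etdl.H428.RegBC.baseChange_of_isSmLim hg v v' g' hsq _ hT' q).1
  exact ((EtCoh.pull g).map_isZero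
    (TorsVanN.acyclic_push_torsN (isOrd_primesIn L) v J q hq1)).of_iso e.symm

/-- The geometric fibres of the strict localizations of a limit of smooth schemes. -/
theorem rng_fibre {A C : Type u} [CommRing A] [HenselianLocalRing A] [IsSepClosed (ResidueField A)]
    [CommRing C] [IsLocalRing C] {P : Scheme.{u}} {p : P ⟶ Spec (CommRingCat.of A)} (hp : IsSmLim p)
    {τ : Spec (CommRingCat.of C) ⟶ P} (hτ : IsStrictLoc τ) (β : A →+* C) [IsLocalHom β]
    (hβ : τ ≫ p = spm β) (L : Set ℕ) (n : ℕ)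
    (hinv : ∀ m : ℕ, EtAcyc.PrimesIn L m → IsUnit (m : Γ(Spec (CommRingCat.of A), ⊤)))
    {Ω : Type u} [Field Ω] (t : Spec (CommRingCat.of Ω) ⟶ Spec (CommRingCat.of A)) {Z : Scheme.{u}}
    {z₁ : Z ⟶ Spec (CommRingCat.of C)} {z₂ : Z ⟶ Spec (CommRingCat.of Ω)} (H : IsPullback z₁ z₂ (spm β) t)
    (F : EtCoh.Ab (Spec (CommRingCat.of Ω))) (hF : EtAcyc.IsLTorsion L F) : Rng z₂ F n := by
  have hV := IsPullback.of_hasPullback p t
  let V' := pullback p t
  let v' : V' ⟶ P := pullback.fst p t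
  let g' : V' ⟶ Spec (CommRingCat.of Ω) := pullback.snd p t
  have hG : GoodSq L n t p v' g' hV.flip.w := goodSq t hp v' g' hV.flip L n hinv
  let a' : Z ⟶ V' := hV.lift (z₁ ≫ τ) z₂ (by rw [Category.assoc, hβ]; exact H.w)
  have ha1 : a' ≫ v' = z₁ ≫ τ := hV.lift_fst _ _ _
  have ha2 : a' ≫ g' = z₂ := hV.lift_snd _ _ _
  have H' : IsPullback a' z₁ v' τ := by
    refine IsPullback.of_right (h₁₂ := g') (h₂₂ := p) (v₁₃ := t) ?_ ha1 hV.flip
    rw [ha2, hβ]
    exact H.flip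
  have H₀ : IsPullback (𝟙 (Spec (CommRingCat.of Ω))) t t (𝟙 (Spec (CommRingCat.of A))) :=
    IsPullback.of_horiz_isIso ⟨by simp⟩
  have h := hG.rng hV.flip.w (isStrictLoc_id A) hτ β (by rw [Category.comp_id, hβ]) H₀ H'
    (k := z₂) (by rw [Category.comp_id, ha2]) (by rw [H.w]) F hF
  exact h.of_iso ((Groth.Agent.EtpbcA.PullFLC.pullId _).app F)

theorem isLTorsion_const {L : Set ℕ} {p : ℕ} (hp : p.Prime) (hpL : p ∈ L) (X : Scheme.{u}) :
    EtAcyc.IsLTorsion L (EtCoh.const X (ZMod p)) := by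
  intro U s x
  refine ⟨U, 𝟙 U, p, ⟨x, rfl⟩, ⟨hp.pos, fun q hq hqp => ?_⟩, ?_⟩
  · rwa [(Nat.prime_dvd_prime_iff_eq hq hp).1 hqp]
  · exact Groth.Agent.Etrest.ConstBasic.killedBy_const X (ZMod p) p
      (fun a => by rw [nsmul_eq_mul, CharP.cast_eq_zero, zero_mul]) U _

theorem isUnit_of_primesIn {R : Type u} [CommRing R] {ℓ : ℕ} (h : IsUnit (ℓ : R)) (m : ℕ)
    (hm : EtAcyc.PrimesIn {ℓ} m) : IsUnit (m : R) := by
  have h1 : m = ℓ ^ m.primeFactorsList.length := by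
    by_cases hm1 : m = 1
    · subst hm1
      simp
    · obtain ⟨p, hp, hpm⟩ := Nat.exists_prime_and_dvd hm1
      have hℓ : ℓ.Prime := by
        have : p = ℓ := hm.2 p hp hpm
        exact this ▸ hp
      exact Nat.eq_prime_pow_of_unique_prime_dvd hm.1.ne' (fun {d} hd hdm => hm.2 d hd hdm)
  rw [h1, Nat.cast_pow]
  exact h.pow _

theorem isAcyclicSchemeN_fibre {A C : Type u} [CommRing A] [HenselianLocalRing A]
    [IsSepClosed (ResidueField A)] [CommRing C] [IsLocalRing C] {P : Scheme.{u}}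
    {p : P ⟶ Spec (CommRingCat.of A)} (hp : IsSmLim p)
    {τ : Spec (CommRingCat.of C) ⟶ P} (hτ : IsStrictLoc τ) (β : A →+* C) [IsLocalHom β]
    (hβ : τ ≫ p = spm β) {ℓ : ℕ} (hℓ : ℓ.Prime) (n : ℕ)
    (hinv : IsUnit (ℓ : Γ(Spec (CommRingCat.of A), ⊤)))
    {Ω : Type u} [Field Ω] [IsSepClosed Ω] (t : Spec (CommRingCat.of Ω) ⟶ Spec (CommRingCat.of A))
    {Z : Scheme.{u}} {z₁ : Z ⟶ Spec (CommRingCat.of C)} {z₂ : Z ⟶ Spec (CommRingCat.of Ω)}
    (H : IsPullback z₁ z₂ (spm β) t) : EtAcyc.IsAcyclicSchemeN {ℓ} n Z := by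
  have h1 := Groth.Agent.Etbc.H188.PointLemma.isSepClosed_residue Ω
  have h2 := Groth.Agent.S0101.result z₂
  refine GeomLE.isAcyclicSchemeN_of_bijective z₂ hℓ fun q hq => ?_
  rw [bijective_Hpull_iff]
  refine (rng_fibre hp hτ β hβ {ℓ} n (isUnit_of_primesIn hinv) t H _ ?_).1 q hq
  exact isLTorsion_const hℓ (Set.mem_singleton ℓ) _

/-- **Local acyclicity**, on the strict localizations of any base change. -/
theorem fibre_of_smLim {X Y X₁ Y₁ : Scheme.{u}} {g : X ⟶ Y} {b : Y₁ ⟶ Y} {g₁ : X₁ ⟶ Y₁} {b' : X₁ ⟶ X}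
    (H : IsPullback b' g₁ g b) (hg : ∀ x : X, IsSmLim (Spec.map (g.stalkMap x)))
    {A C : Type u} [CommRing A] [IsLocalRing A] [CommRing C] [IsLocalRing C]
    {σ : Spec (CommRingCat.of A) ⟶ Y₁} {τ : Spec (CommRingCat.of C) ⟶ X₁} (hσ : IsStrictLoc σ)
    (hτ : IsStrictLoc τ) (β : A →+* C) [IsLocalHom β] (hβ : spm β ≫ σ = τ ≫ g₁)
    {ℓ : ℕ} (hℓ : ℓ.Prime) (n : ℕ) (hinv : IsUnit (ℓ : A))
    {Ω : Type u} [Field Ω] [IsSepClosed Ω] (t : Spec (CommRingCat.of Ω) ⟶ Spec (CommRingCat.of A))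
    {Z : Scheme.{u}} {z₁ : Z ⟶ Spec (CommRingCat.of C)} {z₂ : Z ⟶ Spec (CommRingCat.of Ω)}
    (Hz : IsPullback z₁ z₂ (spm β) t) : EtAcyc.IsAcyclicSchemeN {ℓ} n Z := by
  have := hσ.henselian
  have := hσ.sepClosed
  obtain ⟨x, P, p, p', l, τ', hP, hτ', hτp⟩ := K176.RegLoc.exists_local H hσ hτ β hβ
  have hu : IsUnit (ℓ : Γ(Spec (CommRingCat.of A), ⊤)) := by
    have h1 := hinv.map (Scheme.ΓSpecIso (CommRingCat.of A)).inv.hom
    rwa [map_natCast] at h1
  exact isAcyclicSchemeN_fibre ((hg x).of_isPullback hP.flip) hτ' β hτp hℓ n hu t Hz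

/-- A regular morphism of locally Noetherian schemes. -/
theorem isSmLim_stalkMap {X Y : Scheme.{u}} [IsLocallyNoetherian X] [IsLocallyNoetherian Y] (g : X ⟶ Y)
    (hg : EtDepth.IsRegularMor g) (x : X) : IsSmLim (Spec.map (g.stalkMap x)) := by
  let := (g.stalkMap x).hom.toAlgebra
  have h := isSmLim_of_isRegularHom (R := Y.presheaf.stalk (g x)) (L := X.presheaf.stalk x) (hg x)
    (𝟙 (Spec (CommRingCat.of (Y.presheaf.stalk (g x)))))
  rwa [Category.comp_id] at h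

/-- Local acyclicity of a regular morphism, `EtDepth` version. -/
theorem isLocAcyclicLE {X Y : Scheme.{u}} [IsLocallyNoetherian X] [IsLocallyNoetherian Y] (g : X ⟶ Y)
    (hg : EtDepth.IsRegularMor g) {ℓ : ℕ} (hℓ : ℓ.Prime) (hinv : ∀ y : Y, IsUnit (ℓ : Y.presheaf.stalk y))
    (n : ℕ) : EtDepth.IsLocAcyclicLE g ℓ n := by
  intro x RS RX _ _ _ _ _ _ _ _ _ _ _ _ hc Ω _ _ _ _ q hq
  have hσ := isStrictLoc_specOf Y (g x) RS
  have hξ := isStrictLoc_specOf X x RX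
  have := hσ.henselian
  have := hξ.henselian
  have := hξ.sepClosed
  have hβ := (Groth.Agent.Etrest.VCBaseChange.specOf_comm g x RS RX (algebraMap RS RX)).1 hc
  have hZ := fibre_of_smLim (b' := 𝟙 X) (b := 𝟙 Y) (g := g) (g₁ := g)
    (IsPullback.of_horiz_isIso ⟨by simp⟩) (isSmLim_stalkMap g hg) hσ hξ
    (algebraMap RS RX) hβ hℓ n
    (by
      have h1 := (hinv (g x)).map (algebraMap (Y.presheaf.stalk (g x)) RS)
      rwa [map_natCast] at h1)
    (Spec.map (CommRingCat.ofHom (algebraMap RS Ω)))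
    (isPullback_SpecMap_of_isPushout _ _ _ _ (CommRingCat.isPushout_tensorProduct RS RX Ω))
  refine Groth.Agent.Etbc.H234.ConstDev.bijective_Hpull_constU (L := {ℓ}) (N := n) _ hZ
    (Groth.Agent.Etbc.H234.ConstDev.isAcyclicSchemeN_strictHens RX {ℓ} n) (ULift.{u + 1} (ZMod ℓ))
    (fun a => ⟨ℓ, ⟨hℓ.pos, fun q hq hqp => ?_⟩, ?_⟩) q hq
  · exact (Nat.prime_dvd_prime_iff_eq hq hℓ).1 hqp
  · apply ULift.ext
    change ℓ • a.down = 0
    rw [nsmul_eq_mul, CharP.cast_eq_zero, zero_mul]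

end K176.RegAcyc
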