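import Groth.Agent.EtDepth.K176.DepthDown
import Groth.Agent.EtDepth.K176.RegAcyc
import Groth.Agent.Sga2lef.H101.StrictPurity
import Groth.Agent.Pi1.H395.RegClass
import Groth.Agent.Flat2D.FiberStalk
import Mathlib.Algebra.Field.ULift

/-!
# Étale depth along regular morphisms in characteristic zero
-/

set_option autoImplicit false
universe u
open CategoryTheory CategoryTheory.Limits AlgebraicGeometry Opposite IsLocalRing TopologicalSpace

namespace K176.RegDepth

/-- The local rings of the fibres of a regular morphism are regular. -/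
theorem isRegularLocalRing_fiberStalk {X S : Scheme.{u}} [IsLocallyNoetherian X] (f : X ⟶ S)
    (hf : EtDepth.IsRegularMor f) (x : X) : IsRegularLocalRing ↑(CInt.fiberStalk f x) := by
  let _ : Algebra (S.presheaf.stalk (f.base x)) (X.presheaf.stalk x) := (f.stalkMap x).hom.toAlgebra
  have hloc : IsLocalHom (algebraMap (S.presheaf.stalk (f.base x)) (X.presheaf.stalk x)) :=
    inferInstanceAs (IsLocalHom (f.stalkMap x).hom)
  have hreg : CAlg.IsRegularHom (S.presheaf.stalk (f.base x)) (X.presheaf.stalk x) := hf x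
  have h1 := Groth.Agent.Pi1.H395.RegClass.isRegularLocalRing_fibRing _ _ hreg
  obtain ⟨e⟩ := Groth.Agent.Flat2D.FiberStalk.nonempty_asFiber_stalkEquiv' f x
  exact IsRegularLocalRing.of_ringEquiv e

theorem main {k : Type u} [Field k] [CharZero k] {X S : Scheme.{u}} [IsLocallyNoetherian X]
    [IsLocallyNoetherian S] (qS : S ⟶ Spec (CommRingCat.of k)) (f : X ⟶ S)
    (hf : EtDepth.IsRegularMor f) (ℓ : ℕ) (hℓ : ℓ.Prime) (F : EtCoh.Ab S) (hF : EtDepth.IsLTorsion ℓ F)
    (x : X) (d : ℕ) (hd : ringKrullDim ↑(CInt.fiberStalk f x) = (d : WithBot ℕ∞)) (p : ℕ) :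
    EtDepth.DepthAtGE X ((EtCoh.pull f).obj F) x (p + 2 * d) ↔ EtDepth.DepthAtGE S F (f.base x) p := by
  have hreg : IsRegularLocalRing ((f.fiber (f.base x)).presheaf.stalk (f.asFiber x)) :=
    isRegularLocalRing_fiberStalk f hf x
  have hdepth := Groth.Agent.Sga2lef.H101.StrictPurity.depthAtGE k (f.fiberι (f.base x) ≫ f ≫ qS)
    (f.asFiber x) hd hℓ.ne_zero (2 * d) le_rfl
  have hnd := Groth.Agent.Sga2lef.H101.StrictPurity.not_depthAtGE k (f.fiberι (f.base x) ≫ f ≫ qS)
    (f.asFiber x) hd hℓ.ne_zero hℓ.ne_one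
  have hinv : ∀ y : S, IsUnit (ℓ : S.presheaf.stalk y) := fun y => by
    have h1 : IsUnit (ℓ : k) := (Nat.cast_ne_zero.2 hℓ.ne_zero : (ℓ : k) ≠ 0).isUnit
    have h2 := h1.map (Groth.Agent.Sga2lef.H101.StrictPurity.toStalk k qS y)
    rwa [map_natCast] at h2
  have hac : ∀ m, EtDepth.IsLocAcyclicLE f ℓ m := fun m =>
    K176.RegAcyc.isLocAcyclicLE f hf hℓ hinv m
  constructor
  · exact K176.DepthDown.depthAtGE_down f x inferInstance ℓ hℓ p (2 * d) F hF hac hdepth hnd
  · intro h
    have h1 := K176.DepthAdd.depthAtGE f x inferInstance ℓ hℓ (p + 2 * d) p (2 * d) F hF (hac _) h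
      (fun x' hx' => by
        have h2 : x' = f.asFiber x := by
          apply (f.fiberι (f.base x)).injective
          exact hx'.trans (f.fiberι_asFiber x).symm
        subst h2
        exact hdepth)
    have h2 : min (p + 2 * d) (p + 2 * d + 2) = p + 2 * d := by omega
    rw [h2] at h1
    exact h1

end K176.RegDepth
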