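import Groth.Agent.Sga1.UlaSL
import Groth.Agent.Sga1.UlaLoc
import Groth.Agent.S0754

/-!
# Strict localizations of a base change of a morphism, through the local rings of the morphism
-/

set_option autoImplicit false
universe u
open CategoryTheory CategoryTheory.Limits AlgebraicGeometry Opposite IsLocalRing

namespace K176.RegLoc

open Groth.Agent.Etrest.StrictLoc Groth.Agent.Sga1.UlaSL

theorem exists_lift {Y : Scheme.{u}} {A : Type u} [CommRing A] [IsLocalRing A]
    (f : Spec (CommRingCat.of A) ⟶ Y) (y : Y) (hy : f (closedPoint A) = y) :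
    ∃ l : Spec (CommRingCat.of A) ⟶ Spec (Y.presheaf.stalk y), l ≫ Y.fromSpecStalk y = f := by
  subst hy
  exact ⟨Spec.map (Scheme.stalkClosedPointTo f), Scheme.Spec_stalkClosedPointTo_fromSpecStalk f⟩

/-- A fibre product over a monomorphism. -/
theorem isPullback_comp_mono {P T A R Y : Scheme.{u}} {p : P ⟶ T} {q : P ⟶ A} {f : T ⟶ R} {l : A ⟶ R}
    (H : IsPullback p q f l) (i : R ⟶ Y) [Mono i] : IsPullback p q (f ≫ i) (l ≫ i) :=
  ⟨⟨by rw [← Category.assoc, H.w, Category.assoc]⟩,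
    ⟨PullbackCone.isLimitOfCompMono f l i _ H.isLimit⟩⟩

/-- Let `g₁ : X₁ ⟶ Y₁` be the base change of `g : X ⟶ Y` along `b : Y₁ ⟶ Y`. The strict localizations of `g₁`
are strict localizations of base changes of the morphisms of spectra of local rings of `g`. -/
theorem exists_local {X Y X₁ Y₁ : Scheme.{u}} {g : X ⟶ Y} {b : Y₁ ⟶ Y} {g₁ : X₁ ⟶ Y₁} {b' : X₁ ⟶ X}
    (H : IsPullback b' g₁ g b) {A C : Type u} [CommRing A] [IsLocalRing A] [CommRing C] [IsLocalRing C]
    {σ : Spec (CommRingCat.of A) ⟶ Y₁} {τ : Spec (CommRingCat.of C) ⟶ X₁} (hσ : IsStrictLoc σ)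
    (hτ : IsStrictLoc τ) (β : A →+* C) [IsLocalHom β] (hβ : spm β ≫ σ = τ ≫ g₁) :
    ∃ (x : X) (P : Scheme.{u}) (p : P ⟶ Spec (CommRingCat.of A)) (p' : P ⟶ Spec (X.presheaf.stalk x))
      (l : Spec (CommRingCat.of A) ⟶ Spec (Y.presheaf.stalk (g x))) (τ' : Spec (CommRingCat.of C) ⟶ P),
      IsPullback p' p (Spec.map (g.stalkMap x)) l ∧ IsStrictLoc τ' ∧ τ' ≫ p = spm β := by
  let x : X := (τ ≫ b') (closedPoint C)
  have hx : (σ ≫ b) (closedPoint A) = g x := by
    have h1 : (spm β ≫ σ ≫ b) (closedPoint C) = (τ ≫ b' ≫ g) (closedPoint C) := by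
      rw [← Category.assoc, hβ, Category.assoc, H.w]
    rw [Scheme.Hom.comp_apply] at h1
    have h2 : (spm β) (closedPoint C) = closedPoint A := closedPoint_map β
    rw [h2] at h1
    exact h1
  obtain ⟨l, hl⟩ := exists_lift (σ ≫ b) (g x) hx
  obtain ⟨m, hm⟩ := exists_lift (τ ≫ b') x rfl
  have hs : Spec.map (g.stalkMap x) ≫ Y.fromSpecStalk (g x) = X.fromSpecStalk x ≫ g :=
    Scheme.SpecMap_stalkMap_fromSpecStalk g
  have hP := IsPullback.of_hasPullback (Spec.map (g.stalkMap x)) l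
  let P := pullback (Spec.map (g.stalkMap x)) l
  have hcomm : m ≫ Spec.map (g.stalkMap x) = spm β ≫ l := by
    rw [← cancel_mono (Y.fromSpecStalk (g x)), Category.assoc, hs, ← Category.assoc, hm, Category.assoc,
      Category.assoc, hl, ← Category.assoc (spm β), hβ, Category.assoc, H.w]
  let τ' : Spec (CommRingCat.of C) ⟶ P := pullback.lift m (spm β) hcomm
  -- the big square over `Y`
  have h1 : IsPullback (pullback.fst (Spec.map (g.stalkMap x)) l) (pullback.snd (Spec.map (g.stalkMap x)) l)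
      (X.fromSpecStalk x ≫ g) (σ ≫ b) := by
    have := isPullback_comp_mono hP (Y.fromSpecStalk (g x))
    rwa [hs, hl] at this
  have hW := IsPullback.of_hasPullback (X.fromSpecStalk x ≫ g) b
  let W := pullback (X.fromSpecStalk x ≫ g) b
  let w₁ : W ⟶ Spec (X.presheaf.stalk x) := pullback.fst (X.fromSpecStalk x ≫ g) b
  let w₂ : W ⟶ Y₁ := pullback.snd (X.fromSpecStalk x ≫ g) b
  let c : P ⟶ W := hW.lift (pullback.fst _ _) (pullback.snd _ _ ≫ σ) (by rw [h1.w, Category.assoc])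
  have hc1 : c ≫ w₁ = pullback.fst _ _ := hW.lift_fst _ _ _
  have hc2 : c ≫ w₂ = pullback.snd _ _ ≫ σ := hW.lift_snd _ _ _
  have h2 : IsPullback c (pullback.snd (Spec.map (g.stalkMap x)) l) w₂ σ := by
    refine IsPullback.of_right (h₁₂ := w₁) (h₂₂ := b) (v₁₃ := X.fromSpecStalk x ≫ g) ?_ hc2 hW
    rw [hc1]
    exact h1
  let d : W ⟶ X₁ := H.lift (w₁ ≫ X.fromSpecStalk x) w₂ (by rw [Category.assoc]; exact hW.w)
  have hd1 : d ≫ b' = w₁ ≫ X.fromSpecStalk x := H.lift_fst _ _ _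
  have hd2 : d ≫ g₁ = w₂ := H.lift_snd _ _ _
  have h3 : IsPullback w₁ d (X.fromSpecStalk x) b' := by
    refine IsPullback.of_bot (v₂₁ := g₁) (v₂₂ := g) (h₃₁ := b) ?_ hd1.symm H
    rw [hd2]
    exact hW
  have hwσ : WeaklyEtale σ := weaklyEtale_of_isStrictLoc hσ
  have hwx : WeaklyEtale (X.fromSpecStalk x) := Groth.Agent.S0754.weaklyEtale_fromSpecStalk X x
  have hwc : WeaklyEtale c := MorphismProperty.of_isPullback h2.flip hwσ
  have hwd : WeaklyEtale d := MorphismProperty.of_isPullback h3 hwx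
  have hτ' : τ' ≫ c ≫ d = τ := by
    apply H.hom_ext
    · rw [Category.assoc, Category.assoc, hd1, ← Category.assoc c, hc1, ← Category.assoc,
        pullback.lift_fst, hm]
    · rw [Category.assoc, Category.assoc, hd2, hc2, ← Category.assoc, pullback.lift_snd, hβ]
  refine ⟨x, P, pullback.snd _ _, pullback.fst _ _, l, τ', hP, ?_, pullback.lift_snd _ _ _⟩
  refine IsStrictLoc.of_comp (c ≫ d) ?_
  rw [hτ']
  exact hτ

end K176.RegLoc
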