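import Groth.Agent.S3364

/-!
# Étale depth along an open immersion in terms of the restriction maps `HQ.res`

* `depthGE_iff_res`: `DepthGE j F n` iff for every étale `g : X' ⟶ X` the maps `res F (pullback.snd j g)` are bijective in
  degrees `p + 1 < n` and injective for `p + 1 = n`;
* `res_of_depthGE`: the same for any open immersion `r : U' ⟶ X'` with image the preimage of the image of `j`;
* `depthGE_mono`: monotonicity in the open subscheme.
-/

set_option autoImplicit false
universe u
open CategoryTheory CategoryTheory.Limits AlgebraicGeometry Opposite Abelian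
open scoped Groth.Agent.Etcore.EtInst
open Groth.Agent.Etcore.EtInst

namespace K176.ResDepth

open Groth.Agent.Etcore Groth.Agent.Etcore.HQ Groth.Agent.Etcore.HpullCalc Groth.Agent.Etcore.PullCoh

attribute [local instance] pfl

section Res

variable {X Z Z' : Scheme.{u}} (F : EtCoh.Ab X) {q : Z ⟶ X} {q' : Z' ⟶ X}

theorem res_coe (k : Z' ⟶ Z) (h : k ≫ q = q') (n : ℕ) :
    ⇑(res F k h n) = ⇑(HHmap (PullCoh.th k q q' h F) n) ∘
      ⇑(HpullCalc.hp k ((EtCoh.pull q).obj F) n) := rfl

theorem res_bijective_iff (k : Z' ⟶ Z) (h : k ≫ q = q') (n : ℕ) :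
    Function.Bijective (res F k h n) ↔
      Function.Bijective (HpullCalc.hp k ((EtCoh.pull q).obj F) n) := by
  have h0 : IsIso (PullCoh.th k q q' h F) := inferInstance
  have h1 : Function.Bijective (HHmap (PullCoh.th k q q' h F) n) := HHmap_bijective _ n
  rw [res_coe]
  exact Function.Bijective.of_comp_iff' h1 _

theorem res_injective_iff (k : Z' ⟶ Z) (h : k ≫ q = q') (n : ℕ) :
    Function.Injective (res F k h n) ↔
      Function.Injective (HpullCalc.hp k ((EtCoh.pull q).obj F) n) := by
  have h0 : IsIso (PullCoh.th k q q' h F) := inferInstance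
  have h1 : Function.Bijective (HHmap (PullCoh.th k q q' h F) n) := HHmap_bijective _ n
  rw [res_coe]
  exact Function.Injective.of_comp_iff h1.1 _

theorem res_surjective_iff (k : Z' ⟶ Z) (h : k ≫ q = q') (n : ℕ) :
    Function.Surjective (res F k h n) ↔
      Function.Surjective (HpullCalc.hp k ((EtCoh.pull q).obj F) n) := by
  have h0 : IsIso (PullCoh.th k q q' h F) := inferInstance
  have h1 : Function.Bijective (HHmap (PullCoh.th k q q' h F) n) := HHmap_bijective _ n
  rw [res_coe]
  exact Function.Surjective.of_comp_iff' h1 _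

end Res

variable {X U : Scheme.{u}} (j : U ⟶ X) [IsOpenImmersion j] (F : EtCoh.Ab X)

theorem res_of_depthGE [EtCoh.BCCont j] {n : ℕ} (h : EtDepth.DepthGE j F n) {X' U' : Scheme.{u}} (g : X' ⟶ X)
    [Etale g] (r : U' ⟶ X') [IsOpenImmersion r] (hr : Set.range r = g ⁻¹' Set.range j)
    {q' : U' ⟶ X} (w : r ≫ g = q') :
    (∀ p : ℕ, p + 1 < n → Function.Bijective (res F r w p)) ∧
      (∀ p : ℕ, p + 1 = n → Function.Injective (res F r w p)) := by
  have hr2 : Set.range r = Set.range (pullback.snd j g) := by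
    rw [hr, IsOpenImmersion.range_pullbackSnd]
    rfl
  let e : U' ≅ pullback j g := IsOpenImmersion.isoOfRangeEq r (pullback.snd j g) hr2
  have he : e.hom ≫ pullback.snd j g = r := IsOpenImmersion.isoOfRangeEq_hom_fac _ _ _
  have h1 := (Groth.Agent.S3364.result j F n).1 h X' g
  have key : ∀ p : ℕ, ⇑(res F r w p) = ⇑(res F e.hom (by rw [← w, ← he, Category.assoc] : e.hom ≫
      (pullback.snd j g ≫ g) = q') p) ∘ ⇑(res F (pullback.snd j g) rfl p) := fun p => funext fun x =>
    (res_res F (pullback.snd j g) rfl e.hom _ r he w p x).symm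
  have hb : ∀ p, Function.Bijective (res F e.hom (by rw [← w, ← he, Category.assoc] : e.hom ≫
      (pullback.snd j g ≫ g) = q') p) := fun p => LimBC1.res_bijective F e.hom _ p
  refine ⟨fun p hp => ?_, fun p hp => ?_⟩
  · rw [key]
    exact (hb p).comp ((res_bijective_iff F (pullback.snd j g) rfl p).2 (h1.1 p hp))
  · rw [key]
    exact (hb p).1.comp ((res_injective_iff F (pullback.snd j g) rfl p).2 (h1.2 p hp))

theorem depthGE_of_res [EtCoh.BCCont j] {n : ℕ} (h : ∀ (X' : Scheme.{u}) (g : X' ⟶ X) [Etale g],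
    (∀ p : ℕ, p + 1 < n → Function.Bijective (res F (pullback.snd j g) (rfl : _ = pullback.snd j g ≫ g) p)) ∧
      (∀ p : ℕ, p + 1 = n → Function.Injective (res F (pullback.snd j g) (rfl : _ = pullback.snd j g ≫ g) p))) :
    EtDepth.DepthGE j F n := by
  refine (Groth.Agent.S3364.result j F n).2 fun X' g _ _ => ⟨fun p hp => ?_, fun p hp => ?_⟩
  · exact (res_bijective_iff F (pullback.snd j g) rfl p).1 ((h X' g).1 p hp)
  · exact (res_injective_iff F (pullback.snd j g) rfl p).1 ((h X' g).2 p hp)

theorem depthGE_mono {V : Scheme.{u}} (k : V ⟶ X) [IsOpenImmersion k] [EtCoh.BCCont j] [EtCoh.BCCont k]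
    (hUV : Set.range j ⊆ Set.range k) {n : ℕ} (h : EtDepth.DepthGE j F n) : EtDepth.DepthGE k F n := by
  refine depthGE_of_res k F fun X' g _ => ?_
  -- `U' ⟶ V' ⟶ X'`
  let V' := pullback k g
  let b : V' ⟶ X' := pullback.snd k g
  let a : pullback j g ⟶ X' := pullback.snd j g
  have hb : Set.range b = g ⁻¹' Set.range k := IsOpenImmersion.range_pullbackSnd _ _
  have ha : Set.range a = g ⁻¹' Set.range j := IsOpenImmersion.range_pullbackSnd _ _
  have hab : Set.range a ⊆ Set.range b := by
    rw [ha, hb]; exact Set.preimage_mono hUV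
  let l : pullback j g ⟶ V' := IsOpenImmersion.lift b a hab
  have hl : l ≫ b = a := IsOpenImmersion.lift_fac b a hab
  have : IsOpenImmersion l := by
    have : IsOpenImmersion (l ≫ b) := by rw [hl]; infer_instance
    exact IsOpenImmersion.of_comp l b
  have hlr : Set.range l = (b ≫ g) ⁻¹' Set.range j := by
    ext x
    constructor
    · rintro ⟨y, rfl⟩
      have : g (b (l y)) = g (a y) := by rw [← hl]; rfl
      have h2 : a y ∈ g ⁻¹' Set.range j := ha ▸ ⟨y, rfl⟩
      have h3 : g (a y) ∈ Set.range j := h2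
      rw [← this] at h3
      exact h3
    · intro hx
      have h1 : b x ∈ g ⁻¹' Set.range j := hx
      rw [← ha] at h1
      obtain ⟨y, hy⟩ := h1
      refine ⟨y, ?_⟩
      apply b.isOpenEmbedding.injective
      rw [← hy, ← hl]
      rfl
  have h1 := res_of_depthGE j F h g a ha (rfl : a ≫ g = a ≫ g)
  have h2 := res_of_depthGE j F h (b ≫ g) l hlr (by rw [← Category.assoc, hl] : l ≫ b ≫ g = a ≫ g)
  have key : ∀ p : ℕ, ⇑(res F a (rfl : a ≫ g = a ≫ g) p) =
      ⇑(res F l (by rw [← Category.assoc, hl] : l ≫ b ≫ g = a ≫ g) p) ∘ ⇑(res F b (rfl : b ≫ g = b ≫ g) p) :=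
    fun p => funext fun x => (res_res F b rfl l _ a hl rfl p x).symm
  refine ⟨fun p hp => ?_, fun p hp => ?_⟩
  · have e1 := h1.1 p hp
    rw [key] at e1
    exact (Function.Bijective.of_comp_iff' (h2.1 p hp) _).1 e1
  · have e1 := h1.2 p hp
    rw [key] at e1
    exact Function.Injective.of_comp e1

end K176.ResDepth
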