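import Groth.Agent.EtDepth.K176.DHom
import Groth.Agent.EtDepth.K176.OpenBC
import Groth.Agent.Sga2lef.H134.DualOpen
import Groth.Agent.Sga4h.BidGlobFin
import Groth.Agent.Sga4h.ModPointCons
import Groth.Agent.Sga4h.TensorUnit

/-!
# Vanishing of cohomology with compact support of `Rκ_* κ^* F`, by duality

`P` over an algebraically closed field `k` with Poincaré duality, `A ⊆ P` and `κ : O ⟶ A` open; `F` a sheaf on `A`
with `F` and `κ_! κ^* D F` reflexive. If `H^r(A, κ_! κ^* D F) = 0` for `r > 2N - n`, then `H^i_c(A, Rκ_* κ^* F) = 0`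
for `i < n`.
-/

set_option autoImplicit false
universe u

open CategoryTheory CategoryTheory.Limits AlgebraicGeometry Opposite Pretriangulated

noncomputable section

-- kernel speed: the same instance path on `ℤ` as in the files on complexes
attribute [-instance] ConditionallyCompletePartialOrderSup.toPartialOrder ConditionallyCompletePartialOrderInf.toPartialOrder

namespace K176.ThmC

attribute [local instance] HasDerivedCategory.standard

open Groth.Agent.Etdl.H424 Groth.Agent.Etdl.H860 Groth.Agent.Sga4h.ModRestr Groth.Agent.Etrest.ModAb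
  Groth.Agent.Sga4h.EtaleRes Groth.Agent
open K176.PtSupp K176.OpenBC

attribute [local instance] jCont

variable {Λ : Type (u + 1)} [CommRing Λ]

/-- Over an algebraically closed field, `K` is `≥ n` if it receives no maps from `Λ[-i]`, `i < n`. -/
theorem isGE_of_hom {k : Type u} [Field k] [IsAlgClosed k]
    (K : DerivedCategory (EtModW.Mod Λ (Spec (CommRingCat.of k)))) (a n : ℤ) (ha : K.IsGE a)
    (h0 : ∀ i < n, ∀ f : (DerivedCategory.singleFunctor _ i).obj (EtModW.constMod Λ (Spec (CommRingCat.of k)) Λ) ⟶ K,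
      f = 0) : K.IsGE n := by
  have key : ∀ m : ℕ, a + m ≤ n → K.IsGE (a + m) := by
    intro m
    induction m with
    | zero =>
      intro _
      simpa using ha
    | succ m ih =>
      intro hm
      push_cast at hm
      have h1 := ih (by lia)
      have h2 : IsZero ((DerivedCategory.homologyFunctor _ (a + m)).obj K) := by
        refine Sga4h.BidGlobSky.isZero_of_closed_points (𝟙 (Spec (CommRingCat.of k))) (fun x hx => ?_)
          (Sga4h.BidGlobFin.isZero_sections _ (fun φ => Sga4h.BidGlobFin.eq_zero_of_isGE _ K (a + m)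
            (h0 _ (by lia)) φ))
        exact absurd (isClosed_discrete _) hx
      rw [DerivedCategory.isGE_iff]
      intro j hj
      by_cases hj' : j < a + m
      · exact K.isZero_of_isGE (a + m) j hj'
      · obtain rfl : j = a + m := by push_cast at hj; lia
        exact h2
  rcases le_or_gt a n with h | h
  · have h1 := key (n - a).toNat (by rw [Int.toNat_of_nonneg (by lia)]; lia)
    rwa [Int.toNat_of_nonneg (by lia), add_sub_cancel] at h1
  · exact DerivedCategory.TStructure.t.isGE_of_ge K n a h.le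

/-- The direct image to `Spec k`. -/
theorem isGE_push {k : Type u} [Field k] [IsAlgClosed k] {P : Scheme.{u}} (b : P ⟶ Spec (CommRingCat.of k))
    (Y : D Λ P) (n : ℤ)
    (h : ∀ i < n, ∀ f : (DerivedCategory.singleFunctor _ 0).obj (EtModW.constMod Λ P Λ) ⟶
      (DerivedCategory.Plus.ι.obj Y)⟦i⟧, f = 0) : ((OpenBC.P Λ b).obj Y).IsGE n := by
  obtain ⟨a, ha⟩ := ((OpenBC.P Λ b).obj Y).property
  rw [← DerivedCategory.Plus.isGE_ι_obj_iff]
  refine isGE_of_hom _ a n ⟨ha.1⟩ fun i hi f => ?_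
  let Z := EtModW.constMod Λ (Spec (CommRingCat.of k)) Λ
  let f' : (DerivedCategory.Plus.singleFunctor _ i).obj Z ⟶ (OpenBC.P Λ b).obj Y :=
    DerivedCategory.Plus.ι.preimage (X := (DerivedCategory.Plus.singleFunctor _ i).obj Z) f
  suffices hf' : f' = 0 by
    have h1 : DerivedCategory.Plus.ι.map f' = f := DerivedCategory.Plus.ι.map_preimage _
    rw [← h1, hf']
    exact Functor.map_zero _ _ _
  apply ((PullPushPlus.adj Λ b).homEquiv _ _).symm.injective
  have h2 : ∀ g : (EtModW.pull Λ b).rightDerivedFunctorPlus.obj ((DerivedCategory.Plus.singleFunctor _ i).obj Z) ⟶ Y,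
      g = 0 := by
    intro g
    have hfc : PreservesFiniteColimits (EtModW.pull Λ b) := DP.preservesFiniteColimits_left (Groth.Agent.Etrest.ModAb.pullPushAdj Λ b)
    let e1 : (EtModW.pull Λ b).rightDerivedFunctorPlus.obj ((DerivedCategory.Plus.singleFunctor _ i).obj Z) ≅
      (DerivedCategory.Plus.singleFunctor _ i).obj (EtModW.constMod Λ P Λ) :=
      DP.singlePlus (EtModW.pull Λ b) i Z ≪≫ (DerivedCategory.Plus.singleFunctor _ i).mapIso
        (Sga4h.ModPoint.pullConst Λ b (ModuleCat.of Λ Λ))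
    let g' : (DerivedCategory.singleFunctor _ i).obj (EtModW.constMod Λ P Λ) ⟶ DerivedCategory.Plus.ι.obj Y :=
      DerivedCategory.Plus.ι.map (e1.inv ≫ g)
    let e2 : ((DerivedCategory.singleFunctor _ i).obj (EtModW.constMod Λ P Λ))⟦i⟧ ≅
        (DerivedCategory.singleFunctor _ 0).obj (EtModW.constMod Λ P Λ) :=
      ((DerivedCategory.singleFunctors _).shiftIso i 0 i (by lia)).app _
    have h3 := h i hi (e2.inv ≫ g'⟦i⟧')
    have h4 : g'⟦i⟧' = 0 := (Preadditive.IsIso.comp_left_eq_zero e2.inv _).1 h3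
    have h5 : g' = 0 := by
      apply (shiftFunctor (DerivedCategory (EtModW.Mod Λ P)) i).map_injective
      rw [h4, Functor.map_zero]
    have h6 : e1.inv ≫ g = 0 := by
      apply DerivedCategory.Plus.ι.map_injective
      rw [Functor.map_zero]
      exact h5
    exact (Preadditive.IsIso.comp_left_eq_zero e1.inv _).1 h6
  exact (h2 _).trans (h2 _).symm

section Main

attribute [local instance 5000] CategoryTheory.Abelian.toPreadditive
  CategoryTheory.Preadditive.preadditiveHasZeroMorphisms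
open scoped Groth.Agent.Sga4h.ModInst
open Groth.Agent.Sga4h.BidRed538Main Groth.Agent.Sga4h.BidGlobDual

theorem acyc {O A : Scheme.{u}} (κ : O ⟶ A) [Etale κ] (K : CochainComplex (EtModW.Mod Λ A) ℤ)
    (hK : DLoc.Van (res Λ κ) K) :
    (((Sga4h.BidEtSh.resM Λ κ).mapHomologicalComplex (ComplexShape.up ℤ)).obj K).Acyclic := by
  intro i
  rw [HomologicalComplex.exactAt_iff_isZero_homology]
  exact (hK i).of_iso ((K.sc i).mapHomologyIso (Sga4h.BidEtSh.resM Λ κ))

theorem van_D' {O A : Scheme.{u}} (κ : O ⟶ A) [Etale κ] (K : CochainComplex (EtModW.Mod Λ A) ℤ)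
    (hK : (((Sga4h.BidEtSh.resM Λ κ).mapHomologicalComplex (ComplexShape.up ℤ)).obj K).Acyclic) (q : ℤ) :
    IsZero ((Sga4h.BidEtSh.resM Λ κ).obj (((stdDual Λ A).D K).homology q)) := by
  obtain ⟨e⟩ := Sga2lef.H134.DualOpen.nonempty_res_D (Λ := Λ) κ K q
  refine IsZero.of_iso ?_ e
  exact (HomologicalComplex.exactAt_iff_isZero_homology _ _).1 ((stdDual Λ O).acyclic_D hK q)

/-- `κ^* D` only depends on `κ^*`. -/
theorem van_D {O A : Scheme.{u}} (κ : O ⟶ A) [Etale κ] (K : CochainComplex (EtModW.Mod Λ A) ℤ)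
    (hK : DLoc.Van (res Λ κ) K) : DLoc.Van (res Λ κ) ((stdDual Λ A).D K) :=
  fun q => van_D' κ K (acyc κ K hK) q

/-- **Vanishing of `H^i_c(A, Rκ_* κ^* F)`, abstract form.** -/
theorem main {k : Type u} [Field k] [IsAlgClosed k] {P A O : Scheme.{u}} (b : P ⟶ Spec (CommRingCat.of k))
    (jA : A ⟶ P) [IsOpenImmersion jA] (κ : O ⟶ A) [IsOpenImmersion κ] {m : ℕ} (hm : m ≠ 0) {N : ℕ}
    {tr : CategoryTheory.Abelian.Ext.{u + 1} (EtModW.constMod Λ P Λ) (EtModW.constMod Λ P Λ) N →+ ZMod m}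
    (B : SheafDual m tr) (n : ℤ) (F : EtModW.Mod Λ A)
    (hF : (stdDual Λ A).Refl ((CochainComplex.singleFunctor _ 0).obj F))
    (hE : (stdDual Λ A).Refl (DLoc.ER (ext Λ κ) (res Λ κ) ((stdDual Λ A).D ((CochainComplex.singleFunctor _ 0).obj F)))) (a' b' : ℤ)
    (ha : (DerivedCategory.Q.obj ((stdDual Λ A).D (DLoc.ER (ext Λ κ) (res Λ κ) ((stdDual Λ A).D ((CochainComplex.singleFunctor _ 0).obj F))))).IsGE a')
    (hb : (DerivedCategory.Q.obj ((stdDual Λ A).D (DLoc.ER (ext Λ κ) (res Λ κ) ((stdDual Λ A).D ((CochainComplex.singleFunctor _ 0).obj F))))).IsLE b')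
    (hvan : ∀ r : ℤ, N - n < r → Subsingleton ((DerivedCategory.singleFunctor _ 0).obj (EtModW.constMod Λ A Λ) ⟶
      (DerivedCategory.Q.obj (DLoc.ER (ext Λ κ) (res Λ κ) ((stdDual Λ A).D ((CochainComplex.singleFunctor _ 0).obj F))))⟦r⟧)) :
    ((OpenBC.P Λ b).obj ((E jA).obj ((OpenBC.P Λ κ).obj (sg Λ ((res Λ κ).obj F))))).IsGE n := by
  have hL : (DerivedCategory.TStructure.t.plus) (DerivedCategory.Q.obj ((stdDual Λ A).D (DLoc.ER (ext Λ κ) (res Λ κ) ((stdDual Λ A).D ((CochainComplex.singleFunctor _ 0).obj F))))) := ⟨a', ha⟩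
  have hu : ∀ X, IsIso ((extResAdj Λ κ).unit.app X) := fun X => inferInstance
  obtain ⟨e⟩ := DLoc.nonempty_iso (stdDual Λ A) (extResAdj Λ κ) (resPushAdj Λ κ) (van_D κ) hu F hF hL
  refine MV.isGE_of_iso ((OpenBC.P Λ b).mapIso ((E jA).mapIso e)) ?_
  refine isGE_push b _ n fun i hi f => ?_
  let X : DerivedCategory (EtModW.Mod Λ P) :=
    (ext Λ jA).mapDerivedCategory.obj (DerivedCategory.Q.obj ((stdDual Λ A).D (DLoc.ER (ext Λ κ) (res Λ κ) ((stdDual Λ A).D ((CochainComplex.singleFunctor _ 0).obj F)))))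
  let e2 : DerivedCategory.Plus.ι.obj ((E jA).obj (⟨_, hL⟩ : D Λ A)) ≅ X := (K417.FF.plusIso (ext Λ jA)).app _
  have hXa : X.IsGE a' := Dcoh.MapDer.isGE_map (ext Λ jA) a' _
  have hXb : X.IsLE b' := Dcoh.MapDer.isLE_map (ext Λ jA) b' _
  have h1 : Subsingleton (DerivedCategory.Q.obj ((stdDual Λ A).D (DLoc.ER (ext Λ κ) (res Λ κ) ((stdDual Λ A).D ((CochainComplex.singleFunctor _ 0).obj F)))) ⟶
      ((DerivedCategory.singleFunctor _ 0).obj (EtModW.constMod Λ A Λ))⟦(N : ℤ) - i⟧) :=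
    DHom.subsingleton_hom_D (stdDual Λ A) (Sga4h.TensorUnit.tensorUnitRight Λ A) (stdι Λ A)
      (quasiIso_stdι Λ A) _ hE _ (hvan _ (by lia))
  have h2 := DHom.subsingleton_hom_E (extResAdj Λ jA) _ (EtModW.constMod Λ P Λ) (EtModW.constMod Λ A Λ)
    (resConst Λ jA Λ) _ h1
  have h3 := DHom.eq_zero_of_perf hm B X a' b' i h2 (f ≫ e2.hom⟦i⟧')
  exact (Preadditive.IsIso.comp_right_eq_zero f _).1 h3

end Main

end K176.ThmC

end
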