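import Groth.Agent.EtDepth.K176.ThmC
import Groth.Agent.EtDepth.K176.ERDbc
import Groth.Agent.EtDepth.K176.GoodDef
import Groth.Agent.Sga2lef.H134.Glue
import Groth.Agent.Sga4h.BidRed538Geo

/-!
# Vanishing of cohomology with compact support of `Rκ_* κ^* F` on affine space

`k` algebraically closed, `F` a sheaf on `𝔸^N`, `κ : O ⟶ 𝔸^N` open: `H^i_c(𝔸^N, Rκ_* κ^* F) = 0` for `i < n`, from
duality and the bounds on the supports of the dual.
-/

set_option autoImplicit false
universe u

-- kernel speed: the same instance path on `ℤ` as in the files on complexes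
attribute [-instance] ConditionallyCompletePartialOrderSup.toPartialOrder ConditionallyCompletePartialOrderInf.toPartialOrder

open CategoryTheory CategoryTheory.Limits AlgebraicGeometry Opposite Pretriangulated

attribute [local instance 5000] CategoryTheory.Abelian.toPreadditive
  CategoryTheory.Preadditive.preadditiveHasZeroMorphisms

noncomputable section

namespace K176.ThmCk

open Groth.Agent K176.GoodDef
attribute [local instance] HasDerivedCategory.standard
open scoped Groth.Agent.Sga4h.ModInst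
open Groth.Agent.Sga4h.ModRestr Groth.Agent.Etrest.ModAb Groth.Agent.Sga4h.EtPts Groth.Agent.Sga4h
  Groth.Agent.Sga4h.BidRed538Main Groth.Agent.Sga4B DerivedCategory

/-- The inputs. -/
structure Inp (Λ : Type (u + 1)) [CommRing Λ] (A P : Scheme.{u}) (m N : ℕ) : Prop where
  /-- biduality -/
  refl : ∀ G : CochainComplex (EtModW.Mod Λ A) ℤ, EtModD.IsDbc (Q.obj G) → (stdDual Λ A).Refl G
  /-- finite injective dimension -/
  bdd : Sga2lef.H88.LocDualMap.BddInj (unitCx Λ A) (2 * N)
  /-- biduality on the compactification -/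
  bid : BidIndLoc48.Bid (stdDual Λ P)
  /-- Poincaré duality on the compactification -/
  sd : ∃ (tr : CategoryTheory.Abelian.Ext.{u + 1}
      (EtModW.constMod Λ P Λ) (EtModW.constMod Λ P Λ) (2 * N) →+ ZMod m), BidGlobDual.SheafDual m tr

variable {Λ : Type (u + 1)} [CommRing Λ] {A P : Scheme.{u}} {m N : ℕ} (I : Inp Λ A P m N)

include I in
theorem bounds_D (K : CochainComplex (EtModW.Mod Λ A) ℤ) {a b : ℤ} (ha : (Q.obj K).IsGE a)
    (hb : (Q.obj K).IsLE b) :
    ∃ a' b' : ℤ, (Q.obj ((stdDual Λ A).D K)).IsGE a' ∧ (Q.obj ((stdDual Λ A).D K)).IsLE b' :=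
  ERDbc.exists_bounds (stdDual Λ A) (stdι Λ A) (quasiIso_stdι Λ A) (2 * N) I.bdd K ha hb

include I in
theorem isDbc_D [Finite Λ] [IsNoetherian A] [IsNoetherian P] (jA : A ⟶ P) [IsOpenImmersion jA]
    (F : EtModW.Mod Λ A) (hF : EtModW.IsConstructible Λ F) : EtModD.IsDbc (Q.obj ((stdDual Λ A).D ((CochainComplex.singleFunctor _ 0).obj F))) := by
  refine ⟨bounds_D I _ (a := 0) (b := 0) ?_ ?_, fun q => ?_⟩
  · rw [isGE_Q_obj_iff]
    infer_instance
  · rw [isLE_Q_obj_iff]
    infer_instance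
  · refine Etrest.ModCons.isConstructible_of_iso ((homologyFunctorFactors _ q).app _).symm ?_
    exact Sga2lef.H134.DualOpen.isConstructible_homology_D jA I.bid F hF q

include I in
/-- **Vanishing of `H^i_c(A, Rκ_* κ^* F)`.** -/
theorem main [Finite Λ] {k : Type u} [Field k] [IsAlgClosed k] (hm : 0 < m) (hΛ : (m : Λ) = 0)
    (b : P ⟶ Spec (CommRingCat.of k)) [LocallyOfFiniteType b] [QuasiCompact b]
    (f : A ⟶ Spec (CommRingCat.of k)) [LocallyOfFiniteType f] [IsAffine A]
    (jA : A ⟶ P) [IsOpenImmersion jA]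
    (n : ℕ) (F : EtModW.Mod Λ A) (hF : EtModW.IsConstructible Λ F)
    (hS : Sga2lef.H134.Glue.SuppOn Λ A N n F) : VanC Λ b jA n F := by
  refine ⟨fun {O} κ _ => ?_⟩
  have hNP : IsNoetherian P := Groth.Agent.CurvesA.ClosedPtSep.isNoetherian b
  have hqf : QuasiCompact f := inferInstance
  have hNA : IsNoetherian A := Groth.Agent.CurvesA.ClosedPtSep.isNoetherian f
  have hNO : IsNoetherian O := by
    have : QuasiCompact κ := inferInstance
    exact Groth.Agent.CurvesA.ClosedPtSep.isNoetherian (κ ≫ f)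
  have hG := isDbc_D I jA F hF
  have hEc := ERDbc.isDbc_ER κ _ hG
  have hR := I.refl _ hEc
  obtain ⟨⟨a, b, ha, hb⟩, -⟩ := hEc
  obtain ⟨a', b', ha', hb'⟩ := bounds_D I _ ha hb
  obtain ⟨tr, B⟩ := I.sd
  refine ThmC.main _ jA κ hm.ne' B n F (I.refl _ ((Dbc323.isDbc_Q_single_iff F 0).2 hF)) hR a' b' ha' hb'
    fun r hr => ⟨fun g g' => ?_⟩
  have key : ∀ g : (singleFunctor _ 0).obj (EtModW.constMod Λ A Λ) ⟶
      (Q.obj (DLoc.ER (ext Λ κ) (res Λ κ) ((stdDual Λ A).D ((CochainComplex.singleFunctor _ 0).obj F))))⟦r⟧, g = 0 := fun g =>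
    Sga2lef.H253.ArtinVan.hom_eq_zero f Λ hm hΛ _ a
      (2 * N - n) (fun b u hu d hd => hS.out b u (ERDbc.isZero_stk κ _ b u hu) d hd) r
      (by push_cast at hr; exact hr) g
  rw [key g, key g']

end K176.ThmCk

end
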